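import Cfsg.Agent.Lib.CosetEnum.Fi23.ThreeTrans

set_option autoImplicit false

/-!
The centraliser of a transposition of `Fi23` inside another group: embeddings and their fusion.
-/

namespace CfsgLib.FischerRecog23

open CfsgLib.CosetEnum

/-- The central involution of the centraliser of a transposition. -/
def zH : Fi23.H := ⟨Fi23.z, Fi23.z_mem⟩

/-- A letter of the centraliser. -/
def gH (k : ℕ) (hk : k ∈ Fi23.sel) : Fi23.H := ⟨Fi23.g k, Fi23.mem_sub k hk⟩

/-- The relator words of `Fi23` on the letters of the centraliser. -/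
def selRels : List (List ℕ) := Fi23.ls.filter fun l => l.all fun x => decide (x ∈ Fi23.sel)

/-- The word whose value is the central involution of the centraliser. -/
def zWord : List ℕ := (List.replicate 9 [1, 2, 3, 4, 5, 6, 8]).flatten

universe u

variable {G : Type u} [Group G]

/-- An identification of the centraliser of an element with that of a transposition of `Fi23`. -/
structure Emb (d : G) where
  /-- The embedding. -/
  ι : Fi23.H →* G
  inj : Function.Injective ι
  range_eq : ι.range = Subgroup.centralizer ({d} : Set G)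
  map_z : ι zH = d

/-- An identification under which the conjugates of the element are the transpositions. -/
structure Local (d : G) extends Emb d where
  fus : ∀ x : Fi23.H, IsConj d (ι x) ↔ (x : Cfsg.Spor.Fi23) ∈ conjugatesOf Fi23.z

theorem Emb.commute_map {d : G} (E : Emb d) (x : Fi23.H) : E.ι x * d = d * E.ι x :=
  Subgroup.mem_centralizer_singleton_iff.mp (E.range_eq ▸ ⟨x, rfl⟩ : E.ι x ∈ Subgroup.centralizer ({d} : Set G))

theorem Emb.exists_pre {d e : G} (E : Emb d) (h : e * d = d * e) : ∃ x, E.ι x = e :=
  MonoidHom.mem_range.mp (E.range_eq.symm ▸ Subgroup.mem_centralizer_singleton_iff.mpr h)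

theorem Emb.comm_iff {d : G} (E : Emb d) (x y : Fi23.H) :
    E.ι x * E.ι y = E.ι y * E.ι x ↔ (x : Cfsg.Spor.Fi23) * y = y * x := by
  rw [← map_mul, ← map_mul, E.inj.eq_iff]
  exact Subtype.ext_iff

/-- The identification moved by a conjugation. -/
def Local.conj {d : G} (L : Local d) (g : G) : Local (g * d * g⁻¹) where
  ι := (MulAut.conj g).toMonoidHom.comp L.ι
  inj := (MulAut.conj g).injective.comp L.inj
  map_z := by rw [MonoidHom.comp_apply, L.map_z]; rfl
  range_eq := by
    rw [MonoidHom.range_comp, L.range_eq]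
    ext v
    rw [Subgroup.mem_map_equiv, Subgroup.mem_centralizer_singleton_iff,
      Subgroup.mem_centralizer_singleton_iff, MulAut.conj_symm_apply]
    constructor
    · intro h
      calc v * (g * d * g⁻¹) = g * ((g⁻¹ * v * g) * d) * g⁻¹ := by group
        _ = g * (d * (g⁻¹ * v * g)) * g⁻¹ := by rw [h]
        _ = g * d * g⁻¹ * v := by group
    · intro h
      calc g⁻¹ * v * g * d = g⁻¹ * (v * (g * d * g⁻¹)) * g := by group
        _ = g⁻¹ * ((g * d * g⁻¹) * v) * g := by rw [h]
        _ = d * (g⁻¹ * v * g) := by group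
  fus x := by
    refine Iff.trans ?_ (L.fus x)
    show IsConj (g * d * g⁻¹) (g * L.ι x * g⁻¹) ↔ _
    have h1 : IsConj d (g * d * g⁻¹) := isConj_iff.mpr ⟨g, rfl⟩
    have h2 : IsConj (L.ι x) (g * L.ι x * g⁻¹) := isConj_iff.mpr ⟨g, rfl⟩
    exact ⟨fun h => (h1.trans h).trans h2.symm, fun h => (h1.symm.trans h).trans h2⟩

end CfsgLib.FischerRecog23
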