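import Cfsg.Agent.Lib.FischerRecog23.CertData

set_option autoImplicit false
set_option maxRecDepth 20000

/-!
Two lemmas on configurations of link points: a ninth point exists, and two completions commute.
-/

namespace CfsgLib.FischerRecog23

open CfsgLib.CosetEnum
open CfsgLib.CosetEnum.Fi23 (π z zCol lab root)
open CfsgLib.FischerSylow (D p0 fin step steps pathOK memb memb_spec commute_D chunk_spec)

local notation "M" => Cfsg.Spor.Fi23

/-- The test that fixed points of the base transposition carry the label of the link. -/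
noncomputable def labTest (k : ℕ) : Bool :=
  Nat.beq k 0 || !Nat.beq (zCol.get 20 k) k || Nat.beq (lab.get 20 k) 2

theorem labTest_0 : allFrom labTest 4096 0 = true := by decide +kernel

theorem labTest_1 : allFrom labTest 4096 4096 = true := by decide +kernel

theorem labTest_2 : allFrom labTest 4096 8192 = true := by decide +kernel

theorem labTest_3 : allFrom labTest 4096 12288 = true := by decide +kernel

theorem labTest_4 : allFrom labTest 4096 16384 = true := by decide +kernel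

theorem labTest_5 : allFrom labTest 4096 20480 = true := by decide +kernel

theorem labTest_6 : allFrom labTest 4096 24576 = true := by decide +kernel

theorem labTest_7 : allFrom labTest 2999 28672 = true := by decide +kernel

theorem labTest_ok (k : ℕ) (hk : k < 31671) : labTest k = true := by
  rcases (by omega : k < 4096 ∨ (4096 ≤ k ∧ k < 8192) ∨ (8192 ≤ k ∧ k < 12288) ∨ (12288 ≤ k ∧ k < 16384) ∨
      (16384 ≤ k ∧ k < 20480) ∨ (20480 ≤ k ∧ k < 24576) ∨ (24576 ≤ k ∧ k < 28672) ∨ (28672 ≤ k)) with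
    h | h | h | h | h | h | h | h
  · exact allFrom_spec _ 4096 0 labTest_0 k (by omega) (by omega)
  · exact allFrom_spec _ 4096 4096 labTest_1 k (by omega) (by omega)
  · exact allFrom_spec _ 4096 8192 labTest_2 k (by omega) (by omega)
  · exact allFrom_spec _ 4096 12288 labTest_3 k (by omega) (by omega)
  · exact allFrom_spec _ 4096 16384 labTest_4 k (by omega) (by omega)
  · exact allFrom_spec _ 4096 20480 labTest_5 k (by omega) (by omega)
  · exact allFrom_spec _ 4096 24576 labTest_6 k (by omega) (by omega)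
  · exact allFrom_spec _ 2999 28672 labTest_7 k (by omega) (by omega)

/-- A point of the link moves to the chosen one. -/
theorem to_canon {p : Fin 31671} (hp : Lk p) : ∃ g : M, π g p0 = p0 ∧ π g p = fin 52 := by
  have hz : zCol.get 20 p.val = p.val := by
    have h1 : π (D p0) p = p := commute_D.mp (commute_D.mpr hp.2).symm
    have := moves_base p
    rw [h1] at this
    exact this.symm
  have e0 : Nat.beq p.val 0 = false :=
    Bool.eq_false_iff.mpr fun e => hp.1 (Fin.ext (Nat.eq_of_beq_eq_true e))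
  have h := labTest_ok p.val p.2
  unfold labTest at h
  rw [hz, Nat.beq_refl, e0] at h
  simp only [Bool.not_true, Bool.false_or] at h
  have hmem : p ∈ {k : Fin 31671 | lab.get 20 k = 2} := Nat.eq_of_beq_eq_true h
  rw [← orbit_class π Fi23.H Fi23.subTable Fi23.sub_spec.1 Fi23.sub_spec.2 lab Fi23.orbPar root Fi23.orbit_ok
    (fin 52) 2 (show Nat.beq (lab.get 20 52) 2 = true by decide +kernel)
    (show Nat.beq (root.get 20 2) 52 = true by decide +kernel)] at hmem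
  obtain ⟨w, hw, hwp⟩ := hmem
  refine ⟨w⁻¹, ?_, ?_⟩
  · exact Fi23.sub_fix (by omega) _ (inv_mem hw)
  · rw [← hwp, map_inv, Equiv.Perm.inv_def, Equiv.symm_apply_apply]

theorem pre_comm {N : ℕ} {E : List (ℕ × ℕ)} {P : ℕ → Fin 31671} {fx : List Path} (hP : Conf N E P)
    (hpre : Pre fx P) (hn : 0 < fx.length ∧ fx.length < N) (h52 : (fx.getD 0 ([], 0)).2 = 52)
    (hE : adjb E 0 fx.length = false) : P fx.length ≠ fin 52 ∧ Comm (fin 52) (P fx.length) := by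
  have h0 : P 0 = fin 52 := by rw [hpre 0 hn.1, h52]
  obtain ⟨h1, h2⟩ := hP.2 0 (hn.1.trans hn.2) fx.length hn.2 (by omega)
  rw [h0] at h1 h2
  exact ⟨h1.symm, h2.mpr (of_decide_eq_false hE)⟩

theorem mem_S52 {N : ℕ} {E : List (ℕ × ℕ)} {P : ℕ → Fin 31671} {fx : List Path} (hP : Conf N E P)
    (hpre : Pre fx P) (hn : 0 < fx.length ∧ fx.length < N) (h52 : (fx.getD 0 ([], 0)).2 = 52)
    (hE : adjb E 0 fx.length = false) : (P fx.length).val ∈ Data.S52 := by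
  obtain ⟨h1, h2⟩ := pre_comm hP hpre hn h52 hE
  exact chunk_spec Data.S52_0 Data.S52_1 Data.S52_2 Data.S52_3 Data.S52_4 Data.S52_5 Data.S52_6 Data.S52_7
    (P fx.length).2 (sideTest_spec Data.t52_ok (hP.1 _ hn.2) h1 h2)

theorem conj_D (g : M) (p : Fin 31671) : D (π g p) = MulAut.conj g (D p) := (FischerSylow.D_conj g p).symm

theorem comm_map (g : M) (p q : Fin 31671) : Comm (π g p) (π g q) ↔ Comm p q := by
  rw [Comm, Comm, ← FischerSylow.D_conj, map_mul, map_mul, map_inv, Equiv.Perm.mul_apply,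
    Equiv.Perm.mul_apply, Equiv.Perm.inv_def, Equiv.symm_apply_apply, (π g).injective.eq_iff]

theorem lk_map {g : M} (hg : π g p0 = p0) (p : Fin 31671) : Lk (π g p) ↔ Lk p := by
  have h : Comm (π g p) (π g p0) ↔ Comm p p0 := comm_map g p p0
  rw [hg] at h
  exact and_congr (by rw [Ne, ← hg, (π g).injective.eq_iff, hg]) h

/-- The first lemma on reordered roles. -/
def QA (P : ℕ → Fin 31671) : Prop :=
  (D (P 2) * D (P 1) * D (P 3) * D (P 5) * D (P 7) * D (P 4) * D (P 6)) ^ 9 = D (P 0) →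
    ∃ j, Lk j ∧ ∀ i < 8, j ≠ P i ∧ (Comm (P i) j ↔ i ≠ 0 ∧ i ≠ 7)

theorem invA : Inv QA := by
  intro g P hg h hprod
  obtain ⟨j, hj, hj'⟩ := h (by
    simp only [conj_D, ← map_mul, ← map_pow]
    rw [hprod])
  refine ⟨π g⁻¹ j, (lk_map (by rw [map_inv, Equiv.Perm.inv_eq_iff_eq, hg]) j).mpr hj, fun i hi => ?_⟩
  have e : π g⁻¹ (π g (P i)) = P i := by rw [map_inv, Equiv.Perm.inv_def, Equiv.symm_apply_apply]
  obtain ⟨h1, h2⟩ := hj' i hi
  refine ⟨fun e' => h1 ((π g⁻¹).injective (e'.trans e.symm)), ?_⟩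
  rw [← h2, ← comm_map g⁻¹ (π g (P i)) j, e]

/-- The second lemma. -/
def QB (P : ℕ → Fin 31671) : Prop :=
  ∀ b j, Lk b → Lk j → (∀ i < 7, Comm (P i) b ↔ i ≠ 1 ∧ i ≠ 2) → (∀ i < 7, Comm (P i) j ↔ i ≠ 0 ∧ i ≠ 6) →
    Comm b j

theorem invB : Inv QB := by
  intro g P hg h b j hb hj hb' hj'
  exact (comm_map g b j).mp (h (π g b) (π g j) ((lk_map hg b).mpr hb) ((lk_map hg j).mpr hj)
    (fun i hi => (comm_map g _ _).trans (hb' i hi)) (fun i hi => (comm_map g _ _).trans (hj' i hi)))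

/-- The seven roles of the product in order. -/
def seven (l : List Path) : List Path :=
  [2, 1, 3, 5, 7, 4, 6].map fun i => l.getD i ([], 0)

/-- The test that a leaf violates the identity at a point. -/
noncomputable def badOK (l : List Path) (x : ℕ) : Bool :=
  l.all (fun q => pathOK q.1 q.2) && Nat.beq l.length 8 && Nat.blt x 31671 &&
    !Nat.beq (steps ((List.replicate 9 ((seven l).map Prod.fst)).flatten) x) (step (l.getD 0 ([], 0)).1 x)

theorem bad_leaf {l : List Path} {x : ℕ} (h : badOK l x = true) {P : ℕ → Fin 31671} (hpre : Pre l P) : QA P := by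
  unfold badOK at h
  simp only [Bool.and_eq_true, Bool.not_eq_true', List.all_eq_true] at h
  obtain ⟨⟨⟨hok, hlen⟩, hx⟩, hne⟩ := h
  have hlen := Nat.eq_of_beq_eq_true hlen
  have hget : ∀ i < 8, l.getD i ([], 0) ∈ l := fun i hi => by
    rw [List.getD_eq_getElem _ _ (hlen ▸ hi)]; exact List.getElem_mem _
  intro hprod
  exfalso
  have hL : ∀ q ∈ (List.replicate 9 (seven l)).flatten, pathOK q.1 q.2 = true := by
    intro q hq
    obtain ⟨m, hm, hqm⟩ := List.mem_flatten.mp hq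
    rw [List.eq_of_mem_replicate hm, seven, List.mem_map] at hqm
    obtain ⟨i, hi, rfl⟩ := hqm
    exact hok _ (hget i ((by decide : ∀ i ∈ [2, 1, 3, 5, 7, 4, 6], i < 8) i hi))
  have h1 := FischerSylow.pi_prod _ hL ⟨x, Nat.le_of_ble_eq_true hx⟩
  rw [List.map_flatten, List.map_replicate, List.prod_flatten, List.map_replicate, List.prod_replicate] at h1
  have e : ((seven l).map fun q => D (fin q.2)).prod =
      D (P 2) * D (P 1) * D (P 3) * D (P 5) * D (P 7) * D (P 4) * D (P 6) := by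
    rw [hpre 1 (by omega), hpre 2 (by omega), hpre 3 (by omega), hpre 4 (by omega), hpre 5 (by omega),
      hpre 6 (by omega), hpre 7 (by omega)]
    simp [seven, mul_assoc]
  rw [e, hprod, hpre 0 (by omega), (FischerSylow.pathOK_spec (hok _ (hget 0 (by omega)))).2,
    List.map_flatten, List.map_replicate] at h1
  rw [h1] at hne
  simp [Nat.beq_refl] at hne

/-- The row of the ninth point. -/
def rowJ : ℕ → Bool := fun i => !(Nat.beq i 0 || Nat.beq i 7)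

theorem rowJ_spec : ∀ i < 8, rowJ i = true ↔ i ≠ 0 ∧ i ≠ 7 := by decide

/-- The test of a ninth point at a leaf. -/
noncomputable def goodOK (l : List Path) (j : Path) : Bool :=
  Nat.beq l.length 8 && pathOK j.1 j.2 && !Nat.beq j.2 0 && Nat.beq (step j.1 0) 0 &&
    (List.range 8).all fun i => pathOK (l.getD i ([], 0)).1 (l.getD i ([], 0)).2 &&
      !Nat.beq j.2 (l.getD i ([], 0)).2 && (Nat.beq (step (l.getD i ([], 0)).1 j.2) j.2 == rowJ i)

theorem good_leaf {l : List Path} {q : Path} (h : goodOK l q = true) {P : ℕ → Fin 31671} {E : List (ℕ × ℕ)}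
    (_hP : Conf 8 E P) (hpre : Pre l P) : QA P := by
  unfold goodOK at h
  simp only [Bool.and_eq_true, Bool.not_eq_true', List.all_eq_true, List.mem_range] at h
  obtain ⟨⟨⟨⟨hlen, hq⟩, hq0⟩, hqz⟩, hrow⟩ := h
  have hlen := Nat.eq_of_beq_eq_true hlen
  obtain ⟨hqk, hm⟩ := FischerSylow.pathOK_spec hq
  intro _
  refine ⟨fin q.2, ⟨fun e => ?_, Fin.ext ((hm p0).trans (Nat.eq_of_beq_eq_true hqz))⟩, fun i hi => ?_⟩
  · have h1 := congrArg Fin.val e
    rw [FischerSylow.fin_val hqk] at h1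
    rw [h1] at hq0
    exact absurd hq0 (by simp [p0])
  obtain ⟨⟨hp, hne⟩, hb⟩ := hrow i hi
  obtain ⟨hpk, hmp⟩ := FischerSylow.pathOK_spec hp
  rw [hpre i (by omega)]
  refine ⟨fun e => ?_, ?_⟩
  · have h1 := congrArg Fin.val e
    rw [FischerSylow.fin_val hqk, FischerSylow.fin_val hpk] at h1
    rw [h1, Nat.beq_refl] at hne
    exact absurd hne (by simp)
  · have hiff : Comm (fin (l.getD i ([], 0)).2) (fin q.2) ↔ rowJ i = true := by
      rw [← beq_iff_eq.mp hb, Comm, Fin.ext_iff, hmp, FischerSylow.fin_val hqk]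
      exact ⟨fun e => by rw [e]; exact Nat.beq_refl _, fun e => Nat.eq_of_beq_eq_true e⟩
    rw [hiff]
    exact rowJ_spec i hi

/-- A point follows a row at a leaf. -/
noncomputable def follows (l : List Path) (x y k : ℕ) : Bool :=
  (List.range 7).all fun i => Nat.beq (step (l.getD i ([], 0)).1 k) k == !(Nat.beq i x || Nat.beq i y)

/-- The test of the completions at a leaf. -/
noncomputable def pairOK (l : List Path) (bs : List Path) (js : List ℕ) : Bool :=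
  Nat.beq l.length 7 && Nat.beq (l.getD 0 ([], 0)).2 52 && Nat.beq (l.getD 1 ([], 0)).2 106 &&
    l.all (fun q => pathOK q.1 q.2) &&
    Data.S52.all (fun k => Bool.rec (motive := fun _ => Bool) true (memb k (bs.map Prod.snd)) (follows l 1 2 k)) &&
    Data.S106.all (fun k => Bool.rec (motive := fun _ => Bool) true (memb k js) (follows l 0 6 k)) &&
    bs.all fun b => pathOK b.1 b.2 && js.all fun k => Nat.beq (step b.1 k) k

theorem follows_spec {l : List Path} {P : ℕ → Fin 31671} (hok : ∀ q ∈ l, pathOK q.1 q.2 = true)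
    (hlen : l.length = 7) (hpre : Pre l P) {x y : ℕ} {p : Fin 31671}
    (h : ∀ i < 7, Comm (P i) p ↔ i ≠ x ∧ i ≠ y) : follows l x y p.val = true := by
  unfold follows
  rw [List.all_eq_true]
  intro i hi
  rw [List.mem_range] at hi
  have hmem : l.getD i ([], 0) ∈ l := by
    rw [List.getD_eq_getElem _ _ (hlen ▸ hi)]; exact List.getElem_mem _
  obtain ⟨-, hm⟩ := FischerSylow.pathOK_spec (hok _ hmem)
  have hiff := h i hi
  rw [hpre i (by omega), Comm, Fin.ext_iff, hm] at hiff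
  rw [beq_iff_eq, Bool.eq_iff_iff]
  simp only [Bool.not_eq_true', Bool.or_eq_false_iff]
  rw [← Bool.not_eq_true, ← Bool.not_eq_true]
  constructor
  · intro e
    obtain ⟨e1, e2⟩ := hiff.mp (Nat.eq_of_beq_eq_true e)
    exact ⟨fun e' => e1 (Nat.eq_of_beq_eq_true e'), fun e' => e2 (Nat.eq_of_beq_eq_true e')⟩
  · rintro ⟨e1, e2⟩
    rw [hiff.mpr ⟨fun e => e1 (by rw [e]; exact Nat.beq_refl _), fun e => e2 (by rw [e]; exact Nat.beq_refl _)⟩]
    exact Nat.beq_refl _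

theorem pair_leaf {l : List Path} {bs : List Path} {js : List ℕ} (h : pairOK l bs js = true)
    {P : ℕ → Fin 31671} (hP : Conf 7 adjB P) (hpre : Pre l P) : QB P := by
  unfold pairOK at h
  simp only [Bool.and_eq_true, List.all_eq_true] at h
  obtain ⟨⟨⟨⟨⟨⟨hlen, h0⟩, h1⟩, hok⟩, hb52⟩, hj106⟩, hfix⟩ := h
  have hlen := Nat.eq_of_beq_eq_true hlen
  have e0 : P 0 = fin 52 := by rw [hpre 0 (by omega), Nat.eq_of_beq_eq_true h0]
  have e1 : P 1 = fin 106 := by rw [hpre 1 (by omega), Nat.eq_of_beq_eq_true h1]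
  intro b j hb hj hb' hj'
  have h01 : Comm (P 0) (P 1) := (hP.2 0 (by omega) 1 (by omega) (by omega)).2.mpr (by decide)
  have h10 : Comm (P 1) (P 0) := by rw [comm_iff] at h01 ⊢; exact h01.symm
  have hb0 : b ≠ fin 52 := by
    rintro e
    rw [← e0] at e
    subst e
    exact ((hb' 1 (by omega)).mp h10).1 rfl
  have hj1 : j ≠ fin 106 := by
    rintro e
    rw [← e1] at e
    subst e
    exact ((hj' 0 (by omega)).mp h01).1 rfl
  have hbS := chunk_spec Data.S52_0 Data.S52_1 Data.S52_2 Data.S52_3 Data.S52_4 Data.S52_5 Data.S52_6 Data.S52_7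
    b.2 (sideTest_spec Data.t52_ok hb hb0 (by rw [← e0]; exact (hb' 0 (by omega)).mpr (by omega)))
  have hjS := chunk_spec Data.S106_0 Data.S106_1 Data.S106_2 Data.S106_3 Data.S106_4 Data.S106_5 Data.S106_6
    Data.S106_7 j.2 (sideTest_spec Data.t106_ok hj hj1 (by rw [← e1]; exact (hj' 1 (by omega)).mpr (by omega)))
  have hb1 := hb52 _ hbS
  rw [follows_spec hok hlen hpre hb'] at hb1
  have hj2 := hj106 _ hjS
  rw [follows_spec hok hlen hpre hj'] at hj2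
  obtain ⟨q, hq, hqb⟩ := List.mem_map.mp (memb_spec hb1)
  obtain ⟨hq1, hq2⟩ := hfix q hq
  obtain ⟨hqk, hm⟩ := FischerSylow.pathOK_spec hq1
  have eb : b = fin q.2 := by rw [hqb, FischerSylow.fin_coe]
  refine Fin.ext ?_
  rw [eb, hm]
  exact Nat.eq_of_beq_eq_true (hq2 _ (memb_spec hj2))

/-- A leaf. -/
def lA0002000 : List Path :=
  [([7,6,5,4,3,8,2,3,4,5,6,7], 52),
   ([9,7,6,5,4,3,8,1,2,3,4,5,6,7], 106),
   ([9,7,6,5,4,3,8,0,1,2,3,4,5,6,7], 134),
   ([9,7,6,5,4,2,3,8,1,2,3,4,5,6,7], 148),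
   ([3,4,2,3,8,9,7,6,5,3,4,2,3,8,1,2,3,4,5,6,7], 1288),
   ([7,5,6,4,5,3,4,1,2,3,8,0,1,2,3,4,5,6,7], 522),
   ([3,8,2,3,4,1,2,3,8,7,5,6,4,5,3,4,2,3,8,1,2,3,4,5,6,7], 5265),
   ([7,6,5,4,1,2,3,8,0,1,2,3,4,5,6,7], 174)]

theorem lA0002000_ok : badOK lA0002000 8004 = true := by decide +kernel

/-- A leaf. -/
def lA0003000 : List Path :=
  [([7,6,5,4,3,8,2,3,4,5,6,7], 52),
   ([9,7,6,5,4,3,8,1,2,3,4,5,6,7], 106),
   ([9,7,6,5,4,3,8,0,1,2,3,4,5,6,7], 134),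
   ([9,7,6,5,4,2,3,8,1,2,3,4,5,6,7], 148),
   ([3,4,0,1,2,3,8,9,8,7,6,5,3,4,2,3,8,0,1,2,3,4,5,6,7], 3953),
   ([7,5,6,4,5,3,4,1,2,3,8,0,1,2,3,4,5,6,7], 522),
   ([3,8,2,3,4,1,2,3,8,7,5,6,4,5,3,4,2,3,8,1,2,3,4,5,6,7], 5265),
   ([7,6,5,4,1,2,3,8,0,1,2,3,4,5,6,7], 174)]

theorem lA0003000_ok : badOK lA0003000 8004 = true := by decide +kernel

/-- A leaf. -/
def lA0004000 : List Path :=
  [([7,6,5,4,3,8,2,3,4,5,6,7], 52),
   ([9,7,6,5,4,3,8,1,2,3,4,5,6,7], 106),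
   ([9,7,6,5,4,3,8,0,1,2,3,4,5,6,7], 134),
   ([9,7,6,5,4,2,3,8,1,2,3,4,5,6,7], 148),
   ([3,4,1,2,3,8,9,3,8,7,6,5,2,3,4,1,2,3,8,0,1,2,3,4,5,6,7], 5463),
   ([7,5,6,4,5,3,4,1,2,3,8,0,1,2,3,4,5,6,7], 522),
   ([3,8,2,3,4,1,2,3,8,7,5,6,4,5,3,4,2,3,8,1,2,3,4,5,6,7], 5265),
   ([7,6,5,4,1,2,3,8,0,1,2,3,4,5,6,7], 174)]

theorem lA0004000_ok : goodOK lA0004000 ([9,7,4,5,6,3,4,5,2,3,4,1,2,3,8,0,1,2,3,4,5,6,7], 1878) = true := by decide +kernel

/-- A leaf. -/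
def lB000300 : List Path :=
  [([7,6,5,4,3,8,2,3,4,5,6,7], 52),
   ([9,7,6,5,4,3,8,1,2,3,4,5,6,7], 106),
   ([7,6,5,4,1,2,3,8,0,1,2,3,4,5,6,7], 174),
   ([7,6,5,3,4,1,2,3,8,0,1,2,3,4,5,6,7], 249),
   ([3,4,2,3,8,9,7,6,5,3,4,2,3,8,0,1,2,3,4,5,6,7], 1611),
   ([4,5,3,4,2,3,8,9,7,6,5,3,4,2,3,8,0,1,2,3,4,5,6,7], 2998),
   ([8,3,4,2,3,8,9,7,6,4,5,3,4,2,3,8,0,1,2,3,4,5,6,7], 2942)]

theorem lB000300_ok : pairOK lB000300 [] [3518,4677] = true := by decide +kernel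

/-- A leaf. -/
def lB000301 : List Path :=
  [([7,6,5,4,3,8,2,3,4,5,6,7], 52),
   ([9,7,6,5,4,3,8,1,2,3,4,5,6,7], 106),
   ([7,6,5,4,1,2,3,8,0,1,2,3,4,5,6,7], 174),
   ([7,6,5,3,4,1,2,3,8,0,1,2,3,4,5,6,7], 249),
   ([3,4,2,3,8,9,7,6,5,3,4,2,3,8,0,1,2,3,4,5,6,7], 1611),
   ([4,5,3,4,2,3,8,9,7,6,5,3,4,2,3,8,0,1,2,3,4,5,6,7], 2998),
   ([9,8,3,4,1,2,3,8,9,7,6,4,5,3,4,2,3,8,0,1,2,3,4,5,6,7], 5024)]

theorem lB000301_ok : pairOK lB000301 [([0,1,2,3,8,4,5,3,4,1,2,3,8,9,7,6,5,3,4,1,2,3,8,0,1,2,3,4,5,6,7], 13113), ([8,6,4,5,2,3,4,0,1,2,3,8,9,8,7,6,5,2,3,4,1,2,3,8,0,1,2,3,4,5,6,7], 14231)] [] = true := by decide +kernel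

/-- A leaf. -/
def lB000302 : List Path :=
  [([7,6,5,4,3,8,2,3,4,5,6,7], 52),
   ([9,7,6,5,4,3,8,1,2,3,4,5,6,7], 106),
   ([7,6,5,4,1,2,3,8,0,1,2,3,4,5,6,7], 174),
   ([7,6,5,3,4,1,2,3,8,0,1,2,3,4,5,6,7], 249),
   ([3,4,2,3,8,9,7,6,5,3,4,2,3,8,0,1,2,3,4,5,6,7], 1611),
   ([4,5,3,4,2,3,8,9,7,6,5,3,4,2,3,8,0,1,2,3,4,5,6,7], 2998),
   ([2,3,4,1,2,3,8,9,3,8,7,6,5,2,3,4,1,2,3,8,0,1,2,3,4,5,6,7], 6789)]

theorem lB000302_ok : pairOK lB000302 [([8,6,4,5,2,3,4,1,2,3,8,9,8,7,6,5,3,4,1,2,3,8,0,1,2,3,4,5,6,7], 10911), ([4,1,2,3,8,4,5,2,3,4,1,2,3,8,9,7,6,5,4,1,2,3,8,0,1,2,3,4,5,6,7], 13573)] [3518,4677] = true := by decide +kernel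

/-- A leaf. -/
def lB000303 : List Path :=
  [([7,6,5,4,3,8,2,3,4,5,6,7], 52),
   ([9,7,6,5,4,3,8,1,2,3,4,5,6,7], 106),
   ([7,6,5,4,1,2,3,8,0,1,2,3,4,5,6,7], 174),
   ([7,6,5,3,4,1,2,3,8,0,1,2,3,4,5,6,7], 249),
   ([3,4,2,3,8,9,7,6,5,3,4,2,3,8,0,1,2,3,4,5,6,7], 1611),
   ([4,5,3,4,2,3,8,9,7,6,5,3,4,2,3,8,0,1,2,3,4,5,6,7], 2998),
   ([5,4,3,8,2,3,4,1,2,3,8,7,5,6,4,5,3,4,2,3,8,1,2,3,4,5,6,7], 8005)]

theorem lB000303_ok : pairOK lB000303 [([4,2,3,8,9,7,6,5,3,4,2,3,8,1,2,3,4,5,6,7], 921), ([5,3,4,1,2,3,8,6,7,5,6,4,5,3,4,2,3,8,1,2,3,4,5,6,7], 4132)] [3518,4677] = true := by decide +kernel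

/-- A leaf. -/
def lB000400 : List Path :=
  [([7,6,5,4,3,8,2,3,4,5,6,7], 52),
   ([9,7,6,5,4,3,8,1,2,3,4,5,6,7], 106),
   ([7,6,5,4,1,2,3,8,0,1,2,3,4,5,6,7], 174),
   ([7,6,5,3,4,1,2,3,8,0,1,2,3,4,5,6,7], 249),
   ([3,4,2,3,8,9,7,6,4,5,3,4,2,3,8,1,2,3,4,5,6,7], 1746),
   ([4,5,3,4,2,3,8,9,7,6,5,3,4,2,3,8,0,1,2,3,4,5,6,7], 2998),
   ([8,3,4,2,3,8,9,7,6,4,5,3,4,2,3,8,0,1,2,3,4,5,6,7], 2942)]

theorem lB000400_ok : pairOK lB000400 [] [2171,11404] = true := by decide +kernel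

/-- A leaf. -/
def lB000401 : List Path :=
  [([7,6,5,4,3,8,2,3,4,5,6,7], 52),
   ([9,7,6,5,4,3,8,1,2,3,4,5,6,7], 106),
   ([7,6,5,4,1,2,3,8,0,1,2,3,4,5,6,7], 174),
   ([7,6,5,3,4,1,2,3,8,0,1,2,3,4,5,6,7], 249),
   ([3,4,2,3,8,9,7,6,4,5,3,4,2,3,8,1,2,3,4,5,6,7], 1746),
   ([4,5,3,4,2,3,8,9,7,6,5,3,4,2,3,8,0,1,2,3,4,5,6,7], 2998),
   ([9,8,3,4,1,2,3,8,9,7,6,4,5,3,4,2,3,8,0,1,2,3,4,5,6,7], 5024)]

theorem lB000401_ok : pairOK lB000401 [([8,4,5,1,2,3,4,0,1,2,3,8,9,7,6,5,2,3,4,1,2,3,8,0,1,2,3,4,5,6,7], 12110), ([4,3,8,5,2,3,4,0,1,2,3,8,9,8,7,6,5,2,3,4,1,2,3,8,0,1,2,3,4,5,6,7], 14236)] [2171,11404] = true := by decide +kernel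

/-- A leaf. -/
def lB000402 : List Path :=
  [([7,6,5,4,3,8,2,3,4,5,6,7], 52),
   ([9,7,6,5,4,3,8,1,2,3,4,5,6,7], 106),
   ([7,6,5,4,1,2,3,8,0,1,2,3,4,5,6,7], 174),
   ([7,6,5,3,4,1,2,3,8,0,1,2,3,4,5,6,7], 249),
   ([3,4,2,3,8,9,7,6,4,5,3,4,2,3,8,1,2,3,4,5,6,7], 1746),
   ([4,5,3,4,2,3,8,9,7,6,5,3,4,2,3,8,0,1,2,3,4,5,6,7], 2998),
   ([2,3,4,1,2,3,8,9,3,8,7,6,5,2,3,4,1,2,3,8,0,1,2,3,4,5,6,7], 6789)]

theorem lB000402_ok : pairOK lB000402 [([0,1,2,3,8,4,5,3,4,1,2,3,8,9,7,6,5,2,3,4,1,2,3,8,0,1,2,3,4,5,6,7], 14343), ([8,5,6,4,5,2,3,4,0,1,2,3,8,9,8,7,6,5,2,3,4,1,2,3,8,0,1,2,3,4,5,6,7], 16416)] [2171,11404] = true := by decide +kernel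

/-- A leaf. -/
def lB000403 : List Path :=
  [([7,6,5,4,3,8,2,3,4,5,6,7], 52),
   ([9,7,6,5,4,3,8,1,2,3,4,5,6,7], 106),
   ([7,6,5,4,1,2,3,8,0,1,2,3,4,5,6,7], 174),
   ([7,6,5,3,4,1,2,3,8,0,1,2,3,4,5,6,7], 249),
   ([3,4,2,3,8,9,7,6,4,5,3,4,2,3,8,1,2,3,4,5,6,7], 1746),
   ([4,5,3,4,2,3,8,9,7,6,5,3,4,2,3,8,0,1,2,3,4,5,6,7], 2998),
   ([5,4,3,8,2,3,4,1,2,3,8,7,5,6,4,5,3,4,2,3,8,1,2,3,4,5,6,7], 8005)]

theorem lB000403_ok : pairOK lB000403 [([4,2,3,8,9,7,6,4,5,3,4,2,3,8,0,1,2,3,4,5,6,7], 1583), ([9,8,3,4,2,3,8,9,7,6,5,3,4,1,2,3,8,0,1,2,3,4,5,6,7], 3626)] [] = true := by decide +kernel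

/-- A leaf. -/
def lB000500 : List Path :=
  [([7,6,5,4,3,8,2,3,4,5,6,7], 52),
   ([9,7,6,5,4,3,8,1,2,3,4,5,6,7], 106),
   ([7,6,5,4,1,2,3,8,0,1,2,3,4,5,6,7], 174),
   ([7,6,5,3,4,1,2,3,8,0,1,2,3,4,5,6,7], 249),
   ([8,3,4,2,3,8,9,7,6,5,3,4,2,3,8,1,2,3,4,5,6,7], 1780),
   ([4,5,3,4,2,3,8,9,7,6,5,3,4,2,3,8,0,1,2,3,4,5,6,7], 2998),
   ([8,3,4,2,3,8,9,7,6,4,5,3,4,2,3,8,0,1,2,3,4,5,6,7], 2942)]

theorem lB000500_ok : pairOK lB000500 [] [4521,5916] = true := by decide +kernel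

/-- A leaf. -/
def lB000501 : List Path :=
  [([7,6,5,4,3,8,2,3,4,5,6,7], 52),
   ([9,7,6,5,4,3,8,1,2,3,4,5,6,7], 106),
   ([7,6,5,4,1,2,3,8,0,1,2,3,4,5,6,7], 174),
   ([7,6,5,3,4,1,2,3,8,0,1,2,3,4,5,6,7], 249),
   ([8,3,4,2,3,8,9,7,6,5,3,4,2,3,8,1,2,3,4,5,6,7], 1780),
   ([4,5,3,4,2,3,8,9,7,6,5,3,4,2,3,8,0,1,2,3,4,5,6,7], 2998),
   ([9,8,3,4,1,2,3,8,9,7,6,4,5,3,4,2,3,8,0,1,2,3,4,5,6,7], 5024)]

theorem lB000501_ok : pairOK lB000501 [([1,2,3,8,4,5,3,4,1,2,3,8,9,7,6,4,5,3,4,1,2,3,8,0,1,2,3,4,5,6,7], 12772), ([8,6,3,4,5,2,3,4,1,2,3,8,9,8,7,6,5,2,3,4,1,2,3,8,0,1,2,3,4,5,6,7], 14247)] [4521,5916] = true := by decide +kernel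

/-- A leaf. -/
def lB000502 : List Path :=
  [([7,6,5,4,3,8,2,3,4,5,6,7], 52),
   ([9,7,6,5,4,3,8,1,2,3,4,5,6,7], 106),
   ([7,6,5,4,1,2,3,8,0,1,2,3,4,5,6,7], 174),
   ([7,6,5,3,4,1,2,3,8,0,1,2,3,4,5,6,7], 249),
   ([8,3,4,2,3,8,9,7,6,5,3,4,2,3,8,1,2,3,4,5,6,7], 1780),
   ([4,5,3,4,2,3,8,9,7,6,5,3,4,2,3,8,0,1,2,3,4,5,6,7], 2998),
   ([2,3,4,1,2,3,8,9,3,8,7,6,5,2,3,4,1,2,3,8,0,1,2,3,4,5,6,7], 6789)]

theorem lB000502_ok : pairOK lB000502 [([4,3,8,5,2,3,4,1,2,3,8,9,8,7,6,5,3,4,1,2,3,8,0,1,2,3,4,5,6,7], 10917), ([1,2,3,8,6,4,5,3,4,1,2,3,8,9,7,6,5,3,4,1,2,3,8,0,1,2,3,4,5,6,7], 13110)] [] = true := by decide +kernel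

/-- A leaf. -/
def lB000503 : List Path :=
  [([7,6,5,4,3,8,2,3,4,5,6,7], 52),
   ([9,7,6,5,4,3,8,1,2,3,4,5,6,7], 106),
   ([7,6,5,4,1,2,3,8,0,1,2,3,4,5,6,7], 174),
   ([7,6,5,3,4,1,2,3,8,0,1,2,3,4,5,6,7], 249),
   ([8,3,4,2,3,8,9,7,6,5,3,4,2,3,8,1,2,3,4,5,6,7], 1780),
   ([4,5,3,4,2,3,8,9,7,6,5,3,4,2,3,8,0,1,2,3,4,5,6,7], 2998),
   ([5,4,3,8,2,3,4,1,2,3,8,7,5,6,4,5,3,4,2,3,8,1,2,3,4,5,6,7], 8005)]

theorem lB000503_ok : pairOK lB000503 [([8,3,4,2,3,8,9,7,6,5,4,2,3,8,0,1,2,3,4,5,6,7], 1667), ([9,3,8,5,6,4,5,3,4,2,3,8,9,7,6,5,4,1,2,3,8,0,1,2,3,4,5,6,7], 9428)] [4521,5916] = true := by decide +kernel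

theorem QA_base (P : ℕ → Fin 31671) (hP : Conf 8 Data.adjA' P) (hg1 : P 0 = fin 52) : QA P := by
  have hpre : Pre [(Data.t52, 52)] P := fun i hi => by
    obtain rfl : i = 0 := by simpa using hi
    exact hg1
  refine descend (S := Data.S52) invA Data.nA Data.nA_ok (by decide) (fun P hP hpre => mem_S52 hP hpre (by decide) (by decide) (by decide)) ?_ P hP hpre
  intro r hr P hP hpre hk
  simp only [Data.nA, List.mem_cons, List.not_mem_nil, or_false] at hr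
  subst hr
  replace hpre := hpre.snoc (t := [9,7,6,5,4,3,8,1,2,3,4,5,6,7]) hk
  refine descend (S := Data.S52) invA Data.nA0 Data.nA0_ok (by decide) (fun P hP hpre => mem_S52 hP hpre (by decide) (by decide) (by decide)) ?_ P hP hpre
  intro r hr P hP hpre hk
  simp only [Data.nA0, List.mem_cons, List.not_mem_nil, or_false] at hr
  subst hr
  replace hpre := hpre.snoc (t := [9,7,6,5,4,3,8,0,1,2,3,4,5,6,7]) hk
  refine descend (S := Data.S52) invA Data.nA00 Data.nA00_ok (by decide) (fun P hP hpre => mem_S52 hP hpre (by decide) (by decide) (by decide)) ?_ P hP hpre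
  intro r hr P hP hpre hk
  simp only [Data.nA00, List.mem_cons, List.not_mem_nil, or_false] at hr
  subst hr
  replace hpre := hpre.snoc (t := [9,7,6,5,4,2,3,8,1,2,3,4,5,6,7]) hk
  refine descend (S := Data.S52) invA Data.nA000 Data.nA000_ok (by decide) (fun P hP hpre => mem_S52 hP hpre (by decide) (by decide) (by decide)) ?_ P hP hpre
  intro r hr P hP hpre hk
  simp only [Data.nA000, List.mem_cons, List.not_mem_nil, or_false] at hr
  rcases hr with rfl | rfl | rfl | rfl | rfl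
  · replace hpre := hpre.snoc (t := [8,9,7,6,5,4,3,8,1,2,3,4,5,6,7]) hk
    refine descend (S := Data.S52) invA Data.nA0000 Data.nA0000_ok (by decide) (fun P hP hpre => mem_S52 hP hpre (by decide) (by decide) (by decide)) ?_ P hP hpre
    intro r hr P hP hpre hk
    exact absurd hr (List.not_mem_nil)
  · replace hpre := hpre.snoc (t := [8,9,7,6,5,4,2,3,8,0,1,2,3,4,5,6,7]) hk
    refine descend (S := Data.S52) invA Data.nA0001 Data.nA0001_ok (by decide) (fun P hP hpre => mem_S52 hP hpre (by decide) (by decide) (by decide)) ?_ P hP hpre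
    intro r hr P hP hpre hk
    exact absurd hr (List.not_mem_nil)
  · replace hpre := hpre.snoc (t := [3,4,2,3,8,9,7,6,5,3,4,2,3,8,1,2,3,4,5,6,7]) hk
    refine descend (S := Data.S52) invA Data.nA0002 Data.nA0002_ok (by decide) (fun P hP hpre => mem_S52 hP hpre (by decide) (by decide) (by decide)) ?_ P hP hpre
    intro r hr P hP hpre hk
    simp only [Data.nA0002, List.mem_cons, List.not_mem_nil, or_false] at hr
    subst hr
    replace hpre := hpre.snoc (t := [7,5,6,4,5,3,4,1,2,3,8,0,1,2,3,4,5,6,7]) hk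
    refine descend (S := Data.S52) invA Data.nA00020 Data.nA00020_ok (by decide) (fun P hP hpre => mem_S52 hP hpre (by decide) (by decide) (by decide)) ?_ P hP hpre
    intro r hr P hP hpre hk
    simp only [Data.nA00020, List.mem_cons, List.not_mem_nil, or_false] at hr
    subst hr
    replace hpre := hpre.snoc (t := [3,8,2,3,4,1,2,3,8,7,5,6,4,5,3,4,2,3,8,1,2,3,4,5,6,7]) hk
    refine descend (S := Data.S52) invA Data.nA000200 Data.nA000200_ok (by decide) (fun P hP hpre => mem_S52 hP hpre (by decide) (by decide) (by decide)) ?_ P hP hpre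
    intro r hr P hP hpre hk
    simp only [Data.nA000200, List.mem_cons, List.not_mem_nil, or_false] at hr
    subst hr
    replace hpre := hpre.snoc (t := [7,6,5,4,1,2,3,8,0,1,2,3,4,5,6,7]) hk
    exact bad_leaf lA0002000_ok hpre
  · replace hpre := hpre.snoc (t := [3,4,0,1,2,3,8,9,8,7,6,5,3,4,2,3,8,0,1,2,3,4,5,6,7]) hk
    refine descend (S := Data.S52) invA Data.nA0003 Data.nA0003_ok (by decide) (fun P hP hpre => mem_S52 hP hpre (by decide) (by decide) (by decide)) ?_ P hP hpre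
    intro r hr P hP hpre hk
    simp only [Data.nA0003, List.mem_cons, List.not_mem_nil, or_false] at hr
    subst hr
    replace hpre := hpre.snoc (t := [7,5,6,4,5,3,4,1,2,3,8,0,1,2,3,4,5,6,7]) hk
    refine descend (S := Data.S52) invA Data.nA00030 Data.nA00030_ok (by decide) (fun P hP hpre => mem_S52 hP hpre (by decide) (by decide) (by decide)) ?_ P hP hpre
    intro r hr P hP hpre hk
    simp only [Data.nA00030, List.mem_cons, List.not_mem_nil, or_false] at hr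
    subst hr
    replace hpre := hpre.snoc (t := [3,8,2,3,4,1,2,3,8,7,5,6,4,5,3,4,2,3,8,1,2,3,4,5,6,7]) hk
    refine descend (S := Data.S52) invA Data.nA000300 Data.nA000300_ok (by decide) (fun P hP hpre => mem_S52 hP hpre (by decide) (by decide) (by decide)) ?_ P hP hpre
    intro r hr P hP hpre hk
    simp only [Data.nA000300, List.mem_cons, List.not_mem_nil, or_false] at hr
    subst hr
    replace hpre := hpre.snoc (t := [7,6,5,4,1,2,3,8,0,1,2,3,4,5,6,7]) hk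
    exact bad_leaf lA0003000_ok hpre
  · replace hpre := hpre.snoc (t := [3,4,1,2,3,8,9,3,8,7,6,5,2,3,4,1,2,3,8,0,1,2,3,4,5,6,7]) hk
    refine descend (S := Data.S52) invA Data.nA0004 Data.nA0004_ok (by decide) (fun P hP hpre => mem_S52 hP hpre (by decide) (by decide) (by decide)) ?_ P hP hpre
    intro r hr P hP hpre hk
    simp only [Data.nA0004, List.mem_cons, List.not_mem_nil, or_false] at hr
    subst hr
    replace hpre := hpre.snoc (t := [7,5,6,4,5,3,4,1,2,3,8,0,1,2,3,4,5,6,7]) hk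
    refine descend (S := Data.S52) invA Data.nA00040 Data.nA00040_ok (by decide) (fun P hP hpre => mem_S52 hP hpre (by decide) (by decide) (by decide)) ?_ P hP hpre
    intro r hr P hP hpre hk
    simp only [Data.nA00040, List.mem_cons, List.not_mem_nil, or_false] at hr
    subst hr
    replace hpre := hpre.snoc (t := [3,8,2,3,4,1,2,3,8,7,5,6,4,5,3,4,2,3,8,1,2,3,4,5,6,7]) hk
    refine descend (S := Data.S52) invA Data.nA000400 Data.nA000400_ok (by decide) (fun P hP hpre => mem_S52 hP hpre (by decide) (by decide) (by decide)) ?_ P hP hpre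
    intro r hr P hP hpre hk
    simp only [Data.nA000400, List.mem_cons, List.not_mem_nil, or_false] at hr
    subst hr
    replace hpre := hpre.snoc (t := [7,6,5,4,1,2,3,8,0,1,2,3,4,5,6,7]) hk
    exact good_leaf lA0004000_ok hP hpre

theorem QA_all (P : ℕ → Fin 31671) (hP : Conf 8 Data.adjA' P) : QA P := by
  obtain ⟨g, hg, hg1⟩ := to_canon (hP.1 0 (by omega))
  exact invA g P hg (QA_base _ (conf_map hP hg) hg1)

theorem QB_base (P : ℕ → Fin 31671) (hP : Conf 7 adjB P) (hg1 : P 0 = fin 52) : QB P := by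
  have hpre : Pre [(Data.t52, 52)] P := fun i hi => by
    obtain rfl : i = 0 := by simpa using hi
    exact hg1
  refine descend (S := Data.S52) invB Data.nB Data.nB_ok (by decide) (fun P hP hpre => mem_S52 hP hpre (by decide) (by decide) (by decide)) ?_ P hP hpre
  intro r hr P hP hpre hk
  simp only [Data.nB, List.mem_cons, List.not_mem_nil, or_false] at hr
  subst hr
  replace hpre := hpre.snoc (t := [9,7,6,5,4,3,8,1,2,3,4,5,6,7]) hk
  refine descend (S := Data.S52) invB Data.nB0 Data.nB0_ok (by decide) (fun P hP hpre => mem_S52 hP hpre (by decide) (by decide) (by decide)) ?_ P hP hpre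
  intro r hr P hP hpre hk
  simp only [Data.nB0, List.mem_cons, List.not_mem_nil, or_false] at hr
  subst hr
  replace hpre := hpre.snoc (t := [7,6,5,4,1,2,3,8,0,1,2,3,4,5,6,7]) hk
  refine descend (S := Data.S52) invB Data.nB00 Data.nB00_ok (by decide) (fun P hP hpre => mem_S52 hP hpre (by decide) (by decide) (by decide)) ?_ P hP hpre
  intro r hr P hP hpre hk
  simp only [Data.nB00, List.mem_cons, List.not_mem_nil, or_false] at hr
  subst hr
  replace hpre := hpre.snoc (t := [7,6,5,3,4,1,2,3,8,0,1,2,3,4,5,6,7]) hk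
  refine descend (S := Data.S52) invB Data.nB000 Data.nB000_ok (by decide) (fun P hP hpre => mem_S52 hP hpre (by decide) (by decide) (by decide)) ?_ P hP hpre
  intro r hr P hP hpre hk
  simp only [Data.nB000, List.mem_cons, List.not_mem_nil, or_false] at hr
  rcases hr with rfl | rfl | rfl | rfl | rfl | rfl
  · replace hpre := hpre.snoc (t := [9,7,6,5,4,2,3,8,0,1,2,3,4,5,6,7]) hk
    refine descend (S := Data.S52) invB Data.nB0000 Data.nB0000_ok (by decide) (fun P hP hpre => mem_S52 hP hpre (by decide) (by decide) (by decide)) ?_ P hP hpre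
    intro r hr P hP hpre hk
    exact absurd hr (List.not_mem_nil)
  · replace hpre := hpre.snoc (t := [8,9,7,6,5,4,3,8,0,1,2,3,4,5,6,7]) hk
    refine descend (S := Data.S52) invB Data.nB0001 Data.nB0001_ok (by decide) (fun P hP hpre => mem_S52 hP hpre (by decide) (by decide) (by decide)) ?_ P hP hpre
    intro r hr P hP hpre hk
    exact absurd hr (List.not_mem_nil)
  · replace hpre := hpre.snoc (t := [8,9,7,6,5,4,2,3,8,1,2,3,4,5,6,7]) hk
    refine descend (S := Data.S52) invB Data.nB0002 Data.nB0002_ok (by decide) (fun P hP hpre => mem_S52 hP hpre (by decide) (by decide) (by decide)) ?_ P hP hpre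
    intro r hr P hP hpre hk
    exact absurd hr (List.not_mem_nil)
  · replace hpre := hpre.snoc (t := [3,4,2,3,8,9,7,6,5,3,4,2,3,8,0,1,2,3,4,5,6,7]) hk
    refine descend (S := Data.S52) invB Data.nB0003 Data.nB0003_ok (by decide) (fun P hP hpre => mem_S52 hP hpre (by decide) (by decide) (by decide)) ?_ P hP hpre
    intro r hr P hP hpre hk
    simp only [Data.nB0003, List.mem_cons, List.not_mem_nil, or_false] at hr
    subst hr
    replace hpre := hpre.snoc (t := [4,5,3,4,2,3,8,9,7,6,5,3,4,2,3,8,0,1,2,3,4,5,6,7]) hk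
    refine descend (S := Data.S52) invB Data.nB00030 Data.nB00030_ok (by decide) (fun P hP hpre => mem_S52 hP hpre (by decide) (by decide) (by decide)) ?_ P hP hpre
    intro r hr P hP hpre hk
    simp only [Data.nB00030, List.mem_cons, List.not_mem_nil, or_false] at hr
    rcases hr with rfl | rfl | rfl | rfl
    · replace hpre := hpre.snoc (t := [8,3,4,2,3,8,9,7,6,4,5,3,4,2,3,8,0,1,2,3,4,5,6,7]) hk
      exact pair_leaf lB000300_ok hP hpre
    · replace hpre := hpre.snoc (t := [9,8,3,4,1,2,3,8,9,7,6,4,5,3,4,2,3,8,0,1,2,3,4,5,6,7]) hk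
      exact pair_leaf lB000301_ok hP hpre
    · replace hpre := hpre.snoc (t := [2,3,4,1,2,3,8,9,3,8,7,6,5,2,3,4,1,2,3,8,0,1,2,3,4,5,6,7]) hk
      exact pair_leaf lB000302_ok hP hpre
    · replace hpre := hpre.snoc (t := [5,4,3,8,2,3,4,1,2,3,8,7,5,6,4,5,3,4,2,3,8,1,2,3,4,5,6,7]) hk
      exact pair_leaf lB000303_ok hP hpre
  · replace hpre := hpre.snoc (t := [3,4,2,3,8,9,7,6,4,5,3,4,2,3,8,1,2,3,4,5,6,7]) hk
    refine descend (S := Data.S52) invB Data.nB0004 Data.nB0004_ok (by decide) (fun P hP hpre => mem_S52 hP hpre (by decide) (by decide) (by decide)) ?_ P hP hpre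
    intro r hr P hP hpre hk
    simp only [Data.nB0004, List.mem_cons, List.not_mem_nil, or_false] at hr
    subst hr
    replace hpre := hpre.snoc (t := [4,5,3,4,2,3,8,9,7,6,5,3,4,2,3,8,0,1,2,3,4,5,6,7]) hk
    refine descend (S := Data.S52) invB Data.nB00040 Data.nB00040_ok (by decide) (fun P hP hpre => mem_S52 hP hpre (by decide) (by decide) (by decide)) ?_ P hP hpre
    intro r hr P hP hpre hk
    simp only [Data.nB00040, List.mem_cons, List.not_mem_nil, or_false] at hr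
    rcases hr with rfl | rfl | rfl | rfl
    · replace hpre := hpre.snoc (t := [8,3,4,2,3,8,9,7,6,4,5,3,4,2,3,8,0,1,2,3,4,5,6,7]) hk
      exact pair_leaf lB000400_ok hP hpre
    · replace hpre := hpre.snoc (t := [9,8,3,4,1,2,3,8,9,7,6,4,5,3,4,2,3,8,0,1,2,3,4,5,6,7]) hk
      exact pair_leaf lB000401_ok hP hpre
    · replace hpre := hpre.snoc (t := [2,3,4,1,2,3,8,9,3,8,7,6,5,2,3,4,1,2,3,8,0,1,2,3,4,5,6,7]) hk
      exact pair_leaf lB000402_ok hP hpre
    · replace hpre := hpre.snoc (t := [5,4,3,8,2,3,4,1,2,3,8,7,5,6,4,5,3,4,2,3,8,1,2,3,4,5,6,7]) hk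
      exact pair_leaf lB000403_ok hP hpre
  · replace hpre := hpre.snoc (t := [8,3,4,2,3,8,9,7,6,5,3,4,2,3,8,1,2,3,4,5,6,7]) hk
    refine descend (S := Data.S52) invB Data.nB0005 Data.nB0005_ok (by decide) (fun P hP hpre => mem_S52 hP hpre (by decide) (by decide) (by decide)) ?_ P hP hpre
    intro r hr P hP hpre hk
    simp only [Data.nB0005, List.mem_cons, List.not_mem_nil, or_false] at hr
    subst hr
    replace hpre := hpre.snoc (t := [4,5,3,4,2,3,8,9,7,6,5,3,4,2,3,8,0,1,2,3,4,5,6,7]) hk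
    refine descend (S := Data.S52) invB Data.nB00050 Data.nB00050_ok (by decide) (fun P hP hpre => mem_S52 hP hpre (by decide) (by decide) (by decide)) ?_ P hP hpre
    intro r hr P hP hpre hk
    simp only [Data.nB00050, List.mem_cons, List.not_mem_nil, or_false] at hr
    rcases hr with rfl | rfl | rfl | rfl
    · replace hpre := hpre.snoc (t := [8,3,4,2,3,8,9,7,6,4,5,3,4,2,3,8,0,1,2,3,4,5,6,7]) hk
      exact pair_leaf lB000500_ok hP hpre
    · replace hpre := hpre.snoc (t := [9,8,3,4,1,2,3,8,9,7,6,4,5,3,4,2,3,8,0,1,2,3,4,5,6,7]) hk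
      exact pair_leaf lB000501_ok hP hpre
    · replace hpre := hpre.snoc (t := [2,3,4,1,2,3,8,9,3,8,7,6,5,2,3,4,1,2,3,8,0,1,2,3,4,5,6,7]) hk
      exact pair_leaf lB000502_ok hP hpre
    · replace hpre := hpre.snoc (t := [5,4,3,8,2,3,4,1,2,3,8,7,5,6,4,5,3,4,2,3,8,1,2,3,4,5,6,7]) hk
      exact pair_leaf lB000503_ok hP hpre

theorem QB_all (P : ℕ → Fin 31671) (hP : Conf 7 adjB P) : QB P := by
  obtain ⟨g, hg, hg1⟩ := to_canon (hP.1 0 (by omega))
  exact invB g P hg (QB_base _ (conf_map hP hg) hg1)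

/-- The roles in the order of the descent. -/
def perm8 (i : ℕ) : ℕ := [0, 2, 1, 3, 6, 4, 7, 5].getD i i

/-- A configuration of eight roles satisfying the identity has a ninth point. -/
theorem exists_ninth (P : ℕ → Fin 31671) (h : Conf 8 adjA P)
    (hprod : (D (P 1) * D (P 2) * D (P 3) * D (P 4) * D (P 5) * D (P 6) * D (P 7)) ^ 9 = D (P 0)) :
    ∃ j, Lk j ∧ ∀ i < 8, j ≠ P i ∧ (Comm (P i) j ↔ i ≠ 0 ∧ i ≠ 5) := by
  have hσ : ∀ i < 8, perm8 i < 8 ∧ ∀ k < 8, (perm8 i = perm8 k → i = k) ∧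
      adjb adjA (perm8 i) (perm8 k) = adjb Data.adjA' i k := by
    decide
  have hP : Conf 8 Data.adjA' fun i => P (perm8 i) := by
    refine ⟨fun i hi => h.1 _ (hσ i hi).1, fun i hi k hk hik => ?_⟩
    obtain ⟨h1, h2⟩ := h.2 _ (hσ i hi).1 _ (hσ k hk).1 fun e => hik (((hσ i hi).2 k hk).1 e)
    exact ⟨h1, h2.trans (not_congr (decide_eq_decide.mp ((hσ i hi).2 k hk).2))⟩
  obtain ⟨j, hj, hj'⟩ := QA_all _ hP hprod
  refine ⟨j, hj, fun i hi => ?_⟩
  obtain ⟨k, hk, rfl, hk'⟩ : ∃ k < 8, perm8 k = i ∧ ((i ≠ 0 ∧ i ≠ 5) ↔ (k ≠ 0 ∧ k ≠ 7)) := by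
    revert hi
    revert i
    decide
  rw [hk']
  exact hj' k hk

/-- Two completions of a configuration of seven roles commute. -/
theorem commute_bj (P : ℕ → Fin 31671) (h : Conf 7 adjB P) (b j : Fin 31671) (hb : Lk b) (hj : Lk j)
    (hb' : ∀ i < 7, Comm (P i) b ↔ i ≠ 1 ∧ i ≠ 2) (hj' : ∀ i < 7, Comm (P i) j ↔ i ≠ 0 ∧ i ≠ 6) : Comm b j :=
  QB_all P h b j hb hj hb' hj'

end CfsgLib.FischerRecog23
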