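import Cfsg.Agent.Lib.FischerSylow.Model

set_option autoImplicit false

/-!
Configurations of points of the link of a transposition of `Fi23`.
-/

namespace CfsgLib.FischerRecog23

open CfsgLib.CosetEnum
open CfsgLib.CosetEnum.Fi23 (π z)
open CfsgLib.FischerSylow (D p0)

/-- A point of the link of the base transposition. -/
def Lk (p : Fin 31671) : Prop := p ≠ p0 ∧ π (D p) p0 = p0

/-- Two points with commuting transpositions. -/
def Comm (p q : Fin 31671) : Prop := π (D p) q = q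

theorem comm_iff (p q : Fin 31671) : Comm p q ↔ D p * D q = D q * D p := FischerSylow.commute_D.symm

theorem D_p0 : D p0 = z := by rw [FischerSylow.D_eq (w := 1) (k := p0) (by rw [map_one]; rfl)]; group

theorem lk_iff (p : Fin 31671) : Lk p ↔ D p ≠ z ∧ D p * z = z * D p := by
  rw [← D_p0, Lk, ← FischerSylow.commute_D]
  exact and_congr_left' ⟨fun h e => h (FischerSylow.D_inj e), fun h e => h (by rw [e])⟩

theorem lk_mem {p : Fin 31671} (h : Lk p) : D p ∈ Fi23.H :=
  Fi23.mem_of_fix _ h.2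

theorem exists_lk {x : Cfsg.Spor.Fi23} (hx : x ∈ conjugatesOf z) (hne : x ≠ z) (hc : x * z = z * x) :
    ∃ p, Lk p ∧ D p = x := by
  obtain ⟨p, rfl⟩ := FischerSylow.exists_D hx
  exact ⟨p, (lk_iff p).mpr ⟨hne, hc⟩, rfl⟩

/-- A configuration of link points with a given graph of non-commuting pairs. -/
def Conf (n : ℕ) (E : List (ℕ × ℕ)) (P : ℕ → Fin 31671) : Prop :=
  (∀ i < n, Lk (P i)) ∧
    ∀ i < n, ∀ j < n, i ≠ j → P i ≠ P j ∧ (Comm (P i) (P j) ↔ ¬ ((i, j) ∈ E ∨ (j, i) ∈ E))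

/-- The graph on the roles A, c, d, e, f, g, h, i. -/
def adjA : List (ℕ × ℕ) := [(1, 2), (2, 3), (3, 4), (4, 5), (2, 6), (6, 7)]

/-- The graph on the roles z, a, c, d, e, f, g. -/
def adjB : List (ℕ × ℕ) := [(2, 3), (3, 4), (4, 5), (5, 6)]

end CfsgLib.FischerRecog23
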