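import Mathlib.GroupTheory.Perm.Cycle.Type
import Mathlib.GroupTheory.Coset.Basic
import Mathlib.GroupTheory.GroupAction.Quotient

/-!
Control of a subgroup through a class of involutions each lying in exactly one of its conjugates:
pairs of commuting members, their products, and triples.
-/

set_option autoImplicit false

namespace CfsgLib.FischerRecog23.Control

universe u

variable {G : Type u} [Group G]

/-- Two involutions of `W` not conjugate in `W` have a commuting involution in `W` shifting each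
of them to a conjugate of one of them. -/
theorem dihedral [Finite G] (W : Subgroup G) {p q : G} (hp : p * p = 1) (hq : q * q = 1)
    (hpW : p ∈ W) (hqW : q ∈ W) (hn : ∀ w ∈ W, w * p * w⁻¹ ≠ q) :
    ∃ j ∈ W, j ≠ 1 ∧ j * j = 1 ∧ Commute p j ∧ Commute q j ∧
      (((∃ w ∈ W, p * j = w * p * w⁻¹) ∧ ∃ w ∈ W, q * j = w * q * w⁻¹) ∨
        ((∃ w ∈ W, p * j = w * q * w⁻¹) ∧ ∃ w ∈ W, q * j = w * p * w⁻¹)) := by
  set s := p * q with hs
  have hsW : s ∈ W := mul_mem hpW hqW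
  have hpi : p⁻¹ = p := inv_eq_of_mul_eq_one_right hp
  have hqi : q⁻¹ = q := inv_eq_of_mul_eq_one_right hq
  have hq' : q = p * s := by rw [hs, ← mul_assoc, hp, one_mul]
  have hps : ∀ i : ℕ, p * s ^ i = (s ^ i)⁻¹ * p := by
    intro i
    induction i with
    | zero => simp
    | succ i ih =>
      have h1 : p * s = s⁻¹ * p := by
        rw [← hq', hs, mul_inv_rev, hpi, hqi, mul_assoc, hp, mul_one]
      rw [pow_succ, ← mul_assoc, ih, mul_assoc, h1, ← mul_assoc, ← mul_inv_rev, ← pow_succ', ← pow_succ]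
  have cp : ∀ k : ℕ, p * s ^ (2 * k) = (s ^ k)⁻¹ * p * ((s ^ k)⁻¹)⁻¹ := fun k => by
    rw [inv_inv, ← hps, two_mul, pow_add, mul_assoc]
  have cq : ∀ k : ℕ, p * s ^ (2 * k + 1) = (s ^ k)⁻¹ * q * ((s ^ k)⁻¹)⁻¹ := fun k => by
    rw [inv_inv, hq', ← mul_assoc ((s ^ k)⁻¹), ← hps, mul_assoc, mul_assoc, ← pow_succ', ← pow_add]
    congr 2
    omega
  have hw : ∀ k : ℕ, (s ^ k)⁻¹ ∈ W := fun k => inv_mem (pow_mem hsW k)
  have hn0 : 0 < orderOf s := orderOf_pos s
  rcases Nat.even_or_odd' (orderOf s) with ⟨m, hm | hm⟩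
  · have hj : (s ^ m) * (s ^ m) = 1 := by rw [← pow_add, ← two_mul, ← hm, pow_orderOf_eq_one]
    have hji : (s ^ m)⁻¹ = s ^ m := inv_eq_of_mul_eq_one_right hj
    have hcp : Commute p (s ^ m) := by
      show p * s ^ m = s ^ m * p
      rw [hps, hji]
    refine ⟨s ^ m, pow_mem hsW m, fun h => ?_, hj, hcp, ?_, ?_⟩
    · have := Nat.le_of_dvd (by omega) (orderOf_dvd_of_pow_eq_one h)
      omega
    · rw [hq']
      exact hcp.mul_left ((Commute.refl s).pow_right m)
    · have e : q * s ^ m = p * s ^ (m + 1) := by rw [hq', mul_assoc, ← pow_succ']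
      rcases Nat.even_or_odd' m with ⟨k, hk | hk⟩
      · refine Or.inl ⟨⟨_, hw k, ?_⟩, ⟨_, hw k, ?_⟩⟩
        · rw [hk, cp]
        · rw [e, hk, cq]
      · refine Or.inr ⟨⟨_, hw k, ?_⟩, ⟨_, hw (k + 1), ?_⟩⟩
        · rw [hk, cq]
        · rw [e, hk, show 2 * k + 1 + 1 = 2 * (k + 1) by omega, cp]
  · refine absurd ?_ (hn ((s ^ (m + 1))⁻¹) (hw _))
    rw [← cp, show 2 * (m + 1) = orderOf s + 1 by omega, pow_succ, pow_orderOf_eq_one, one_mul, ← hq']

/-- The data: a subgroup, a class of involutions inside it whose centralisers it contains, a pair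
and a point commuting with the pair. -/
structure Cfg (M : Subgroup G) (X : Set G) (a b x₀ p : G) : Prop where
  le : ∀ x ∈ X, x ∈ M
  sq : ∀ x ∈ X, x * x = 1
  cls : ∀ x ∈ X, ∀ y ∈ X, ∃ m ∈ M, m * x * m⁻¹ = y
  cen : ∀ x ∈ X, ∀ g : G, Commute g x → g ∈ M
  fus : ∀ g : G, ∀ x ∈ X, g * x * g⁻¹ ∈ M → g * x * g⁻¹ ∈ X
  pt : ∀ u ∈ M, u ≠ 1 → u * u = 1 → ∃ x ∈ X, Commute x u
  ha : a ∈ X
  hb : b ∈ X
  hab : Commute a b
  ne : a ≠ b
  notX : a * b ∉ X
  pair : ∀ x ∈ X, ∀ y ∈ X, Commute x y → x ≠ y → ∃ m ∈ M, m * a * m⁻¹ = x ∧ m * b * m⁻¹ = y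
  fixed : ∀ r ∈ X, Commute r (a * b) → r = a ∨ r = b ∨ (Commute a r ∧ Commute b r ∧ r ≠ a ∧ r ≠ b)
  three : ∀ r ∈ X, Commute a r → Commute b r → r ≠ a → r ≠ b → r * (a * b) ∉ X
  hx : x₀ ∈ X
  hxa : Commute a x₀
  hxb : Commute b x₀
  trans : ∀ r ∈ X, Commute a r → Commute b r → r ≠ a → r ≠ b →
    ∃ u ∈ M, Commute u a ∧ Commute u b ∧ u * x₀ * u⁻¹ = r
  hp : p ∈ X
  hpj : Commute p (a * b * x₀)
  split : ∀ m ∈ M, m * (b * x₀) * m⁻¹ ≠ a * b * x₀ * p
  rel : ∃ (L : List G) (c : ℕ), (∀ r ∈ L, r ∈ X ∧ Commute a r ∧ Commute b r ∧ r ≠ a ∧ r ≠ b) ∧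
    Odd L.length ∧ L.prod ^ (2 * c + 1) = 1

namespace Cfg

variable {M : Subgroup G} {X : Set G} {a b x₀ p : G}

theorem conjX (C : Cfg M X a b x₀ p) {m x : G} (hm : m ∈ M) (hx : x ∈ X) : m * x * m⁻¹ ∈ X :=
  C.fus m x hx (mul_mem (mul_mem hm (C.le x hx)) (inv_mem hm))

theorem uniq (C : Cfg M X a b x₀ p) {g x : G} (hx : x ∈ X) (h : g * x * g⁻¹ ∈ M) : g ∈ M := by
  obtain ⟨m, hm, hmx⟩ := C.cls x hx _ (C.fus g x hx h)
  have hc : Commute (m⁻¹ * g) x := by
    show m⁻¹ * g * x = x * (m⁻¹ * g)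
    calc m⁻¹ * g * x = m⁻¹ * (g * x * g⁻¹) * g := by group
      _ = m⁻¹ * (m * x * m⁻¹) * g := by rw [hmx]
      _ = x * (m⁻¹ * g) := by group
  have := mul_mem hm (C.cen x hx _ hc)
  rwa [mul_inv_cancel_left] at this

/-- A subgroup containing members with two home cosets moves one coset to the other. -/
theorem orbit [Finite G] (C : Cfg M X a b x₀ p) (W : Subgroup G) {x y g : G} (hx : x ∈ X)
    (hy : y ∈ X) (hxW : x ∈ W) (hyW : g * y * g⁻¹ ∈ W) : ∃ w ∈ W, g⁻¹ * w ∈ M := by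
  classical
  set O := MulAction.orbit W (g : G ⧸ M) with hO
  haveI : Fintype O := Fintype.ofFinite O
  by_contra hno
  push Not at hno
  have parity : ∀ u : W, (u : G) * u = 1 →
      Fintype.card O ≡ Fintype.card (Function.fixedPoints (MulAction.toPerm u : Equiv.Perm O)) [MOD 2] := by
    intro u hu
    haveI : Fact (Nat.Prime 2) := ⟨Nat.prime_two⟩
    refine Equiv.Perm.card_fixedPoints_modEq (p := 2) (n := 1) (funext fun o => ?_)
    show (u • u • o : O) = o
    rw [smul_smul, show u * u = 1 from Subtype.ext hu, one_smul]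
  have fixq : ∀ (u : G) (v : G), (u • (v : G ⧸ M)) = v → v⁻¹ * u * v ∈ M := by
    intro u v h
    rw [MulAction.Quotient.smul_coe, smul_eq_mul, QuotientGroup.eq] at h
    have := inv_mem h
    simpa [mul_assoc] using this
  have h0 : Fintype.card (Function.fixedPoints (MulAction.toPerm (⟨x, hxW⟩ : W) : Equiv.Perm O)) = 0 := by
    rw [Fintype.card_eq_zero_iff]
    refine ⟨fun ⟨o, ho⟩ => ?_⟩
    obtain ⟨w, hw⟩ := o.2
    obtain ⟨v, hv⟩ : ∃ v : G, (w : G) * g = v := ⟨_, rfl⟩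
    have e : (o : G ⧸ M) = ((w : G) * g : G) := by
      rw [← hw]; rfl
    have h1 : x • (o : G ⧸ M) = o := congrArg Subtype.val ho
    rw [e] at h1
    have h2 := fixq _ _ h1
    have h3 : ((w : G) * g)⁻¹ ∈ M := C.uniq hx (by simpa [mul_assoc] using h2)
    exact hno _ (inv_mem w.2) (by simpa [mul_assoc] using h3)
  have h1 : Fintype.card (Function.fixedPoints (MulAction.toPerm (⟨_, hyW⟩ : W) : Equiv.Perm O)) = 1 := by
    rw [Fintype.card_eq_one_iff]
    refine ⟨⟨⟨(g : G ⧸ M), MulAction.mem_orbit_self _⟩, Subtype.ext ?_⟩, fun ⟨o, ho⟩ => Subtype.ext (Subtype.ext ?_)⟩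
    · show (g * y * g⁻¹) • (g : G ⧸ M) = g
      rw [MulAction.Quotient.smul_coe, smul_eq_mul, QuotientGroup.eq]
      simpa [mul_assoc] using C.le y hy
    · obtain ⟨v, hv⟩ := QuotientGroup.mk_surjective (o : G ⧸ M)
      have h1 : (g * y * g⁻¹) • (o : G ⧸ M) = o := congrArg Subtype.val ho
      rw [← hv] at h1 ⊢
      have h2 := fixq _ _ h1
      have h3 : v⁻¹ * g ∈ M := C.uniq hy (by simpa [mul_assoc] using h2)
      exact QuotientGroup.eq.2 h3
  have e1 := parity ⟨x, hxW⟩ (C.sq x hx)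
  have e2 := parity ⟨_, hyW⟩ (by
    show g * y * g⁻¹ * (g * y * g⁻¹) = 1
    rw [show g * y * g⁻¹ * (g * y * g⁻¹) = g * (y * y) * g⁻¹ by group, C.sq y hy]
    group)
  rw [h0] at e1
  rw [h1] at e2
  exact absurd (e1.symm.trans e2) (by decide)

/-- Members of different cosets not conjugate in `W` give a pair whose product lies in both. -/
theorem link [Finite G] (C : Cfg M X a b x₀ p) (W : Subgroup G) {x y g : G} (hx : x ∈ X)
    (hy : y ∈ X) (hxW : x ∈ W) (hyW : g * y * g⁻¹ ∈ W)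
    (hn : ∀ w ∈ W, w * x * w⁻¹ ≠ g * y * g⁻¹) :
    ∃ c ∈ X, c ≠ x ∧ Commute x c ∧ x * c ∈ W ∧ Commute (g⁻¹ * (x * c) * g) y ∧
      g⁻¹ * (x * c) * g ∈ M ∧ y * (g⁻¹ * (x * c) * g) ∈ X := by
  have hyy : g * y * g⁻¹ * (g * y * g⁻¹) = 1 := by
    rw [show g * y * g⁻¹ * (g * y * g⁻¹) = g * (y * y) * g⁻¹ by group, C.sq y hy]
    group
  obtain ⟨j, hjW, hj1, -, hxj, hyj, hc⟩ := dihedral W (C.sq x hx) hyy hxW hyW hn
  have hjM : j ∈ M := C.cen x hx _ hxj.symm
  have hyj' : Commute (g⁻¹ * j * g) y := by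
    show g⁻¹ * j * g * y = y * (g⁻¹ * j * g)
    calc g⁻¹ * j * g * y = g⁻¹ * (j * (g * y * g⁻¹)) * g := by group
      _ = g⁻¹ * (g * y * g⁻¹ * j) * g := by rw [hyj.eq]
      _ = y * (g⁻¹ * j * g) := by group
  have hjM' := C.cen y hy _ hyj'
  have inX : ∀ v q : G, (∃ w : G, v = w * q * w⁻¹) → q ∈ X → v ∈ M → v ∈ X := by
    rintro v q ⟨w, rfl⟩ hq hv
    exact C.fus w q hq hv
  have hxjX : x * j ∈ X := by
    rcases hc with ⟨⟨w, -, e⟩, -⟩ | ⟨⟨w, -, e⟩, -⟩
    · exact inX _ x ⟨w, e⟩ hx (mul_mem (C.le x hx) hjM)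
    · exact inX _ y ⟨w * g, by rw [e]; group⟩ hy (mul_mem (C.le x hx) hjM)
  have hyjX : y * (g⁻¹ * j * g) ∈ X := by
    have e0 : y * (g⁻¹ * j * g) = g⁻¹ * (g * y * g⁻¹ * j) * g := by group
    rcases hc with ⟨-, w, -, e⟩ | ⟨-, w, -, e⟩
    · exact inX _ y ⟨g⁻¹ * w * g, by rw [e0, e]; group⟩ hy (mul_mem (C.le y hy) hjM')
    · exact inX _ x ⟨g⁻¹ * w, by rw [e0, e]; group⟩ hx (mul_mem (C.le y hy) hjM')
  have hj : x * (x * j) = j := by rw [← mul_assoc, C.sq x hx, one_mul]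
  refine ⟨x * j, hxjX, fun h => hj1 (mul_eq_left.1 h), (Commute.refl x).mul_right hxj, ?_⟩
  rw [hj]
  exact ⟨hjW, hyj', hjM', hyjX⟩

theorem pair_unique (C : Cfg M X a b x₀ p) {q r v : G} (hq : q ∈ X) (hr : r ∈ X)
    (hqr : Commute q r) (hne : q ≠ r) (hv : v ∈ X) (hc : Commute v (q * r))
    (hm : v * (q * r) ∈ X) : v = q ∨ v = r := by
  obtain ⟨m, hmM, rfl, rfl⟩ := C.pair q hq r hr hqr hne
  set v' := m⁻¹ * v * m with hv'
  have hv'X : v' ∈ X := by simpa using C.conjX (inv_mem hmM) hv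
  have e : ∀ s : G, v' = s → v = m * s * m⁻¹ := fun s h => by rw [← h, hv']; group
  have hc' : Commute v' (a * b) := by
    show m⁻¹ * v * m * (a * b) = a * b * (m⁻¹ * v * m)
    calc m⁻¹ * v * m * (a * b) = m⁻¹ * (v * (m * a * m⁻¹ * (m * b * m⁻¹))) * m := by group
      _ = m⁻¹ * (m * a * m⁻¹ * (m * b * m⁻¹) * v) * m := by rw [hc.eq]
      _ = a * b * (m⁻¹ * v * m) := by group
  rcases C.fixed v' hv'X hc' with h | h | ⟨h1, h2, h3, h4⟩
  · exact Or.inl (e a h)
  · exact Or.inr (e b h)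
  · refine absurd ?_ (C.three v' hv'X h1 h2 h3 h4)
    have := C.conjX (inv_mem hmM) hm
    rwa [show m⁻¹ * (v * (m * a * m⁻¹ * (m * b * m⁻¹))) * (m⁻¹)⁻¹ = v' * (a * b) by rw [hv']; group] at this

theorem adj {g u : G} {M : Subgroup G} : u ∈ M.comap (MulAut.conj g⁻¹).toMonoidHom ↔ g⁻¹ * u * g ∈ M := by
  simp [Subgroup.mem_comap]

theorem mul_ab (C : Cfg M X a b x₀ p) : a * (a * b) = b := by rw [← mul_assoc, C.sq a C.ha, one_mul]

/-- The product of two commuting members lies in one conjugate only. -/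
theorem two [Finite G] (C : Cfg M X a b x₀ p) {g : G} (hg : g⁻¹ * (a * b) * g ∈ M) : g ∈ M := by
  classical
  by_contra hgM
  set t := a * b with ht
  have hat : Commute a t := (Commute.refl a).mul_right C.hab
  have ht1 : t ≠ 1 := fun h => C.ne (by
    rw [eq_inv_of_mul_eq_one_left h, inv_eq_of_mul_eq_one_right (C.sq b C.hb)])
  have htt : t * t = 1 := by rw [ht, C.hab.symm.mul_mul_mul_comm, C.sq a C.ha, C.sq b C.hb, mul_one]
  set t' := g⁻¹ * t * g with ht'
  obtain ⟨x₁, hx₁, hxc⟩ := C.pt t' hg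
    (fun h => ht1 (by rw [show t = g * t' * g⁻¹ by rw [ht']; group, h]; group))
    (by rw [ht', show g⁻¹ * t * g * (g⁻¹ * t * g) = g⁻¹ * (t * t) * g by group, htt]; group)
  set W := Subgroup.centralizer ({t} : Set G) with hW
  have memW : ∀ v : G, v ∈ W ↔ Commute v t := fun v => Subgroup.mem_centralizer_singleton_iff
  obtain ⟨w, hwW, hgw⟩ := C.orbit W C.ha hx₁ ((memW a).2 hat) (y := x₁) (g := g) ((memW _).2 (by
    show g * x₁ * g⁻¹ * t = t * (g * x₁ * g⁻¹)
    calc g * x₁ * g⁻¹ * t = g * (x₁ * t') * g⁻¹ := by rw [ht']; group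
      _ = g * (t' * x₁) * g⁻¹ := by rw [hxc.eq]
      _ = t * (g * x₁ * g⁻¹) := by rw [ht']; group))
  have hwM : w ∉ M := fun h => hgM (by simpa using inv_mem (mul_mem hgw (inv_mem h)))
  have hwc : Commute w t := (memW w).1 hwW
  have hwt : w⁻¹ * t * w = t := by rw [mul_assoc, ← hwc.eq, inv_mul_cancel_left]
  have htM : t ∈ M := mul_mem (C.le a C.ha) (C.le b C.hb)
  let N := {r : G // r ∈ X ∧ Commute a r ∧ Commute b r ∧ r ≠ a ∧ r ≠ b}
  have key : ∀ x : N, ∃ c : N, w⁻¹ * (a * c.1) * w ∈ M ∧ Commute x.1 (w⁻¹ * (a * c.1) * w) ∧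
      x.1 * (w⁻¹ * (a * c.1) * w) ∈ X := by
    rintro ⟨x, hx, h1, h2, h3, h4⟩
    have hxt : Commute x t := (h1.symm.mul_right h2.symm)
    obtain ⟨c, hc, hca, hac, hjW, hjy, hjM, hyj⟩ := C.link W C.ha hx ((memW a).2 hat)
      (y := x) (g := w) ((memW _).2 ((hwc.mul_left hxt).mul_left hwc.inv_left)) (by
        intro v hv h
        have hu : (w⁻¹ * v) * a * (w⁻¹ * v)⁻¹ = x := by
          rw [show w⁻¹ * v * a * (w⁻¹ * v)⁻¹ = w⁻¹ * (v * a * v⁻¹) * w by group, h]
          group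
        have hm := C.uniq C.ha (by rw [hu]; exact C.le x hx)
        have hmt : Commute (w⁻¹ * v) t := hwc.inv_left.mul_left ((memW v).1 hv)
        refine C.three x hx h1 h2 h3 h4 ?_
        have h5 : x * t = (w⁻¹ * v) * b * (w⁻¹ * v)⁻¹ := by
          rw [← hu]
          conv_rhs => rw [← C.mul_ab, ← ht]
          calc w⁻¹ * v * a * (w⁻¹ * v)⁻¹ * t = w⁻¹ * v * a * ((w⁻¹ * v)⁻¹ * t) := by group
            _ = w⁻¹ * v * a * (t * (w⁻¹ * v)⁻¹) := by rw [hmt.inv_left.eq]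
            _ = _ := by group
        rw [h5]
        exact C.conjX hm C.hb)
    have hct : Commute c t := by
      have : c = a * (a * c) := by rw [← mul_assoc, C.sq a C.ha, one_mul]
      rw [this]
      exact hat.mul_left ((memW _).1 hjW)
    rcases C.fixed c hc hct with h | h | h
    · exact absurd h hca
    · subst h
      rw [← ht, hwt] at hyj
      exact absurd hyj (C.three x hx h1 h2 h3 h4)
    · exact ⟨⟨c, hc, h⟩, hjM, hjy.symm, hyj⟩
  choose f hfM hfc hfX using key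
  have inj : Function.Injective f := by
    intro x₁ x₂ he
    set c := (f x₁).1 with hc
    obtain ⟨hcX, hac, hbc, hca, hcb⟩ := (f x₁).2
    set V := Subgroup.centralizer ({t, a * c} : Set G) with hV
    have memV : ∀ v : G, v ∈ V ↔ Commute v t ∧ Commute v (a * c) := fun v => by
      simp [hV, Subgroup.mem_centralizer_iff, Commute, SemiconjBy, eq_comm]
    have hx₁t : Commute x₁.1 t := x₁.2.2.1.symm.mul_right x₁.2.2.2.1.symm
    have hye : Commute (w * x₁.1 * w⁻¹) (a * c) := by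
      show w * x₁.1 * w⁻¹ * (a * c) = a * c * (w * x₁.1 * w⁻¹)
      calc w * x₁.1 * w⁻¹ * (a * c) = w * (x₁.1 * (w⁻¹ * (a * c) * w)) * w⁻¹ := by group
        _ = w * (w⁻¹ * (a * c) * w * x₁.1) * w⁻¹ := by rw [(hfc x₁).eq]
        _ = a * c * (w * x₁.1 * w⁻¹) := by group
    obtain ⟨v, hv, hwv⟩ := C.orbit V C.ha x₁.2.1 ((memV a).2 ⟨hat, (Commute.refl a).mul_right hac⟩)
      (y := x₁.1) (g := w) ((memV _).2 ⟨(hwc.mul_left hx₁t).mul_left hwc.inv_left, hye⟩)
    obtain ⟨hvt, hve⟩ := (memV v).1 hv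
    set m := w⁻¹ * v with hm
    have hmt : Commute m t := hwc.inv_left.mul_left hvt
    set q := m * a * m⁻¹ with hq
    set r := m * c * m⁻¹ with hr
    have hq' : q = a ∨ q = b := by
      refine C.pair_unique C.ha C.hb C.hab C.ne (C.conjX hwv C.ha) ?_ ?_
      · exact (hmt.mul_left hat).mul_left hmt.inv_left
      · rw [← ht, show m * a * m⁻¹ * t = m * (a * t) * m⁻¹ by
          rw [mul_assoc, hmt.inv_left.eq]; group, C.mul_ab]
        exact C.conjX hwv C.hb
    have e' : w⁻¹ * (a * c) * w = q * r := by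
      calc w⁻¹ * (a * c) * w = w⁻¹ * (v * (a * c) * v⁻¹) * w := by rw [hve.eq, mul_inv_cancel_right]
        _ = q * r := by rw [hq, hr, hm]; group
    have hqr : q ≠ r := fun h => hca (by simpa [hq, hr] using h.symm)
    have cqr : Commute q r := by
      show m * a * m⁻¹ * (m * c * m⁻¹) = m * c * m⁻¹ * (m * a * m⁻¹)
      calc m * a * m⁻¹ * (m * c * m⁻¹) = m * (a * c) * m⁻¹ := by group
        _ = m * (c * a) * m⁻¹ := by rw [hac.eq]
        _ = _ := by group
    have one : ∀ x : N, f x = f x₁ → x.1 = r := by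
      intro x hx
      have h1 := hfc x
      have h2 := hfX x
      rw [hx, ← hc, e'] at h1 h2
      rcases C.pair_unique (C.conjX hwv C.ha) (C.conjX hwv hcX) cqr hqr x.2.1 h1 h2 with h | h
      · rcases hq' with h' | h'
        · exact absurd (h.trans h') x.2.2.2.2.1
        · exact absurd (h.trans h') x.2.2.2.2.2
      · exact h
    exact Subtype.ext ((one x₁ rfl).trans (one x₂ he.symm).symm)
  have sur := Finite.injective_iff_surjective.1 inj
  set K := M.comap (MulAut.conj w⁻¹).toMonoidHom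
  have hK : ∀ r : N, a * r.1 ∈ K := fun r => by
    obtain ⟨x, rfl⟩ := sur r
    exact adj.2 (hfM x)
  obtain ⟨L, k, hL, hodd, hone⟩ := C.rel
  have words : ∀ l : List G, (∀ r ∈ l, r ∈ X ∧ Commute a r ∧ Commute b r ∧ r ≠ a ∧ r ≠ b) →
      Commute a l.prod ∧ (Even l.length → l.prod ∈ K) ∧ (Odd l.length → a * l.prod ∈ K) := by
    intro l
    induction l with
    | nil => exact fun _ => ⟨Commute.one_right a, fun _ => one_mem K, fun h => absurd h (by simp)⟩
    | cons r l ih =>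
      intro h
      obtain ⟨i1, i2, i3⟩ := ih fun s hs => h s (List.mem_cons_of_mem _ hs)
      obtain ⟨hr, har, h'⟩ := h r List.mem_cons_self
      have hk : a * r ∈ K := hK ⟨r, hr, har, h'⟩
      rw [List.prod_cons]
      refine ⟨har.mul_right i1, fun he => ?_, fun ho => ?_⟩
      · have e : r * l.prod = (a * r) * (a * l.prod) := by
          rw [har.eq, mul_assoc r, ← mul_assoc a a, C.sq a C.ha, one_mul]
        rw [e]
        exact mul_mem hk (i3 (by
          rw [List.length_cons, Nat.even_add_one, Nat.not_even_iff_odd] at he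
          exact he))
      · rw [← mul_assoc]
        exact mul_mem hk (i2 (by
          rw [List.length_cons, Nat.odd_add_one, Nat.not_odd_iff_even] at ho
          exact ho))
  obtain ⟨hap, -, hP⟩ := words L hL
  have hP2 : L.prod ^ 2 ∈ K := by
    have : L.prod ^ 2 = (a * L.prod) ^ 2 := by
      rw [hap.mul_pow, pow_two a, C.sq a C.ha, one_mul]
    rw [this]
    exact pow_mem (hP hodd) 2
  have hPK : L.prod ∈ K := by
    have : L.prod = (L.prod ^ 2) ^ (k + 1) := by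
      rw [← pow_mul, show 2 * (k + 1) = (2 * k + 1) + 1 by omega, pow_succ, hone, one_mul]
    rw [this]
    exact pow_mem hP2 _
  have haK : a ∈ K := by simpa using mul_mem (hP hodd) (inv_mem hPK)
  exact hwM (by
    have := inv_mem (C.uniq C.ha (g := w⁻¹) (by simpa using adj.1 haK))
    simpa using this)

/-- Members centralised together with an element of another conjugate are conjugate in it. -/
theorem odd [Finite G] (C : Cfg M X a b x₀ p) (W : Subgroup G) {x y g : G} (hx : x ∈ X)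
    (hy : y ∈ X) (hxW : x ∈ W) (hyW : g * y * g⁻¹ ∈ W) (hg : g ∉ M) :
    ∃ w ∈ W, w * x * w⁻¹ = g * y * g⁻¹ := by
  by_contra hn
  push Not at hn
  obtain ⟨c, hc, hcx, hxc, -, -, hjM, -⟩ := C.link W hx hy hxW hyW hn
  obtain ⟨m, hm, h1, h2⟩ := C.pair x hx c hc hxc hcx.symm
  rw [← h1, ← h2] at hjM
  have := C.two (g := m⁻¹ * g) (by
    convert hjM using 1
    group)
  have h := mul_mem hm this
  rw [mul_inv_cancel_left] at h
  exact hg h

/-- The product of the pair and a common neighbour lies in one conjugate only. -/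
theorem three_one [Finite G] (C : Cfg M X a b x₀ p) (h1 : a * b * x₀ ≠ 1)
    {g : G} (hg : g⁻¹ * (a * b * x₀) * g ∈ M) : g ∈ M := by
  by_contra hgM
  set j := a * b * x₀ with hj
  have haj : Commute a j := ((Commute.refl a).mul_right C.hab).mul_right C.hxa
  have hjj : j * j = 1 := by
    rw [hj, (C.hxa.symm.mul_right C.hxb.symm).mul_mul_mul_comm, C.hab.symm.mul_mul_mul_comm,
      C.sq a C.ha, C.sq b C.hb, C.sq x₀ C.hx, mul_one, mul_one]
  set j' := g⁻¹ * j * g with hj'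
  obtain ⟨x₁, hx₁, hxc⟩ := C.pt j' hg
    (fun h => h1 (by rw [show j = g * j' * g⁻¹ by rw [hj']; group, h]; group))
    (by rw [hj', show g⁻¹ * j * g * (g⁻¹ * j * g) = g⁻¹ * (j * j) * g by group, hjj]; group)
  set W := Subgroup.centralizer ({j} : Set G)
  have memW : ∀ v : G, v ∈ W ↔ Commute v j := fun v => Subgroup.mem_centralizer_singleton_iff
  have hyW : g * x₁ * g⁻¹ ∈ W := (memW _).2 (by
    show g * x₁ * g⁻¹ * j = j * (g * x₁ * g⁻¹)
    calc g * x₁ * g⁻¹ * j = g * (x₁ * j') * g⁻¹ := by rw [hj']; group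
      _ = g * (j' * x₁) * g⁻¹ := by rw [hxc.eq]
      _ = j * (g * x₁ * g⁻¹) := by rw [hj']; group)
  obtain ⟨u, hu, hua⟩ := C.odd W C.ha hx₁ ((memW a).2 haj) hyW hgM
  obtain ⟨v, hv, hvp⟩ := C.odd W C.hp hx₁ ((memW p).2 C.hpj) hyW hgM
  set s := v⁻¹ * u with hs
  have hsp : s * a * s⁻¹ = p := by
    calc s * a * s⁻¹ = v⁻¹ * (u * a * u⁻¹) * v := by rw [hs]; group
      _ = v⁻¹ * (v * p * v⁻¹) * v := by rw [hua, hvp]
      _ = p := by group
  have hsM : s ∈ M := C.uniq C.ha (by rw [hsp]; exact C.le p C.hp)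
  have hsj : Commute s j := ((memW v).1 hv).inv_left.mul_left ((memW u).1 hu)
  refine C.split s hsM ?_
  have e : j * a = b * x₀ := by rw [← haj.eq, hj, ← mul_assoc, ← mul_assoc, C.sq a C.ha, one_mul]
  rw [← hj, ← e, ← hsp, show s * (j * a) * s⁻¹ = s * j * a * s⁻¹ by group, hsj.eq]
  group

/-- The subgroup is everything. -/
theorem top [Finite G] (C : Cfg M X a b x₀ p) (h1 : a * b * x₀ ≠ 1) : M = ⊤ := by
  rw [eq_top_iff]
  intro g _
  by_contra hgM
  set t := a * b with ht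
  set y := g * a * g⁻¹ with hy
  have hat : Commute a t := (Commute.refl a).mul_right C.hab
  have htt : t * t = 1 := by rw [ht, C.hab.symm.mul_mul_mul_comm, C.sq a C.ha, C.sq b C.hb, mul_one]
  have htM : t ∈ M := mul_mem (C.le a C.ha) (C.le b C.hb)
  have hyy : y * y = 1 := by
    rw [hy, show g * a * g⁻¹ * (g * a * g⁻¹) = g * (a * a) * g⁻¹ by group, C.sq a C.ha]
    group
  obtain ⟨j, -, hj1, hjj, htj, hyj, hc⟩ := dihedral ⊤ htt hyy trivial trivial (by
    intro w _ h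
    refine C.notX ?_
    have := C.fus (w⁻¹ * g) a C.ha
    rw [show w⁻¹ * g * a * (w⁻¹ * g)⁻¹ = w⁻¹ * y * w by rw [hy]; group, ← h,
      show w⁻¹ * (w * t * w⁻¹) * w = t by group] at this
    exact this htM)
  have hjM : j ∈ M := by
    have := C.two (g := j) (by rw [mul_assoc, htj.eq, inv_mul_cancel_left]; exact htM)
    exact this
  set j' := g⁻¹ * j * g with hj'
  have hj'a : Commute j' a := by
    show g⁻¹ * j * g * a = a * (g⁻¹ * j * g)
    calc g⁻¹ * j * g * a = g⁻¹ * (j * y) * g := by rw [hy]; group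
      _ = g⁻¹ * (y * j) * g := by rw [hyj.eq]
      _ = a * (g⁻¹ * j * g) := by rw [hy]; group
  have hj'M : j' ∈ M := C.cen a C.ha _ hj'a
  rcases hc with ⟨-, w, -, e⟩ | ⟨⟨w, -, e⟩, -⟩
  · set q := a * j' with hq
    have hqX : q ∈ X := by
      have e1 : q = (g⁻¹ * w * g) * a * (g⁻¹ * w * g)⁻¹ := by
        calc q = g⁻¹ * (y * j) * g := by rw [hq, hj', hy]; group
          _ = g⁻¹ * (w * y * w⁻¹) * g := by rw [e]
          _ = _ := by rw [hy]; group
      rw [e1]
      exact C.fus _ a C.ha (e1 ▸ mul_mem (C.le a C.ha) hj'M)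
    have hqa : a ≠ q := by
      intro h
      have : j' = 1 := mul_eq_left.1 h.symm
      exact hj1 (by rw [show j = g * j' * g⁻¹ by rw [hj']; group, this]; group)
    obtain ⟨m, hm, h2, h3⟩ := C.pair a C.ha q hqX ((Commute.refl a).mul_right hj'a.symm) hqa
    have e2 : m * t * m⁻¹ = j' := by
      calc m * t * m⁻¹ = m * a * m⁻¹ * (m * b * m⁻¹) := by rw [ht]; group
        _ = a * q := by rw [h2, h3]
        _ = j' := by rw [hq, ← mul_assoc, C.sq a C.ha, one_mul]
    have := C.two (g := (g * m)⁻¹) (by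
      rw [inv_inv]
      convert hjM using 1
      rw [show g * m * t * (g * m)⁻¹ = g * (m * t * m⁻¹) * g⁻¹ by group, e2, hj']
      group)
    have := mul_mem (inv_mem this) (inv_mem hm)
    simp only [inv_inv, mul_inv_cancel_right] at this
    exact hgM this
  · set x := t * j with hx
    have hxX : x ∈ X := by
      have e1 : x = (w * g) * a * (w * g)⁻¹ := by rw [e, hy]; group
      rw [e1]
      exact C.fus _ a C.ha (e1 ▸ mul_mem htM hjM)
    have hje : j = t * x := by rw [hx, ← mul_assoc, htt, one_mul]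
    have inX : j ∉ X := by
      intro hjX
      exact hgM (by simpa using inv_mem (C.uniq hjX (g := g⁻¹) (by simpa using hj'M)))
    rcases C.fixed x hxX ((Commute.refl t).mul_left htj.symm) with h | h | ⟨h2, h3, h4, h5⟩
    · refine inX ?_
      rw [hje, h, ← hat.eq, C.mul_ab]
      exact C.hb
    · refine inX ?_
      rw [hje, h, ht, mul_assoc, C.sq b C.hb, mul_one]
      exact C.ha
    · obtain ⟨u, hu, hua, hub, hux⟩ := C.trans x hxX h2 h3 h4 h5
      have hut : Commute u t := hua.mul_right hub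
      have := C.three_one h1 (g := u⁻¹ * g) (by
        convert hj'M using 1
        rw [hj', hje, ← hux, ← ht]
        calc (u⁻¹ * g)⁻¹ * (t * x₀) * (u⁻¹ * g) = g⁻¹ * (u * t * x₀ * u⁻¹) * g := by group
          _ = g⁻¹ * (t * u * x₀ * u⁻¹) * g := by rw [hut.eq]
          _ = g⁻¹ * (t * (u * x₀ * u⁻¹)) * g := by group)
      have := mul_mem hu this
      rw [mul_inv_cancel_left] at this
      exact hgM this

end Cfg

end CfsgLib.FischerRecog23.Control
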