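import Cfsg.Agent.Lib.FischerSylow.Model
import Mathlib.GroupTheory.Perm.Cycle.Type

/-!
Certificates in the 31671-point model of `Fi23` for a pair of commuting transpositions: what fixes
the pair's product, the common neighbours, two fixed-point counts and an odd relation among neighbours.
-/

set_option autoImplicit false
set_option maxRecDepth 20000

namespace CfsgLib.FischerRecog23.Control

open CfsgLib.CosetEnum CfsgLib.FischerSylow
open CfsgLib.CosetEnum.Fi23 (π z zCol lab)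

local notation "F23" => Cfsg.Spor.Fi23

def eB : List ℕ × ℕ := ([7, 6, 5, 4, 3, 8, 2, 3, 4, 5, 6, 7], 52)
def eX : List ℕ × ℕ := ([9, 7, 6, 5, 4, 3, 8, 1, 2, 3, 4, 5, 6, 7], 106)
def eP : List ℕ × ℕ := ([7, 6, 5, 4, 1, 2, 3, 8, 0, 1, 2, 3, 4, 5, 6, 7], 174)
def e1 : List ℕ × ℕ := ([9, 7, 6, 5, 4, 3, 8, 0, 1, 2, 3, 4, 5, 6, 7], 134)
def e2 : List ℕ × ℕ := ([8, 9, 7, 6, 5, 3, 4, 2, 3, 8, 1, 2, 3, 4, 5, 6, 7], 306)
def e3 : List ℕ × ℕ := ([4, 2, 3, 8, 9, 7, 6, 5, 4, 3, 8, 1, 2, 3, 4, 5, 6, 7], 481)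
def e4 : List ℕ × ℕ := ([9, 7, 5, 6, 4, 5, 3, 4, 2, 3, 8, 1, 2, 3, 4, 5, 6, 7], 431)
def lR : List (List ℕ × ℕ) := [([8, 7, 6, 5, 2, 3, 4, 1, 2, 3, 8, 0, 1, 2, 3, 4, 5, 6, 7], 509),
  ([8, 9, 7, 6, 5, 4, 3, 8, 0, 1, 2, 3, 4, 5, 6, 7], 196),
  ([8, 9, 7, 6, 4, 5, 3, 4, 2, 3, 8, 0, 1, 2, 3, 4, 5, 6, 7], 568),
  ([4, 2, 3, 8, 9, 7, 6, 5, 4, 3, 8, 1, 2, 3, 4, 5, 6, 7], 481),
  ([2, 3, 8, 9, 7, 6, 5, 4, 3, 8, 1, 2, 3, 4, 5, 6, 7], 328),
  ([9, 7, 5, 6, 4, 5, 3, 4, 2, 3, 8, 1, 2, 3, 4, 5, 6, 7], 431),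
  ([8, 9, 7, 6, 5, 3, 4, 2, 3, 8, 1, 2, 3, 4, 5, 6, 7], 306)]

/-- The base point with its empty path. -/
def eO : List ℕ × ℕ := ([], 0)

theorem paths_ok : ([eO, eB, eX, eP, e1, e2, e3, e4] ++ lR).all (fun e => pathOK e.1 e.2) = true := by decide +kernel

theorem path_of {e : List ℕ × ℕ} (h : e ∈ [eO, eB, eX, eP, e1, e2, e3, e4] ++ lR) : pathOK e.1 e.2 = true :=
  List.all_eq_true.1 paths_ok e h

/-- The transposition of a path. -/
noncomputable def T (e : List ℕ × ℕ) : F23 := D (fin e.2)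

theorem π_list (L : List (List ℕ × ℕ)) (hL : ∀ e ∈ L, e ∈ [eO, eB, eX, eP, e1, e2, e3, e4] ++ lR)
    (k : Fin 31671) : ((π ((L.map T).prod) k : Fin 31671) : ℕ) = steps (L.map Prod.fst) k :=
  pi_prod L (fun e he => path_of (hL e he)) k

/-- The product of transpositions of paths fixes a point. -/
noncomputable def fx (ts : List (List ℕ)) (k : ℕ) : Bool := Nat.beq (steps ts k) k

theorem fx_iff {u : F23} {ts : List (List ℕ)}
    (hu : ∀ k : Fin 31671, ((π u k : Fin 31671) : ℕ) = steps ts k) (k : Fin 31671) :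
    fx ts k.1 = true ↔ π u k = k := by
  rw [fx, ← hu, Fin.ext_iff]
  exact ⟨Nat.eq_of_beq_eq_true, fun h => by rw [h]; exact Nat.beq_refl _⟩

theorem T_O : T eO = z := by
  rw [T, D_eq (w := 1) (k := fin eO.2) (by rw [map_one]; exact (Fin.ext (fin_val (by decide))).symm)]
  group

theorem π_one (e : List ℕ × ℕ) (he : e ∈ [eO, eB, eX, eP, e1, e2, e3, e4] ++ lR) (k : Fin 31671) :
    ((π (T e) k : Fin 31671) : ℕ) = steps [e.1] k := by
  have := π_list [e] (by simpa using he) k
  simpa using this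

/-- A common neighbour of the pair. -/
noncomputable def nb (k : ℕ) : Bool :=
  fx [eO.1] k && fx [eB.1] k && !Nat.beq k 0 && !Nat.beq k eB.2

/-- Fixed points of the pair's product, and the neighbours' links with the hubs. -/
noncomputable def pairTest (k : ℕ) : Bool :=
  (!fx [eO.1, eB.1] k || Nat.beq k 0 || Nat.beq k eB.2 || nb k) &&
  (!fx [eO.1] k || Nat.beq k 0 || (Nat.beq (lab.get 20 k) 2 &&
    (!nb k || Nat.beq k eX.2 || !fx [eX.1] k || !fx [e1.1] k || !fx [e2.1] k || !fx [e3.1] k || !fx [e4.1] k)))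

theorem pair0 : allFrom pairTest 4096 0 = true := by decide +kernel
theorem pair1 : allFrom pairTest 4096 4096 = true := by decide +kernel
theorem pair2 : allFrom pairTest 4096 8192 = true := by decide +kernel
theorem pair3 : allFrom pairTest 4096 12288 = true := by decide +kernel
theorem pair4 : allFrom pairTest 4096 16384 = true := by decide +kernel
theorem pair5 : allFrom pairTest 4096 20480 = true := by decide +kernel
theorem pair6 : allFrom pairTest 4096 24576 = true := by decide +kernel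
theorem pair7 : allFrom pairTest 2999 28672 = true := by decide +kernel

theorem pair_ok (k : Fin 31671) : pairTest k.1 = true := by
  have := k.2
  rcases lt_or_ge k.1 4096 with h0 | h0
  · exact allFrom_spec _ _ _ pair0 _ (by omega) (by omega)
  rcases lt_or_ge k.1 8192 with h1 | h1
  · exact allFrom_spec _ _ _ pair1 _ (by omega) (by omega)
  rcases lt_or_ge k.1 12288 with h2 | h2
  · exact allFrom_spec _ _ _ pair2 _ (by omega) (by omega)
  rcases lt_or_ge k.1 16384 with h3 | h3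
  · exact allFrom_spec _ _ _ pair3 _ (by omega) (by omega)
  rcases lt_or_ge k.1 20480 with h4 | h4
  · exact allFrom_spec _ _ _ pair4 _ (by omega) (by omega)
  rcases lt_or_ge k.1 24576 with h5 | h5
  · exact allFrom_spec _ _ _ pair5 _ (by omega) (by omega)
  rcases lt_or_ge k.1 28672 with h6 | h6
  · exact allFrom_spec _ _ _ pair6 _ (by omega) (by omega)
  exact allFrom_spec _ _ _ pair7 _ (by omega) (by omega)

/-- Number of points among `k ..< k + 2 ^ d` passing a test, by halving. -/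
noncomputable def cnt (f : ℕ → Bool) (d : ℕ) : ℕ → ℕ :=
  Nat.rec (motive := fun _ => ℕ → ℕ) (fun k => Bool.rec 0 1 (Nat.blt k 31671 && f k))
    (fun e r k => Nat.add (r k) (r (Nat.add k (Nat.pow 2 e)))) d

theorem cnt_eq (f : ℕ → Bool) : ∀ d k : ℕ,
    cnt f d k = ((Finset.Ico k (k + 2 ^ d)).filter fun i => (Nat.blt i 31671 && f i) = true).card := by
  intro d
  induction d with
  | zero =>
    intro k
    rw [show cnt f 0 k = Bool.rec 0 1 (Nat.blt k 31671 && f k) from rfl, pow_zero,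
      Nat.Ico_succ_singleton, Finset.filter_singleton]
    cases h : (Nat.blt k 31671 && f k) <;> simp
  | succ d ih =>
    intro k
    rw [show cnt f (d + 1) k = cnt f d k + cnt f d (k + 2 ^ d) from rfl, ih, ih,
      ← Finset.card_union_of_disjoint
        (Finset.disjoint_filter_filter (Finset.Ico_disjoint_Ico_consecutive k (k + 2 ^ d) _)),
      ← Finset.filter_union, Finset.Ico_union_Ico_eq_Ico (Nat.le_add_right _ _) (Nat.le_add_right _ _),
      show k + 2 ^ d + 2 ^ d = k + 2 ^ (d + 1) by rw [pow_succ]; omega]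

/-- Fixed points of an element. -/
noncomputable def nfix (u : F23) : ℕ := (Finset.univ.filter fun k : Fin 31671 => π u k = k).card

theorem nfix_steps {u : F23} {ts : List (List ℕ)}
    (hu : ∀ k : Fin 31671, ((π u k : Fin 31671) : ℕ) = steps ts k) : nfix u = cnt (fx ts) 15 0 := by
  rw [cnt_eq, nfix]
  refine Finset.card_bij (fun k _ => k.1) ?_ ?_ ?_
  · intro k hk
    refine Finset.mem_filter.2 ⟨Finset.mem_Ico.2 ⟨Nat.zero_le _, by have := k.2; omega⟩, ?_⟩
    rw [Bool.and_eq_true]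
    exact ⟨Nat.ble_eq_true_of_le k.2, (fx_iff hu k).2 (Finset.mem_filter.1 hk).2⟩
  · exact fun _ _ _ _ h => Fin.ext h
  · intro i hi
    obtain ⟨h1, h2⟩ := Finset.mem_filter.1 hi
    rw [Bool.and_eq_true] at h2
    exact ⟨⟨i, Nat.le_of_ble_eq_true h2.1⟩, Finset.mem_filter.2 ⟨Finset.mem_univ _, (fx_iff hu _).1 h2.2⟩, rfl⟩

theorem nfix_conj (v u : F23) : nfix (v * u * v⁻¹) = nfix u := by
  refine (Finset.card_equiv (π v) fun k => ?_).symm
  simp [map_mul, map_inv, Equiv.Perm.mul_apply]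

theorem cnt_split (f : ℕ → Bool) : cnt f 15 0 =
    cnt f 12 0 + cnt f 12 4096 + (cnt f 12 8192 + cnt f 12 12288) +
      (cnt f 12 16384 + cnt f 12 20480 + (cnt f 12 24576 + cnt f 12 28672)) := rfl

theorem cnt_t0 : Nat.beq (cnt (fx [eO.1, eB.1]) 12 0) 259 = true := by decide +kernel
theorem cnt_t1 : Nat.beq (cnt (fx [eO.1, eB.1]) 12 4096) 142 = true := by decide +kernel
theorem cnt_t2 : Nat.beq (cnt (fx [eO.1, eB.1]) 12 8192) 196 = true := by decide +kernel
theorem cnt_t3 : Nat.beq (cnt (fx [eO.1, eB.1]) 12 12288) 73 = true := by decide +kernel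
theorem cnt_t4 : Nat.beq (cnt (fx [eO.1, eB.1]) 12 16384) 25 = true := by decide +kernel
theorem cnt_t5 : Nat.beq (cnt (fx [eO.1, eB.1]) 12 20480) 0 = true := by decide +kernel
theorem cnt_t6 : Nat.beq (cnt (fx [eO.1, eB.1]) 12 24576) 0 = true := by decide +kernel
theorem cnt_t7 : Nat.beq (cnt (fx [eO.1, eB.1]) 12 28672) 0 = true := by decide +kernel

theorem cnt_t : cnt (fx [eO.1, eB.1]) 15 0 = 695 := by
  rw [cnt_split, Nat.eq_of_beq_eq_true cnt_t0, Nat.eq_of_beq_eq_true cnt_t1, Nat.eq_of_beq_eq_true cnt_t2, Nat.eq_of_beq_eq_true cnt_t3, Nat.eq_of_beq_eq_true cnt_t4, Nat.eq_of_beq_eq_true cnt_t5, Nat.eq_of_beq_eq_true cnt_t6, Nat.eq_of_beq_eq_true cnt_t7]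

theorem cnt_jp0 : Nat.beq (cnt (fx [eO.1, eB.1, eX.1, eP.1]) 12 0) 40 = true := by decide +kernel
theorem cnt_jp1 : Nat.beq (cnt (fx [eO.1, eB.1, eX.1, eP.1]) 12 4096) 36 = true := by decide +kernel
theorem cnt_jp2 : Nat.beq (cnt (fx [eO.1, eB.1, eX.1, eP.1]) 12 8192) 36 = true := by decide +kernel
theorem cnt_jp3 : Nat.beq (cnt (fx [eO.1, eB.1, eX.1, eP.1]) 12 12288) 20 = true := by decide +kernel
theorem cnt_jp4 : Nat.beq (cnt (fx [eO.1, eB.1, eX.1, eP.1]) 12 16384) 7 = true := by decide +kernel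
theorem cnt_jp5 : Nat.beq (cnt (fx [eO.1, eB.1, eX.1, eP.1]) 12 20480) 38 = true := by decide +kernel
theorem cnt_jp6 : Nat.beq (cnt (fx [eO.1, eB.1, eX.1, eP.1]) 12 24576) 6 = true := by decide +kernel
theorem cnt_jp7 : Nat.beq (cnt (fx [eO.1, eB.1, eX.1, eP.1]) 12 28672) 0 = true := by decide +kernel

theorem cnt_jp : cnt (fx [eO.1, eB.1, eX.1, eP.1]) 15 0 = 183 := by
  rw [cnt_split, Nat.eq_of_beq_eq_true cnt_jp0, Nat.eq_of_beq_eq_true cnt_jp1, Nat.eq_of_beq_eq_true cnt_jp2, Nat.eq_of_beq_eq_true cnt_jp3, Nat.eq_of_beq_eq_true cnt_jp4, Nat.eq_of_beq_eq_true cnt_jp5, Nat.eq_of_beq_eq_true cnt_jp6, Nat.eq_of_beq_eq_true cnt_jp7]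


/-- The second member of the pair. -/
noncomputable def tB : F23 := T eB
/-- A common neighbour. -/
noncomputable def tX : F23 := T eX
/-- A member fixed by the triple. -/
noncomputable def tP : F23 := T eP

theorem nfix_t : nfix (z * tB) = 695 := by
  have h := π_list [eO, eB] (by simp)
  simp only [List.map_cons, List.map_nil, List.prod_cons, List.prod_nil, mul_one, T_O] at h
  rw [nfix_steps h (u := z * tB), cnt_t]

theorem nfix_jp : nfix (z * tB * tX * tP) = 183 := by
  have h := π_list [eO, eB, eX, eP] (by simp)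
  simp only [List.map_cons, List.map_nil, List.prod_cons, List.prod_nil, mul_one, T_O, ← mul_assoc] at h
  rw [nfix_steps h (u := z * tB * tX * tP), cnt_jp]

theorem nfix_one : nfix 1 = 31671 := by
  rw [nfix, Finset.filter_true_of_mem (fun k _ => by rw [map_one]; rfl)]
  simp

/-- The members of the pair's neighbourhood. -/
def IsNb (k : Fin 31671) : Prop :=
  Commute z (D k) ∧ Commute tB (D k) ∧ D k ≠ z ∧ D k ≠ tB

theorem comm_iff_fx (e : List ℕ × ℕ) (he : e ∈ [eO, eB, eX, eP, e1, e2, e3, e4] ++ lR) (k : Fin 31671) :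
    fx [e.1] k.1 = true ↔ Commute (T e) (D k) := by
  rw [fx_iff (π_one e he) k]
  exact commute_D.symm

theorem comm_z_iff (k : Fin 31671) : fx [eO.1] k.1 = true ↔ Commute z (D k) := by
  rw [comm_iff_fx eO (by simp), T_O]

theorem fin_lt {e : List ℕ × ℕ} (he : e ∈ [eO, eB, eX, eP, e1, e2, e3, e4] ++ lR) : (fin e.2 : ℕ) = e.2 :=
  fin_val (pathOK_spec (path_of he)).1

theorem beq_iff (e : List ℕ × ℕ) (he : e ∈ [eO, eB, eX, eP, e1, e2, e3, e4] ++ lR) (k : Fin 31671) :
    Nat.beq k.1 e.2 = true ↔ D k = T e := by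
  rw [T]
  constructor
  · intro h; rw [show k = fin e.2 from Fin.ext ((Nat.eq_of_beq_eq_true h).trans (fin_lt he).symm)]
  · intro h; rw [D_inj h, fin_lt he]; exact Nat.beq_refl _

theorem nb_iff (k : Fin 31671) : nb k.1 = true ↔ IsNb k := by
  have e0 : Nat.beq k.1 0 = true ↔ D k = z := by
    rw [show (0 : ℕ) = eO.2 from rfl, beq_iff eO (by simp), T_O]
  simp only [nb, IsNb, Bool.and_eq_true, Bool.not_eq_true', ← Bool.not_eq_true, e0, beq_iff eB (by simp) k,
    comm_z_iff, comm_iff_fx eB (by simp), tB]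
  tauto

theorem comm_zB : Commute z tB := by
  refine (comm_z_iff (fin eB.2)).1 ?_
  rw [fin_lt (by simp)]
  decide +kernel

theorem nb_of (e : List ℕ × ℕ) (he : e ∈ [eO, eB, eX, eP, e1, e2, e3, e4] ++ lR) (h : nb e.2 = true) :
    IsNb (fin e.2) := by
  rw [← fin_lt he] at h
  exact (nb_iff _).1 h

theorem nbX : IsNb (fin eX.2) := nb_of eX (by simp) (by decide +kernel)

theorem lR_nb : ∀ e ∈ lR, IsNb (fin e.2) := fun e he => nb_of e (List.mem_append_right _ he)
  (List.all_eq_true.1 (show lR.all (fun e => nb e.2) = true by decide +kernel) e he)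

theorem comm_P : Commute (z * tB * tX) tP := by
  refine commute_D.2 (Fin.ext ?_)
  have h := π_list [eO, eB, eX] (by simp)
  simp only [List.map_cons, List.map_nil, List.prod_cons, List.prod_nil, mul_one, T_O, ← mul_assoc] at h
  rw [show z * tB * tX = z * T eB * T eX from rfl, h, fin_lt (by simp)]
  exact Nat.eq_of_beq_eq_true (show fx [eO.1, eB.1, eX.1] eP.2 = true by decide +kernel)

theorem rel_one : ((lR.map T).prod) ^ (2 * 4 + 1) = 1 := by
  have h := π_list (List.replicate 9 lR).flatten (fun e he => by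
    obtain ⟨l, hl, hel⟩ := List.mem_flatten.1 he
    rw [List.eq_of_mem_replicate hl] at hel
    exact List.mem_append_right _ hel)
  have e1 : ((List.replicate 9 lR).flatten.map T).prod = ((lR.map T).prod) ^ (2 * 4 + 1) := by
    rw [List.map_flatten, List.prod_flatten, List.map_map, List.map_replicate, List.prod_replicate]
    rfl
  rw [← e1]
  refine eq_one_of_fix fun l hl => Fin.ext ?_
  rw [h]
  exact Nat.eq_of_beq_eq_true (List.all_eq_true.1
    (show (List.range 10).all (fun l => fx ((List.replicate 9 lR).flatten.map Prod.fst) (ptN l)) = true by decide +kernel)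
    l (List.mem_range.2 hl))

theorem fixed_pair (k : Fin 31671) (h : Commute (D k) (z * tB)) :
    D k = z ∨ D k = tB ∨ IsNb k := by
  have hl := π_list [eO, eB] (by simp)
  simp only [List.map_cons, List.map_nil, List.prod_cons, List.prod_nil, mul_one, T_O] at hl
  have hf : fx [eO.1, eB.1] k.1 = true := (fx_iff hl k).2 (commute_D.1 h.symm)
  have := pair_ok k
  simp only [pairTest, Bool.and_eq_true, Bool.or_eq_true, hf, Bool.not_true, Bool.false_eq_true, false_or] at this
  rcases this.1 with (h0 | h6) | hn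
  · left
    rw [(beq_iff eO (by simp) k).1 h0, T_O]
  · exact Or.inr (Or.inl ((beq_iff eB (by simp) k).1 h6))
  · exact Or.inr (Or.inr ((nb_iff k).1 hn))

theorem swap_conj {a b : F23} (ha : a ∈ conjugatesOf z) (hb : b ∈ conjugatesOf z) (h : ¬ Commute a b) :
    a * b * a * (a * b)⁻¹ = b := by
  obtain ⟨i, rfl⟩ := exists_D ha
  obtain ⟨j, rfl⟩ := exists_D hb
  have h3 := noncomm_three ha hb h
  have hi : (D i)⁻¹ = D i := inv_eq_of_mul_eq_one_right (D_sq i)
  have hj : (D j)⁻¹ = D j := inv_eq_of_mul_eq_one_right (D_sq j)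
  rw [mul_inv_rev, hi, hj]
  rw [pow_three, ← mul_assoc] at h3
  have : D i * D j * D i * (D j * D i) * D j = 1 := by rw [← h3]; group
  calc D i * D j * D i * (D j * D i) = D i * D j * D i * (D j * D i) * D j * (D j)⁻¹ := by group
    _ = D j := by rw [this, one_mul, hj]

theorem nb_trans (k : Fin 31671) (h : IsNb k) :
    ∃ u : F23, Commute u z ∧ Commute u tB ∧ u * tX * u⁻¹ = D k := by
  have step1 : ∀ q r : Fin 31671, IsNb q → IsNb r → ¬ Commute (D q) (D r) →
      ∃ u : F23, Commute u z ∧ Commute u tB ∧ u * D q * u⁻¹ = D r := fun q r hq hr hn =>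
    ⟨D q * D r, (hq.1.mul_right hr.1).symm, (hq.2.1.mul_right hr.2.1).symm,
      swap_conj (D_mem q) (D_mem r) hn⟩
  have via : ∀ e : List ℕ × ℕ, ∀ (he : e ∈ [eO, eB, eX, eP, e1, e2, e3, e4] ++ lR), nb e.2 = true →
      fx [eX.1] e.2 = false → ¬ fx [e.1] k.1 = true →
      ∃ u : F23, Commute u z ∧ Commute u tB ∧ u * tX * u⁻¹ = D k := by
    intro e he hn hne hk
    have h1 : ¬ Commute (D (fin eX.2)) (D (fin e.2)) := by
      intro hc
      have := (comm_iff_fx eX (by simp) (fin e.2)).2 hc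
      rw [fin_lt he, hne] at this
      simp at this
    obtain ⟨u, hu1, hu2, hu⟩ := step1 _ _ nbX (nb_of e he hn) h1
    obtain ⟨v, hv1, hv2, hv⟩ := step1 _ k (nb_of e he hn) h (fun hc => hk ((comm_iff_fx e he k).2 hc))
    refine ⟨v * u, hv1.mul_left hu1, hv2.mul_left hu2, ?_⟩
    rw [← hv, ← hu]
    show v * u * D (fin eX.2) * (v * u)⁻¹ = _
    group
  have := pair_ok k
  have h0 : ¬ Nat.beq k.1 0 = true := fun e => h.2.2.1 (by
    rw [(beq_iff eO (by simp) k).1 e, T_O])
  simp only [pairTest, Bool.and_eq_true, Bool.or_eq_true, (comm_z_iff k).2 h.1, (nb_iff k).2 h, Bool.not_true,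
    Bool.false_eq_true, false_or, Bool.not_eq_true', ← Bool.not_eq_true, h0] at this
  rcases this.2.2 with ((((hX | hm) | hm) | hm) | hm) | hm
  · refine ⟨1, Commute.one_left _, Commute.one_left _, ?_⟩
    rw [(beq_iff eX (by simp) k).1 hX, one_mul, inv_one, mul_one, tX]
  · exact step1 _ _ nbX h (fun hc => hm ((comm_iff_fx eX (by simp) k).2 hc))
  · exact via e1 (by simp) (by decide +kernel) (by decide +kernel) hm
  · exact via e2 (by simp) (by decide +kernel) (by decide +kernel) hm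
  · exact via e3 (by simp) (by decide +kernel) (by decide +kernel) hm
  · exact via e4 (by simp) (by decide +kernel) (by decide +kernel) hm

theorem pair_trans (p q : Fin 31671) (hc : Commute (D p) (D q)) (hne : p ≠ q) :
    ∃ w : F23, w * z * w⁻¹ = D p ∧ w * tB * w⁻¹ = D q := by
  set v := mv p
  set q' := π v⁻¹ q with hq'
  have hvq : π v q' = q := by rw [hq', map_inv]; exact Equiv.apply_symm_apply _ _
  have hv : π v p0 = p := mv_spec p
  have hz : Commute z (D q') := by
    have e1 : D q' = v⁻¹ * D q * v := by rw [hq', ← D_conj, inv_inv]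
    have e2 : z = v⁻¹ * D p * v := by rw [D_eq hv]; group
    rw [e1, e2]
    show v⁻¹ * D p * v * (v⁻¹ * D q * v) = v⁻¹ * D q * v * (v⁻¹ * D p * v)
    calc v⁻¹ * D p * v * (v⁻¹ * D q * v) = v⁻¹ * (D p * D q) * v := by group
      _ = v⁻¹ * (D q * D p) * v := by rw [hc.eq]
      _ = _ := by group
  have hlab : lab.get 20 q'.1 = 2 := by
    have := pair_ok q'
    simp only [pairTest, Bool.and_eq_true, Bool.or_eq_true, (comm_z_iff q').2 hz,
      Bool.not_true, Bool.false_eq_true, false_or] at this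
    rcases this.2 with h | h
    · exact absurd (by rw [← hvq, show q' = p0 from Fin.ext (Nat.eq_of_beq_eq_true h), hv]) hne
    · exact Nat.eq_of_beq_eq_true h.1
  obtain ⟨w, hw, hwr⟩ : q' ∈ {k | ∃ w ∈ Fi23.H, π w (⟨52, by omega⟩ : Fin 31671) = k} := by
    rw [orbit_class π Fi23.H Fi23.subTable Fi23.sub_spec.1 Fi23.sub_spec.2 lab Fi23.orbPar Fi23.root
      Fi23.orbit_ok ⟨52, by omega⟩ 2 (show Nat.beq (lab.get 20 52) 2 = true by decide +kernel)
      (show Nat.beq (Fi23.root.get 20 2) 52 = true by decide +kernel)]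
    exact hlab
  refine ⟨v * w, ?_, ?_⟩
  · rw [D_eq hv, show v * w * z * (v * w)⁻¹ = v * (w * z) * w⁻¹ * v⁻¹ by group, Fi23.z_comm w hw]
    group
  · rw [tB, T, D_conj, map_mul, Equiv.Perm.mul_apply,
      show fin eB.2 = ⟨52, by omega⟩ from Fin.ext (fin_lt (by simp)), hwr, hvq]

/-- Every involution commutes with a transposition. -/
theorem exists_commute (u : F23) (h2 : u * u = 1) : ∃ k, Commute u (D k) := by
  haveI : Fact (Nat.Prime 2) := ⟨Nat.prime_two⟩
  obtain ⟨k, hk⟩ := Equiv.Perm.exists_fixed_point_of_prime (p := 2) (n := 1)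
    (show ¬ 2 ∣ Fintype.card (Fin 31671) by rw [Fintype.card_fin]; decide)
    (σ := π u) (by rw [pow_one, pow_two, ← map_mul, h2, map_one])
  exact ⟨k, commute_D.2 hk⟩

end CfsgLib.FischerRecog23.Control
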