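import Cfsg.Agent.Lib.FischerRecog23.Base
import Cfsg.Agent.Lib.FischerRecog23.ControlCore
import Cfsg.Agent.Lib.FischerRecog23.ControlData

/-!
An embedded copy of `Fi23` extending an identification of the centraliser of a transposition is the
whole finite group.
-/

set_option autoImplicit false
set_option maxRecDepth 20000

namespace CfsgLib.FischerRecog23

open CfsgLib.CosetEnum CfsgLib.FischerSylow
open CfsgLib.CosetEnum.Fi23 (z)
open Control

theorem range_eq_top {G : Type*} [Group G] [Finite G] {d : G} (L : Local d)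
    (φ : Cfsg.Spor.Fi23 →* G) (hinj : Function.Injective φ)
    (hext : ∀ h : CfsgLib.CosetEnum.Fi23.H, φ (h : Cfsg.Spor.Fi23) = L.ι h) : φ.range = ⊤ := by
  have hz : φ z = d := by rw [← L.map_z, ← hext]; rfl
  set X : Set G := {x | ∃ k : Fin 31671, φ (D k) = x} with hX
  have comm : ∀ {u v : Cfsg.Spor.Fi23}, Commute (φ u) (φ v) ↔ Commute u v := fun {u v} =>
    ⟨fun h => hinj (by rw [map_mul, map_mul, h.eq]), fun h => h.map φ⟩
  have D_ne : ∀ k, D k ≠ 1 := fun k h => by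
    have : orderOf (D k) = 2 := Fi23.threeClass.1.1 _ (D_mem k)
    rw [h, orderOf_one] at this
    omega
  have rep : ∀ k, D k = mv k * z * (mv k)⁻¹ := fun k => rfl
  have cen : ∀ x ∈ X, ∀ g : G, Commute g x → g ∈ φ.range := by
    rintro _ ⟨k, rfl⟩ g hg
    rw [rep, map_mul, map_mul, map_inv, hz] at hg
    set v := φ (mv k)
    have h : v⁻¹ * g * v ∈ L.ι.range := by
      rw [L.range_eq, Subgroup.mem_centralizer_singleton_iff]
      calc v⁻¹ * g * v * d = v⁻¹ * (g * (v * d * v⁻¹)) * v := by group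
        _ = v⁻¹ * (v * d * v⁻¹ * g) * v := by rw [hg.eq]
        _ = d * (v⁻¹ * g * v) := by group
    obtain ⟨x, hx⟩ := h
    refine ⟨mv k * x * (mv k)⁻¹, ?_⟩
    rw [map_mul, map_mul, map_inv, hext, hx]
    show v * (v⁻¹ * g * v) * v⁻¹ = g
    group
  have fus : ∀ g : G, ∀ x ∈ X, g * x * g⁻¹ ∈ φ.range → g * x * g⁻¹ ∈ X := by
    rintro g _ ⟨k, rfl⟩ ⟨u, hu⟩
    rw [rep, map_mul, map_mul, map_inv, hz] at hu ⊢
    set v := φ (mv k)
    have hu2 : u * u = 1 := hinj (by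
      rw [map_mul, map_one, hu,
        show g * (v * d * v⁻¹) * g⁻¹ * (g * (v * d * v⁻¹) * g⁻¹) = g * v * (d * d) * (g * v)⁻¹ by group,
        ← hz, ← map_mul, show z * z = 1 by rw [← T_O]; exact D_sq _, map_one]
      group)
    obtain ⟨l, hl⟩ := exists_commute u hu2
    rw [rep] at hl
    have hc := hl.map φ
    rw [map_mul, map_mul, map_inv, hz] at hc
    set w := φ (mv l)
    obtain ⟨x, hx⟩ := L.exists_pre (e := w⁻¹ * φ u * w) (by
      calc w⁻¹ * φ u * w * d = w⁻¹ * (φ u * (w * d * w⁻¹)) * w := by group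
        _ = w⁻¹ * (w * d * w⁻¹ * φ u) * w := by rw [hc.eq]
        _ = d * (w⁻¹ * φ u * w) := by group)
    have hcj : (x : Cfsg.Spor.Fi23) ∈ conjugatesOf z :=
      (L.fus x).1 (isConj_iff.mpr ⟨w⁻¹ * g * v, by rw [hx, hu]; group⟩)
    obtain ⟨c, hc'⟩ := exists_D hcj
    refine ⟨Fi23.π (mv l) c, ?_⟩
    rw [← D_conj, hc', map_mul, map_mul, map_inv, hext, hx, ← hu]
    show w * (w⁻¹ * φ u * w) * w⁻¹ = φ u
    group
  have tB_ne : tB ≠ 1 := D_ne _
  have nfix_pair : ∀ p q : Fin 31671, Commute (D p) (D q) → p ≠ q → nfix (D p * D q) = 695 := by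
    intro p q hc hne
    obtain ⟨w, h1, h2⟩ := pair_trans p q hc hne
    rw [← nfix_t, ← nfix_conj w (z * tB), ← h1, ← h2]
    congr 1
    group
  have jX : ∀ k, D k ≠ z * tB * tX := by
    intro k hk
    have h1 := nfix_jp
    rw [← hk] at h1
    by_cases hkp : k = fin eP.2
    · subst hkp
      rw [show D (fin eP.2) * tP = 1 from D_sq _, nfix_one] at h1
      omega
    · have h2 := nfix_pair k (fin eP.2) (by rw [hk]; exact comm_P) hkp
      rw [show D (fin eP.2) = tP from rfl] at h2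
      omega
  have j1 : z * tB * tX ≠ 1 := by
    intro h
    have h1 := nfix_jp
    rw [h, one_mul, show tP = mv (fin eP.2) * z * (mv (fin eP.2))⁻¹ from rep _, nfix_conj] at h1
    have hzx : z = tB * tX := by
      have hX2 : tX * tX = 1 := D_sq _
      have hB2 : tB * tB = 1 := D_sq _
      have e : z * tB = tX := by
        rw [← mul_one (z * tB), ← hX2, ← mul_assoc, h, one_mul]
      rw [← e, ← mul_assoc, ← comm_zB.eq, mul_assoc, hB2, mul_one]
    have h2 := nfix_pair (fin eB.2) (fin eX.2) nbX.2.1 (fun e => nbX.2.2.2 (by rw [← e]; rfl))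
    rw [show D (fin eB.2) * D (fin eX.2) = z from hzx.symm] at h2
    omega
  have nbX' : ∀ r ∈ X, Commute (φ z) r → Commute (φ tB) r → r ≠ φ z → r ≠ φ tB →
      ∃ k, φ (D k) = r ∧ IsNb k := by
    rintro _ ⟨k, rfl⟩ h1 h2 h3 h4
    exact ⟨k, rfl, comm.1 h1, comm.1 h2, fun h => h3 (by rw [h]), fun h => h4 (by rw [h])⟩
  refine Cfg.top (M := φ.range) (X := X) (a := φ z) (b := φ tB) (x₀ := φ tX) (p := φ tP)
    ?_ (by rw [← map_mul, ← map_mul]; exact fun h => j1 (hinj (h.trans (map_one φ).symm)))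
  constructor
  · rintro _ ⟨k, rfl⟩; exact ⟨_, rfl⟩
  · rintro _ ⟨k, rfl⟩; rw [← map_mul, D_sq, map_one]
  · rintro _ ⟨k, rfl⟩ _ ⟨l, rfl⟩
    refine ⟨φ (mv l * (mv k)⁻¹), ⟨_, rfl⟩, ?_⟩
    rw [← map_inv, ← map_mul, ← map_mul, rep k, rep l]
    congr 1
    group
  · exact cen
  · exact fus
  · rintro _ ⟨u, rfl⟩ _ h2
    obtain ⟨k, hk⟩ := exists_commute u (hinj (by rw [map_mul, h2, map_one]))
    exact ⟨_, ⟨k, rfl⟩, hk.symm.map φ⟩
  · exact ⟨fin eO.2, congrArg φ T_O⟩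
  · exact ⟨fin eB.2, rfl⟩
  · exact comm_zB.map φ
  · intro h
    have := nfix_t
    rw [← hinj h, show z * z = 1 by rw [← T_O]; exact D_sq _, nfix_one] at this
    omega
  · rintro ⟨k, hk⟩
    rw [← map_mul] at hk
    have hk' := hinj hk
    rcases fixed_pair k (by rw [hk']) with h | h | h
    · exact tB_ne (mul_eq_left.1 (hk'.symm.trans h))
    · exact Fi23.z_ne_one (mul_eq_right.1 (hk'.symm.trans h))
    · obtain ⟨u, hu1, hu2, hu⟩ := nb_trans k h
      refine j1 ?_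
      have : tX = z * tB := by
        rw [show tX = u⁻¹ * D k * u by rw [← hu]; group, hk', mul_assoc, ← (hu1.mul_right hu2).eq, inv_mul_cancel_left]
      rw [this, ← hk', D_sq]
  · rintro _ ⟨k, rfl⟩ _ ⟨l, rfl⟩ hc hne
    obtain ⟨w, h1, h2⟩ := pair_trans k l (comm.1 hc) (fun h => hne (by rw [h]))
    exact ⟨φ w, ⟨_, rfl⟩, by rw [← map_inv, ← map_mul, ← map_mul, h1],
      by rw [← map_inv, ← map_mul, ← map_mul, h2]⟩
  · rintro _ ⟨k, rfl⟩ hc
    rw [← map_mul] at hc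
    rcases fixed_pair k (comm.1 hc) with h | h | ⟨h1, h2, h3, h4⟩
    · exact Or.inl (by rw [h])
    · exact Or.inr (Or.inl (by rw [h]))
    · exact Or.inr (Or.inr ⟨h1.map φ, h2.map φ, fun h => h3 (hinj h), fun h => h4 (hinj h)⟩)
  · intro r hr h1 h2 h3 h4
    obtain ⟨k, rfl, hk⟩ := nbX' r hr h1 h2 h3 h4
    obtain ⟨u, hu1, hu2, hu⟩ := nb_trans k hk
    rintro ⟨l, hl⟩
    refine jX (Fi23.π u⁻¹ l) ?_
    rw [← map_mul, ← map_mul] at hl
    rw [← D_conj, hinj hl, inv_inv, (hk.1.symm.mul_right hk.2.1.symm).eq, ← hu]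
    calc u⁻¹ * (z * tB * (u * tX * u⁻¹)) * u = u⁻¹ * (z * tB * u) * tX := by group
      _ = u⁻¹ * (u * (z * tB)) * tX := by rw [(hu1.mul_right hu2).eq]
      _ = z * tB * tX := by group
  · exact ⟨fin eX.2, rfl⟩
  · exact nbX.1.map φ
  · exact nbX.2.1.map φ
  · intro r hr h1 h2 h3 h4
    obtain ⟨k, rfl, hk⟩ := nbX' r hr h1 h2 h3 h4
    obtain ⟨u, hu1, hu2, hu⟩ := nb_trans k hk
    exact ⟨φ u, ⟨_, rfl⟩, hu1.map φ, hu2.map φ, by rw [← map_inv, ← map_mul, ← map_mul, hu]⟩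
  · exact ⟨fin eP.2, rfl⟩
  · rw [← map_mul, ← map_mul]; exact comm_P.symm.map φ
  · rintro _ ⟨m, rfl⟩ h
    rw [← map_inv, ← map_mul, ← map_mul, ← map_mul, ← map_mul, ← map_mul, ← map_mul] at h
    have := congrArg nfix (hinj h)
    rw [nfix_conj, nfix_jp,
      show tB * tX = D (fin eB.2) * D (fin eX.2) from rfl,
      nfix_pair _ _ nbX.2.1 (fun e => nbX.2.2.2 (by rw [← e]; rfl))] at this
    omega
  · refine ⟨lR.map fun e => φ (T e), 4, ?_, ?_, ?_⟩
    · intro r hr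
      obtain ⟨e, he, rfl⟩ := List.mem_map.1 hr
      obtain ⟨h1, h2, h3, h4⟩ := lR_nb e he
      exact ⟨⟨_, rfl⟩, h1.map φ, h2.map φ, fun h => h3 (hinj h), fun h => h4 (hinj h)⟩
    · rw [List.length_map]; exact ⟨3, rfl⟩
    · rw [show (lR.map fun e => φ (T e)).prod = φ ((lR.map T).prod) by
        rw [map_list_prod, List.map_map]; rfl, ← map_pow, rel_one, map_one]

end CfsgLib.FischerRecog23
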