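import Cfsg.Agent.Lib.Schur.FiTwentyTwo.Main
import Cfsg.Agent.Lib.CosetEnum.Fi22U6.Cover
import Cfsg.Agent.Lib.CosetEnum.Fi23.ThreeTrans
import Cfsg.Prelude.Def_Spor_Fi22

/-!
A perfect group with a quotient `Fi22` by a subgroup of order two is the point stabiliser of `Fi23`.
-/

set_option autoImplicit false

namespace CfsgLib.FischerRecog23

open CfsgLib.CosetEnum

local notation "F22" => Cfsg.Spor.Fi22
local notation "F23" => Cfsg.Spor.Fi23

universe u

/-- The covering map with its values on the generators. -/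
theorem exists_proj : ∃ σ : ↥Fi23.H →* F22, Function.Surjective σ ∧ Nat.card σ.ker = 2 ∧
    ∀ j : Fin 9, ∀ h : Fi23.g (Fi23.sel.getD j 15) ∈ Fi23.H, σ ⟨_, h⟩ = Fi22.g j := by
  haveI : Finite F23 := Fi23.finite
  haveI : Finite F22 := Fi22.finite
  obtain ⟨f, -, hf⟩ := exists_hom_of_corr Fi23.π Fi22.π Fi22.injective Fi23.σ Fi23.σ_injective
    (fun j : Fin 9 => Fi23.g (Fi23.sel.getD j 15)) (fun j : Fin 9 => Fi22.g j) Fi23.H
    Fi23.sub_eq_closure.le Fi23.corr
  have hs : Function.Surjective f := by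
    rw [← MonoidHom.range_eq_top, eq_top_iff]
    refine Fi22.translation.closure_top.trans ((Subgroup.closure_le _).mpr ?_)
    rintro _ ⟨x, hx, rfl⟩
    rcases Fi22.gen_or_one x hx with h | h
    · exact ⟨_, hf ⟨x, h⟩ (Fi23.mem_sub _ ((by decide : ∀ j : Fin 9, Fi23.sel.getD j 15 ∈ Fi23.sel) _))⟩
    · show Fi22.g x ∈ f.range
      rw [h]; exact f.range.one_mem
  refine ⟨f, hs, ?_, fun j h => hf j h⟩
  have h1 := Subgroup.card_eq_card_quotient_mul_card_subgroup f.ker
  rw [Nat.card_congr (QuotientGroup.quotientKerEquivOfSurjective f hs).toEquiv, Fi23.card_H, Fi22.card_group] at h1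
  omega

/-- Two double covers over `Fi22` are isomorphic over it. -/
theorem exists_iso_over_aux {C : Type} [Group C] [Finite C] (hperf : _root_.commutator C = ⊤) (τ : C →* F22)
    (hτ : Function.Surjective τ) (hk : Nat.card τ.ker = 2) (σ : ↥Fi23.H →* F22) (hσ : Function.Surjective σ)
    (hkσ : Nat.card σ.ker = 2) : ∃ θ : ↥Fi23.H ≃* C, ∀ x, τ (θ x) = σ x := by
  haveI : Finite F23 := Fi23.finite
  haveI : Finite F22 := Fi22.finite
  obtain ⟨σ2, hσ2, hk2, hperfH, -⟩ := CfsgLib.SchurFi22.exists_double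
  let P : Subgroup (↥Fi23.H × C) := (σ.comp (MonoidHom.fst _ _)).eqLocus (τ.comp (MonoidHom.snd _ _))
  let fstP : P →* ↥Fi23.H := (MonoidHom.fst _ _).comp P.subtype
  let sndP : P →* C := (MonoidHom.snd _ _).comp P.subtype
  have hcompat : ∀ a : P, σ (fstP a) = τ (sndP a) := fun a => a.2
  have hfst : Function.Surjective fstP := fun x => by
    obtain ⟨c, hc⟩ := hτ (σ x); exact ⟨⟨(x, c), hc.symm⟩, rfl⟩
  have hsnd : Function.Surjective sndP := fun c => by
    obtain ⟨x, hx⟩ := hσ (τ c); exact ⟨⟨(x, c), hx⟩, rfl⟩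
  have cen : ∀ {A : Type} [Group A] [Finite A] (f : A →* F22), Nat.card f.ker = 2 → ∀ a ∈ f.ker, ∀ b, a * b = b * a :=
    fun {A} _ _ f hf a ha b => by
      obtain ⟨x, hx, huniq⟩ := (Nat.card_eq_two_iff' (1 : f.ker)).1 hf
      rcases eq_or_ne (⟨a, ha⟩ : f.ker) 1 with h | h
      · rw [show a = 1 from congrArg Subtype.val h, one_mul, mul_one]
      · have hb : (⟨b * a * b⁻¹, (MonoidHom.normal_ker f).conj_mem a ha b⟩ : f.ker) ≠ 1 := fun e => by
          have e' : b * a * b⁻¹ = 1 := congrArg Subtype.val e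
          exact h (Subtype.ext (by simpa using e'))
        have e := congrArg Subtype.val ((huniq _ hb).trans (huniq _ h).symm)
        simp only at e
        conv_lhs => rw [← e]
        group
  let R : Subgroup P := _root_.commutator P
  have hRfst : R.map fstP = ⊤ := by
    rw [show R = ⁅(⊤ : Subgroup P), ⊤⁆ from rfl, Subgroup.map_commutator, Subgroup.map_top_of_surjective _ hfst]
    exact hperfH
  have hRsnd : R.map sndP = ⊤ := by
    rw [show R = ⁅(⊤ : Subgroup P), ⊤⁆ from rfl, Subgroup.map_commutator, Subgroup.map_top_of_surjective _ hsnd]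
    exact hperf
  let ρ : R →* F22 := (σ.comp fstP).comp R.subtype
  have hρ : Function.Surjective ρ := fun b => by
    obtain ⟨x, hx⟩ := hσ b
    obtain ⟨r, hr, e⟩ : x ∈ R.map fstP := hRfst ▸ Subgroup.mem_top x
    exact ⟨⟨r, hr⟩, (congrArg σ e).trans hx⟩
  have hcentP : ∀ a : P, σ (fstP a) = 1 → ∀ b : P, a * b = b * a := fun a ha b =>
    Subtype.ext (Prod.ext (cen σ hkσ _ ha _) (cen τ hk _ (show τ (sndP a) = 1 by rw [← hcompat, ha]) _))
  have hsup : ∀ a : P, ∃ r ∈ R, ∃ k : P, σ (fstP k) = 1 ∧ a = r * k := fun a => by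
    obtain ⟨⟨r, hr⟩, e⟩ := hρ (σ (fstP a))
    refine ⟨r, hr, r⁻¹ * a, ?_, by group⟩
    have e' : σ (fstP r) = σ (fstP a) := e
    rw [map_mul, map_mul, map_inv, map_inv, e', inv_mul_cancel]
  have hRperf : _root_.commutator R = ⊤ := by
    have hle : R ≤ ⁅R, R⁆ := by
      show ⁅(⊤ : Subgroup P), ⊤⁆ ≤ ⁅R, R⁆
      rw [Subgroup.commutator_le]
      intro a _ b _
      obtain ⟨r, hr, k, hk', rfl⟩ := hsup a
      obtain ⟨s, hs, l, hl, rfl⟩ := hsup b
      have e : r * k * (s * l) * (r * k)⁻¹ * (s * l)⁻¹ = r * s * r⁻¹ * s⁻¹ := by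
        have hkc : ∀ y, k * y = y * k := hcentP k hk'
        have hlc : ∀ y, l * y = y * l := hcentP l hl
        calc r * k * (s * l) * (r * k)⁻¹ * (s * l)⁻¹ = r * (k * (s * l)) * k⁻¹ * r⁻¹ * l⁻¹ * s⁻¹ := by group
          _ = r * s * (l * r⁻¹) * l⁻¹ * s⁻¹ := by rw [hkc]; group
          _ = r * s * r⁻¹ * s⁻¹ := by rw [hlc]; group
      rw [commutatorElement_def, e, ← commutatorElement_def]
      exact Subgroup.commutator_mem_commutator hr hs
    refine eq_top_iff.2 fun r _ => ?_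
    obtain ⟨r', hr', e⟩ : (r : P) ∈ (_root_.commutator R).map R.subtype := by
      rw [commutator_def, Subgroup.map_commutator, ← MonoidHom.range_eq_map, Subgroup.range_subtype]
      exact hle r.2
    rwa [← Subtype.ext e]
  have hstem : Cfsg.IsStemExtension ρ :=
    ⟨hρ, fun a ha => Subgroup.mem_center_iff.2 fun b => Subtype.ext (hcentP a ha b).symm,
      by rw [hRperf]; exact le_top⟩
  have hle2 : Nat.card ρ.ker ≤ 2 := by
    obtain ⟨π, hπ⟩ := CfsgLib.SchurFi22.exists_onto ρ hstem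
    set k := π (Multiplicative.ofAdd 1) with hk'
    have hall : ∀ a, a ∈ Subgroup.zpowers k := fun a => by
      obtain ⟨m, rfl⟩ := hπ a
      refine ⟨((Multiplicative.toAdd m).val : ℤ), ?_⟩
      show k ^ (((Multiplicative.toAdd m).val : ℕ) : ℤ) = π m
      rw [zpow_natCast, hk', ← map_pow, ← ofAdd_nsmul, nsmul_one, ZMod.natCast_zmod_val, ofAdd_toAdd]
    have h2 : k ^ 2 = 1 := by
      have sq : ∀ {A : Type} [Group A] [Finite A] (f : A →* F22), Nat.card f.ker = 2 → ∀ a ∈ f.ker, a * a = 1 :=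
        fun {A} _ _ f hf a ha => by
          have := pow_card_eq_one' (x := (⟨a, ha⟩ : f.ker))
          rw [hf, pow_two] at this
          exact congrArg Subtype.val this
      apply Subtype.ext; apply Subtype.ext; apply Subtype.ext
      have h0 : σ (fstP (k : R)) = 1 := k.2
      rw [pow_two]
      exact Prod.ext (sq σ hkσ _ h0) (sq τ hk _ (show τ (sndP (k : R)) = 1 by rw [← hcompat]; exact h0))
    calc Nat.card ρ.ker = Nat.card (Subgroup.zpowers k) := by
          rw [show Subgroup.zpowers k = ⊤ from eq_top_iff.2 fun a _ => hall a, Subgroup.card_top]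
      _ ≤ 2 := by rw [Nat.card_zpowers]; exact Nat.le_of_dvd (by norm_num) (orderOf_dvd_of_pow_eq_one h2)
  have hcardR : Nat.card R ≤ 2 * Nat.card F22 := by
    rw [Subgroup.card_eq_card_quotient_mul_card_subgroup ρ.ker,
      Nat.card_congr (QuotientGroup.quotientKerEquivOfSurjective ρ hρ).toEquiv, mul_comm 2]
    exact Nat.mul_le_mul_left _ hle2
  have hcard : ∀ {A : Type} [Group A] [Finite A] (f : A →* F22), Function.Surjective f → Nat.card f.ker = 2 →
      Nat.card A = 2 * Nat.card F22 := fun {A} _ _ f hf hfk => by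
    rw [Subgroup.card_eq_card_quotient_mul_card_subgroup f.ker,
      Nat.card_congr (QuotientGroup.quotientKerEquivOfSurjective f hf).toEquiv, hfk, mul_comm]
  have b1 : Function.Bijective (fstP.comp R.subtype) := by
    refine Function.Surjective.bijective_of_nat_card_le (fun x => ?_) (by rw [hcard σ hσ hkσ]; exact hcardR)
    obtain ⟨r, hr, e⟩ : x ∈ R.map fstP := hRfst ▸ Subgroup.mem_top x
    exact ⟨⟨r, hr⟩, e⟩
  have b2 : Function.Bijective (sndP.comp R.subtype) := by
    refine Function.Surjective.bijective_of_nat_card_le (fun x => ?_) (by rw [hcard τ hτ hk]; exact hcardR)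
    obtain ⟨r, hr, e⟩ : x ∈ R.map sndP := hRsnd ▸ Subgroup.mem_top x
    exact ⟨⟨r, hr⟩, e⟩
  refine ⟨(MulEquiv.ofBijective _ b1).symm.trans (MulEquiv.ofBijective _ b2), fun x => ?_⟩
  obtain ⟨r, rfl⟩ := (MulEquiv.ofBijective _ b1).surjective x
  rw [MulEquiv.trans_apply, MulEquiv.symm_apply_apply]
  exact (hcompat r).symm

/-- The same in every universe. -/
theorem exists_iso_over {C : Type u} [Group C] [Finite C] (hperf : _root_.commutator C = ⊤) (τ : C →* F22)
    (hτ : Function.Surjective τ) (hk : Nat.card τ.ker = 2) (σ : ↥Fi23.H →* F22) (hσ : Function.Surjective σ)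
    (hkσ : Nat.card σ.ker = 2) : ∃ θ : ↥Fi23.H ≃* C, ∀ x, τ (θ x) = σ x := by
  haveI : Small.{0} C := ⟨⟨Fin (Nat.card C), ⟨Finite.equivFin C⟩⟩⟩
  let e : Shrink.{0} C ≃* C := Shrink.mulEquiv
  haveI : Finite (Shrink.{0} C) := Finite.of_equiv C e.symm.toEquiv
  have hp : _root_.commutator (Shrink.{0} C) = ⊤ := by
    have h : (_root_.commutator C).map e.symm.toMonoidHom = ⊤ := by
      rw [hperf]; exact Subgroup.map_top_of_surjective _ e.symm.surjective
    rw [commutator_def, Subgroup.map_commutator, Subgroup.map_top_of_surjective _ e.symm.surjective] at h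
    exact h
  have hk' : Nat.card (τ.comp e.toMonoidHom).ker = 2 := by
    rw [← hk, ← MonoidHom.comap_ker]
    exact Nat.card_congr (Equiv.subtypeEquiv e.toEquiv fun _ => Iff.rfl)
  obtain ⟨θ, hθ⟩ := exists_iso_over_aux hp (τ.comp e.toMonoidHom) (hτ.comp e.surjective) hk' σ hσ hkσ
  exact ⟨θ.trans e, hθ⟩

end CfsgLib.FischerRecog23
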