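import Cfsg.Agent.Lib.FischerRecog23.Base
import Cfsg.Agent.Lib.CosetEnum.Fi22U6.Cover
import Cfsg.Prelude.Def_CaseTheorems

set_option autoImplicit false
set_option maxRecDepth 100000

/-!
A quasisimple double cover of `Fi22` is the centraliser of a transposition of `Fi23`.
-/

namespace CfsgLib.FischerRecog23

open CfsgLib.CosetEnum

namespace Lift

open CfsgLib.CosetEnum.Fi22U6 (z)

local notation "F" => Cfsg.Spor.Fi22
local notation "DD" => (conjugatesOf z : Set Cfsg.Spor.Fi22)

/-- The letter of the large group over a letter of the small one. -/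
def selOf (i : ℕ) : ℕ := Fi23.sel.getD i 15

theorem selOf_mem : ∀ i < 9, selOf i ∈ Fi23.sel := by decide +kernel

theorem sel_cases : ∀ k ∈ Fi23.sel, ∃ i < 9, selOf i = k := by decide +kernel

/-! ### Homomorphisms from the small group -/

theorem prod_rep {M : Type*} [Monoid M] (y : ℕ → M) (n : ℕ) (l : List ℕ) :
    ((List.replicate n l).flatten.map y).prod = ((l.map y).prod) ^ n := by
  rw [List.map_flatten, List.prod_flatten, List.map_map, List.map_replicate, List.prod_replicate]
  rfl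

theorem exists_hom_fi22 {M : Type*} [Group M] (y : ℕ → M) (h : ∀ l ∈ Fi22.ls, (l.map y).prod = 1) :
    ∃ φ : F →* M, ∀ i < 9, φ (Fi22.g i) = y i := by
  have hcox : ∀ a b : Cfsg.Spor.Fi22.Gen,
      (y (Fi22.idx a) * y (Fi22.idx b)) ^ Cfsg.Spor.coxLabel Cfsg.Spor.Fi22.edges a b = 1 := by
    intro a b
    have h1 := h (List.replicate (Cfsg.Spor.coxLabel Cfsg.Spor.Fi22.edges a b)
        [Fi22.idx a, Fi22.idx b]).flatten (by
      rw [Fi22.translation.hls, List.mem_append]
      left
      simp only [coxWordsOf, List.mem_flatMap, List.mem_map]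
      exact ⟨a, by cases a <;> decide, b, by cases b <;> decide, rfl⟩)
    rw [prod_rep] at h1
    simpa using h1
  have hew : ∀ (n : ℕ) (w : List ℕ), (List.replicate n w).flatten ∈ Fi22.ls → ((w.map y).prod) ^ n = 1 :=
    fun n w hw => by rw [← prod_rep]; exact h _ hw
  have hr : ∀ r ∈ Cfsg.Spor.coxRelators Cfsg.Spor.Fi22.edges ∪ {r | r ∈ Cfsg.Spor.Fi22.extra},
      FreeGroup.lift (fun a => y (Fi22.idx a)) r = 1 := by
    intro r hr
    rcases hr with ⟨a, -, b, -, rfl⟩ | hr
    · simpa using hcox a b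
    · simp only [Set.mem_ofPred_eq, Cfsg.Spor.Fi22.extra, List.mem_cons, List.not_mem_nil, or_false] at hr
      rcases hr with rfl | rfl | rfl
      · simpa [Fi22.idx, mul_assoc] using hew 10 [3, 2, 1, 3, 4, 5, 3, 7, 8] (by decide +kernel)
      · simpa [Fi22.idx, mul_assoc] using hew 9 [0, 1, 2, 3, 4, 5, 7] (by decide +kernel)
      · simpa [Fi22.idx, mul_assoc] using hew 9 [1, 2, 3, 4, 5, 6, 7] (by decide +kernel)
  refine ⟨PresentedGroup.toGroup hr, fun i hi => ?_⟩
  have hgF : ∃ a, Fi22.gF i = FreeGroup.of a ∧ Fi22.idx a = i := by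
    interval_cases i
    exacts [⟨.a, rfl, rfl⟩, ⟨.b, rfl, rfl⟩, ⟨.c, rfl, rfl⟩, ⟨.d, rfl, rfl⟩, ⟨.e, rfl, rfl⟩, ⟨.f, rfl, rfl⟩,
      ⟨.g, rfl, rfl⟩, ⟨.h, rfl, rfl⟩, ⟨.i, rfl, rfl⟩]
  obtain ⟨a, ha, hai⟩ := hgF
  rw [Fi22.g, gen, ha]
  exact (PresentedGroup.toGroup.of hr).trans (congrArg y hai)

theorem hom_ext {M : Type*} [Group M] (φ ψ : F →* M) (h : ∀ i < 9, φ (Fi22.g i) = ψ (Fi22.g i)) : φ = ψ := by
  refine PresentedGroup.ext fun a => ?_
  have hg : Fi22.g (Fi22.idx a) = PresentedGroup.of a := congrArg _ (Fi22.translation.hidx a).2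
  rw [← hg]
  exact h _ (by cases a <;> decide)

/-! ### Words checked on the points -/

/-- The value of a word. -/
def W (l : List ℕ) : F := (l.map Fi22.g).prod

theorem W_append (a b : List ℕ) : W (a ++ b) = W a * W b := by rw [W, W, W, List.map_append, List.prod_append]

/-- The test that two words have the same action. -/
noncomputable def eqTest (a b : List ℕ) : Bool :=
  allFrom (fun k => Nat.beq (scan Fi22.table a.reverse k) (scan Fi22.table b.reverse k)) 3510 0

theorem eqTest_spec {a b : List ℕ} (ha : ∀ x ∈ a, x < 16) (hb : ∀ x ∈ b, x < 16) (h : eqTest a b = true) :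
    W a = W b := by
  refine Fi22.injective (Equiv.ext fun k => Fin.ext ?_)
  rw [W, W, Fi22U6.π_word a ha, Fi22U6.π_word b hb]
  exact Nat.eq_of_beq_eq_true (allFrom_spec _ _ _ h k.1 (Nat.zero_le _) (by have := k.2; omega))

/-- The word of the transposition at the end of a path. -/
def tw (t : List ℕ) : List ℕ := t ++ [0] ++ t.reverse

theorem tw_mem {t : List ℕ} (ht : ∀ x ∈ t, x < 16) : W (tw t) ∈ DD := by
  refine isConj_iff.mpr ⟨W t, ?_⟩
  rw [tw, W_append, W_append, ← show (W t)⁻¹ = W t.reverse from Fi22U6.word_inv t ht]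
  simp [W, z]

/-- The paths to the letters. -/
def letterPath : ℕ → List ℕ
  | 1 => [0, 1]
  | 2 => [1, 2, 0, 1]
  | 3 => [2, 3, 1, 2, 0, 1]
  | 4 => [3, 4, 2, 3, 1, 2, 0, 1]
  | 5 => [4, 5, 3, 4, 2, 3, 1, 2, 0, 1]
  | 6 => [5, 6, 4, 5, 3, 4, 2, 3, 1, 2, 0, 1]
  | 7 => [3, 7, 2, 3, 1, 2, 0, 1]
  | 8 => [7, 8, 3, 7, 2, 3, 1, 2, 0, 1]
  | _ => []

theorem letter_ok : ∀ i < 9, eqTest [i] (tw (letterPath i)) = true := by decide +kernel

theorem g_mem {i : ℕ} (hi : i < 9) : Fi22.g i ∈ DD := by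
  have h1 : ∀ i < 9, ∀ x ∈ letterPath i, x < 16 := by decide +kernel
  have h2 : ∀ i < 9, ∀ x ∈ tw (letterPath i), x < 16 := by decide +kernel
  have h := eqTest_spec (by simp; omega) (h2 i hi) (letter_ok i hi)
  rw [show W [i] = Fi22.g i by simp [W]] at h
  exact h ▸ tw_mem (h1 i hi)

theorem sq_DD {u : F} (hu : u ∈ DD) : u * u = 1 := by
  obtain ⟨w, rfl⟩ := isConj_iff.mp hu
  have h := pow_orderOf_eq_one z
  rw [Fi22U6.orderOf_z, pow_two] at h
  calc w * z * w⁻¹ * (w * z * w⁻¹) = w * (z * z) * w⁻¹ := by group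
    _ = 1 := by rw [h]; group

theorem conj_mem_DD (g : F) {u : F} (hu : u ∈ DD) : g * u * g⁻¹ ∈ DD :=
  IsConj.trans hu (isConj_iff.mpr ⟨g, rfl⟩)

/-- The mirror of the diagram. -/
def mir : ℕ → ℕ
  | 0 => 6 | 1 => 5 | 2 => 4 | 4 => 2 | 5 => 1 | 6 => 0 | k => k

theorem mir_lt : ∀ i < 9, mir i < 9 ∧ mir (mir i) = i := by decide +kernel

/-- The spider word. -/
def spider : List ℕ := [3, 2, 1, 3, 4, 5, 3, 7, 8]
/-- The first word of type `E7`. -/
def eA : List ℕ := [0, 1, 2, 3, 4, 5, 7]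
/-- The second word of type `E7`. -/
def eB : List ℕ := [1, 2, 3, 4, 5, 6, 7]

theorem rels_to : ∀ l ∈ Fi22.ls, l.map selOf ∈ selRels ∨ l.map selOf = zWord := by decide +kernel

theorem ls_lt : ∀ l ∈ Fi22.ls, ∀ i ∈ l, i < 9 := by decide +kernel

theorem selRels_sub : ∀ l ∈ selRels, l ∈ Fi23.ls ∧ ∀ k ∈ l, k ∈ Fi23.sel := by
  intro l hl
  rw [selRels, List.mem_filter] at hl
  exact ⟨hl.1, fun k hk => of_decide_eq_true (List.all_eq_true.mp hl.2 k hk)⟩

theorem selRels_cases : ∀ l ∈ selRels, l = (List.replicate 10 (spider.map selOf)).flatten ∨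
    l = (List.replicate 9 (eA.map selOf)).flatten ∨
    ∃ i < 9, ∃ j < 9, ∃ m < 4, 1 ≤ m ∧ l = (List.replicate m [selOf i, selOf j]).flatten ∧
      (List.replicate m [i, j]).flatten ∈ Fi22.ls := by
  decide +kernel

theorem mir_cox : ∀ i < 9, ∀ j < 9, ∀ m < 4, (List.replicate m [i, j]).flatten ∈ Fi22.ls →
    (List.replicate m [mir i, mir j]).flatten ∈ Fi22.ls := by
  have h : ∀ i < 9, ∀ j < 9, ∀ m : Fin 4, (List.replicate m.1 [i, j]).flatten ∉ Fi22.ls ∨
      (List.replicate m.1 [mir i, mir j]).flatten ∈ Fi22.ls := by decide +kernel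
  exact fun i hi j hj m hm hmem => (h i hi j hj ⟨m, hm⟩).resolve_left fun h' => h' hmem

theorem spider_pow : eqTest (List.replicate 5 spider).flatten
    (tw [5, 4, 2, 3, 7, 8, 3, 4, 2, 3, 7, 5, 4, 3, 2, 0, 1]) = true := by decide +kernel

theorem mir_spider_pow : eqTest (List.replicate 5 (spider.map mir)).flatten
    (tw [4, 1, 2, 3, 7, 8, 3, 4, 2, 3, 7, 5, 4, 3, 2, 0, 1]) = true := by decide +kernel

/-- The paths to seven commuting transpositions with product one. -/
def seven : List (List ℕ) :=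
  [[], [1, 2, 0, 1], [3, 4, 2, 3, 1, 2, 0, 1], [7, 8, 3, 7, 2, 3, 1, 2, 0, 1],
    [7, 8, 3, 7, 4, 3, 1, 2, 0, 1], [7, 8, 1, 2, 3, 7, 4, 3, 2, 1],
    [3, 4, 2, 3, 7, 8, 1, 2, 3, 7, 4, 3, 2, 1]]

theorem seven_prod : eqTest (seven.map tw).flatten [] = true := by decide +kernel

theorem tw_comm {s a : List ℕ} (hs : ∀ x ∈ s, x < 16) (ha : ∀ x ∈ a, x < 16)
    (h : Nat.beq (scan Fi22.table (tw s).reverse (scan Fi22.table a.reverse 0)) (scan Fi22.table a.reverse 0) = true) :
    W (tw s) * W (tw a) = W (tw a) * W (tw s) := by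
  have htw : ∀ x ∈ tw s, x < 16 := by
    intro x hx
    simp only [tw, List.mem_append, List.mem_reverse, List.mem_singleton] at hx
    rcases hx with (hx | hx) | hx
    exacts [hs x hx, by omega, hs x hx]
  have hfix : Fi22.π (W (tw s)) (Fi22.π (W a) ⟨0, by omega⟩) = Fi22.π (W a) ⟨0, by omega⟩ := Fin.ext (by
    rw [W, W, Fi22U6.π_word (tw s) htw, Fi22U6.π_word a ha]
    exact Nat.eq_of_beq_eq_true h)
  have hmem : (W a)⁻¹ * W (tw s) * W a ∈ Fi22.H := Fi22U6.mem_of_fix _ (by
    rw [map_mul, map_mul, Equiv.Perm.mul_apply, Equiv.Perm.mul_apply, hfix, map_inv]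
    simp)
  have hc := Fi22U6.z_comm _ hmem
  have e : W (tw a) = W a * z * (W a)⁻¹ := by
    rw [show tw a = a ++ [0] ++ a.reverse from rfl, W_append, W_append,
      ← show (W a)⁻¹ = W a.reverse from Fi22U6.word_inv a ha]
    simp [W, z]
  rw [e]
  calc W (tw s) * (W a * z * (W a)⁻¹) = W a * ((W a)⁻¹ * W (tw s) * W a * z) * (W a)⁻¹ := by group
    _ = W a * (z * ((W a)⁻¹ * W (tw s) * W a)) * (W a)⁻¹ := by rw [hc]
    _ = W a * z * (W a)⁻¹ * W (tw s) := by group

theorem seven_comm : seven.all (fun s => seven.all fun a => Nat.beq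
    (scan Fi22.table (tw s).reverse (scan Fi22.table a.reverse 0)) (scan Fi22.table a.reverse 0)) = true := by
  decide +kernel

end Lift

open Lift

/-- The presentation of the centraliser of a transposition. -/
theorem exists_hom_H {C : Type*} [Group C] (d : C) (hd : d * d = 1) (hdc : ∀ x, d * x = x * d) (x : ℕ → C)
    (hrel : ∀ l ∈ selRels, (l.map x).prod = 1) (hz : (zWord.map x).prod = d) :
    ∃ f : Fi23.H →* C, f zH = d ∧ ∀ k (hk : k ∈ Fi23.sel), f (gH k hk) = x k := by
  classical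
  haveI : Finite Cfsg.Spor.Fi23 := Fi23.finite
  haveI : Finite Cfsg.Spor.Fi22 := Fi22.finite
  let pr : ℕ → C × Fi23.H := fun k => (x k, if h : k ∈ Fi23.sel then gH k h else 1)
  let P : Subgroup (C × Fi23.H) := Subgroup.closure {p | ∃ k ∈ Fi23.sel, pr k = p}
  have pr_prod : ∀ l : List ℕ, (∀ k ∈ l, k ∈ Fi23.sel) →
      (l.map pr).prod.1 = (l.map x).prod ∧
      ((l.map pr).prod.2 : Cfsg.Spor.Fi23) = (l.map Fi23.g).prod := by
    intro l
    induction l with
    | nil => intro _; simp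
    | cons a r ih =>
      intro h
      obtain ⟨h1, h2⟩ := ih fun k hk => h k (List.mem_cons_of_mem _ hk)
      have ha : a ∈ Fi23.sel := h a (List.mem_cons_self ..)
      simp only [List.map_cons, List.prod_cons, Prod.fst_mul, Prod.snd_mul, Subgroup.coe_mul, h1, h2]
      simp [pr, ha, gH]
  let T : C × Fi23.H := (d, zH)
  have hzw : zWord = Fi23.zw := by decide +kernel
  have hzsel : ∀ k ∈ zWord, k ∈ Fi23.sel := by decide +kernel
  have hT : (zWord.map pr).prod = T := by
    obtain ⟨h1, h2⟩ := pr_prod zWord hzsel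
    refine Prod.ext (h1.trans hz) (Subtype.ext (h2.trans ?_))
    rw [hzw]; rfl
  have hTP : T ∈ P := hT ▸ list_prod_mem fun p hp => by
    obtain ⟨k, hk, rfl⟩ := List.mem_map.mp hp
    exact Subgroup.subset_closure ⟨k, hzsel k hk, rfl⟩
  let t : P := ⟨T, hTP⟩
  have htc : ∀ p : P, t * p = p * t := fun p => by
    refine Subtype.ext (Prod.ext (hdc _) (Subtype.ext ?_))
    exact (Subgroup.mem_centralizer_singleton_iff.mp
      (Fi23.centralizer_z.symm ▸ ((p : C × Fi23.H).2).2)).symm
  have ht2 : t ^ 2 = 1 := by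
    refine Subtype.ext (Prod.ext ?_ (Subtype.ext ?_))
    · simpa [t, T, pow_two] using hd
    · have h := pow_orderOf_eq_one Fi23.z
      rw [Fi23.orderOf_z] at h
      simpa [t, T, zH] using h
  haveI hN : (Subgroup.zpowers t).Normal := ⟨fun n hn g => by
    obtain ⟨k, rfl⟩ := Subgroup.mem_zpowers_iff.mp hn
    have hc : Commute g (t ^ k) := (Commute.zpow_right (show Commute g t from (htc g).symm) k)
    rw [hc.eq, mul_inv_cancel_right]
    exact ⟨k, rfl⟩⟩
  let yP : ℕ → P := fun i =>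
    if h : i < 9 then ⟨pr (selOf i), Subgroup.subset_closure ⟨_, selOf_mem i h, rfl⟩⟩ else 1
  have hrels : ∀ l ∈ Fi22.ls, (l.map fun i => (QuotientGroup.mk (yP i) : P ⧸ Subgroup.zpowers t)).prod = 1 := by
    intro l hl
    have hmap : ((l.map yP).prod : C × Fi23.H) = ((l.map selOf).map pr).prod := by
      rw [Subgroup.val_list_prod, List.map_map, List.map_map]
      congr 1
      refine List.map_congr_left fun i hi => ?_
      simp [yP, ls_lt l hl i hi]
    have hq : (l.map fun i => (QuotientGroup.mk (yP i) : P ⧸ Subgroup.zpowers t)).prod =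
        QuotientGroup.mk' (Subgroup.zpowers t) (l.map yP).prod := by
      rw [map_list_prod, List.map_map]; rfl
    rw [hq, QuotientGroup.mk'_apply, QuotientGroup.eq_one_iff]
    rcases rels_to l hl with h | h
    · obtain ⟨hls, hsel⟩ := selRels_sub _ h
      obtain ⟨h1, h2⟩ := pr_prod _ hsel
      have : (l.map yP).prod = 1 := by
        refine Subtype.ext (hmap.trans (Prod.ext (h1.trans (hrel _ h)) (Subtype.ext ?_)))
        exact h2.trans (Fi23.lsWords _ hls).2
      rw [this]; exact one_mem _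
    · have : (l.map yP).prod = t := Subtype.ext (by rw [hmap, h, hT])
      rw [this]; exact Subgroup.mem_zpowers _
  obtain ⟨φ, hφ⟩ := exists_hom_fi22 _ hrels
  have hφs : Function.Surjective φ := by
    intro b
    induction b using QuotientGroup.induction_on with | H p => ?_
    obtain ⟨p, hp⟩ := p
    revert hp
    intro hp
    induction hp using Subgroup.closure_induction with
    | mem q hq =>
      obtain ⟨k, hk, rfl⟩ := hq
      obtain ⟨i, hi, rfl⟩ := sel_cases k hk
      exact ⟨Fi22.g i, by rw [hφ i hi]; simp [yP, hi]⟩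
    | one => exact ⟨1, map_one φ⟩
    | mul a b ha hb iha ihb =>
      obtain ⟨u, hu⟩ := iha
      obtain ⟨v, hv⟩ := ihb
      exact ⟨u * v, by rw [map_mul, hu, hv]; rfl⟩
    | inv a ha iha =>
      obtain ⟨u, hu⟩ := iha
      exact ⟨u⁻¹, by rw [map_inv, hu]; rfl⟩
  haveI : Finite (P ⧸ Subgroup.zpowers t) := Finite.of_surjective φ hφs
  have hfin : IsOfFinOrder t := isOfFinOrder_iff_pow_eq_one.mpr ⟨2, two_pos, ht2⟩
  haveI : Finite (Subgroup.zpowers t) :=
    Nat.finite_of_card_ne_zero (by rw [Nat.card_zpowers]; exact hfin.orderOf_pos.ne')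
  haveI : Finite P := Finite.of_equiv _ (Subgroup.groupEquivQuotientProdSubgroup (s := Subgroup.zpowers t)).symm
  have hcard : Nat.card P ≤ Nat.card Fi23.H := by
    rw [Fi23.card_H, Subgroup.card_eq_card_quotient_mul_card_subgroup (Subgroup.zpowers t), Nat.card_zpowers]
    calc Nat.card (P ⧸ Subgroup.zpowers t) * orderOf t ≤ Nat.card Cfsg.Spor.Fi22 * 2 :=
          Nat.mul_le_mul (Nat.card_le_card_of_surjective φ hφs)
            (Nat.le_of_dvd two_pos (orderOf_dvd_of_pow_eq_one ht2))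
      _ = 129123503308800 := by rw [Fi22.card_group]
  let s : P →* Fi23.H := (MonoidHom.snd C Fi23.H).comp P.subtype
  have hs : Function.Surjective s := by
    intro w
    have hle : Fi23.H ≤ s.range.map Fi23.H.subtype := by
      conv_lhs => rw [Fi23.sub_eq_closure]
      refine (Subgroup.closure_le _).mpr ?_
      rintro _ ⟨j, rfl⟩
      refine ⟨_, ⟨yP j, rfl⟩, ?_⟩
      show (((yP j : P) : C × Fi23.H).2 : Cfsg.Spor.Fi23) = Fi23.g (selOf j)
      simp [yP, pr, selOf_mem j j.2, gH]
    obtain ⟨v, ⟨p, hp⟩, hvw⟩ := hle w.2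
    exact ⟨p, hp.trans (Subtype.ext hvw)⟩
  have hbij : Function.Bijective s :=
    hs.bijective_of_nat_card_le hcard
  let e : P ≃* Fi23.H := MulEquiv.ofBijective s hbij
  refine ⟨((MonoidHom.fst C Fi23.H).comp P.subtype).comp e.symm.toMonoidHom, ?_, fun k hk => ?_⟩
  · have : e.symm zH = t := by rw [MulEquiv.symm_apply_eq]; rfl
    show ((e.symm zH : P) : C × Fi23.H).1 = d
    rw [this]
  · obtain ⟨i, hi, rfl⟩ := sel_cases k hk
    have : e.symm (gH _ hk) = yP i := by
      rw [MulEquiv.symm_apply_eq]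
      refine Eq.symm ?_
      show ((yP i : P) : C × Fi23.H).2 = _
      simp [yP, pr, hi, hk]
    show ((e.symm (gH _ hk) : P) : C × Fi23.H).1 = x (selOf i)
    rw [this]
    simp [yP, pr, hi]

namespace Lift

open CfsgLib.CosetEnum.Fi22U6 (z)

local notation "F" => Cfsg.Spor.Fi22
local notation "DD" => (conjugatesOf z : Set Cfsg.Spor.Fi22)

section Cover

variable {C : Type*} [Group C] {q : C →* F} {d : C}

theorem commute_of_img (hker : ∀ v, q v = 1 → v = 1 ∨ v = d) (hdc : ∀ x, d * x = x * d) {v c x0 : C}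
    (h : q v = q c) (hc : c * x0 = x0 * c) : v * x0 = x0 * v := by
  rcases hker (c⁻¹ * v) (by rw [map_mul, map_inv, h, inv_mul_cancel]) with h1 | h1
  · rw [inv_mul_eq_one] at h1
    rwa [← h1]
  · rw [inv_mul_eq_iff_eq_mul] at h1
    rw [h1, mul_assoc, hdc, ← mul_assoc, hc, mul_assoc]

/-- The two lifts of a transposition are not conjugate. -/
theorem not_conj (hq : Function.Surjective q) (hker : ∀ v, q v = 1 → v = 1 ∨ v = d) (hqd : q d = 1) (hd1 : d ≠ 1)
    (hdd : d * d = 1) (hdc : ∀ x, d * x = x * d) {x0 : C} (h0 : q x0 = z) : ¬ IsConj x0 (x0 * d) := by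
  intro hcon
  obtain ⟨w, hw⟩ := isConj_iff.mp hcon
  have hmem : ∀ v : C, q v ∈ Fi22.H ↔ q v * z = z * q v := fun v => by
    rw [← Fi22U6.centralizer_z]; exact Subgroup.mem_centralizer_singleton_iff
  have hqw : q w ∈ Fi22.H := by
    rw [hmem]
    have h1 := congrArg q hw
    rw [map_mul, map_mul, map_mul, map_inv, hqd, mul_one, h0, mul_inv_eq_iff_eq_mul] at h1
    exact h1
  let S : Subgroup F := (Subgroup.centralizer ({x0} : Set C)).map q
  have hS : ∀ v, q v ∈ S ↔ v * x0 = x0 * v := fun v => by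
    constructor
    · rintro ⟨c, hc, hqc⟩
      exact commute_of_img hker hdc hqc.symm (Subgroup.mem_centralizer_singleton_iff.mp hc)
    · exact fun h => ⟨v, Subgroup.mem_centralizer_singleton_iff.mpr h, rfl⟩
  refine Fi22U6.no_index_two (S.subgroupOf Fi22.H) (Subgroup.index_eq_two_iff.mpr ⟨⟨q w, hqw⟩, fun b => ?_⟩)
  obtain ⟨v, hv⟩ := hq b
  simp only [Subgroup.mem_subgroupOf, Subgroup.coe_mul]
  rw [← hv, ← map_mul, hS, hS]
  have hzv : q v * z = z * q v := (hmem v).mp (hv.symm ▸ b.2)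
  have hwx : w * x0 = x0 * d * w := by rw [← hw]; group
  have hne : x0 * d ≠ x0 := fun h => hd1 (mul_eq_left.mp h)
  rcases hker (x0⁻¹ * (v * x0 * v⁻¹)) (by simp [h0, hzv]) with h1 | h1
  · rw [inv_mul_eq_one] at h1
    have hvx : v * x0 = x0 * v := by
      conv_rhs => rw [h1]
      group
    refine Or.inr ⟨hvx, fun h2 => hne ?_⟩
    have h3 : x0 * d * (v * w) = x0 * (v * w) := by
      calc x0 * d * (v * w) = x0 * (d * v) * w := by group
        _ = x0 * (v * d) * w := by rw [hdc]
        _ = x0 * v * (d * w) := by group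
        _ = v * x0 * (d * w) := by rw [hvx]
        _ = v * (x0 * d * w) := by group
        _ = v * (w * x0) := by rw [hwx]
        _ = x0 * (v * w) := by rw [← mul_assoc, h2]
    exact mul_right_cancel h3
  · rw [inv_mul_eq_iff_eq_mul, mul_inv_eq_iff_eq_mul] at h1
    refine Or.inl ⟨?_, fun h2 => hne (mul_right_cancel (h1.symm.trans h2))⟩
    calc v * w * x0 = v * (x0 * d * w) := by rw [mul_assoc, hwx]
      _ = v * x0 * d * w := by group
      _ = x0 * d * (v * d) * w := by rw [h1]; group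
      _ = x0 * d * (d * v) * w := by rw [hdc]
      _ = x0 * (d * d) * (v * w) := by group
      _ = x0 * (v * w) := by rw [hdd, mul_one]

theorem exists_lift (hq : Function.Surjective q) (hker : ∀ v, q v = 1 → v = 1 ∨ v = d) (hqd : q d = 1) (hd1 : d ≠ 1)
    (hdd : d * d = 1) (hdc : ∀ x, d * x = x * d) :
    ∃ L : F → C, (∀ u ∈ DD, q (L u) = u) ∧
      (∀ (w : C), ∀ u ∈ DD, w * L u * w⁻¹ = L (q w * u * (q w)⁻¹)) ∧
      ∃ c : C, (c = 1 ∨ c = d) ∧ ∀ u ∈ DD, L u * L u = c := by
  classical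
  obtain ⟨x0, h0⟩ := hq z
  have huniq : ∀ a b, IsConj x0 a → IsConj x0 b → q a = q b → a = b := by
    intro a b ha hb hab
    rcases hker (a⁻¹ * b) (by rw [map_mul, map_inv, hab, inv_mul_cancel]) with h | h
    · exact inv_mul_eq_one.mp h
    · exfalso
      rw [inv_mul_eq_iff_eq_mul] at h
      obtain ⟨g, hg⟩ := isConj_iff.mp ha
      refine not_conj hq hker hqd hd1 hdd hdc h0 (hb.trans (isConj_iff.mpr ⟨g⁻¹, ?_⟩))
      calc g⁻¹ * b * g⁻¹⁻¹ = g⁻¹ * (g * x0 * g⁻¹) * (d * g) := by rw [h, hg]; group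
        _ = g⁻¹ * (g * x0 * g⁻¹) * (g * d) := by rw [hdc]
        _ = x0 * d := by group
  have hex : ∀ u ∈ DD, ∃ v, IsConj x0 v ∧ q v = u := fun u hu => by
    obtain ⟨a, rfl⟩ := isConj_iff.mp hu
    obtain ⟨g, rfl⟩ := hq a
    exact ⟨g * x0 * g⁻¹, isConj_iff.mpr ⟨g, rfl⟩, by simp [h0]⟩
  let L : F → C := fun u => Classical.epsilon fun v => IsConj x0 v ∧ q v = u
  have hL : ∀ u ∈ DD, IsConj x0 (L u) ∧ q (L u) = u := fun u hu => Classical.epsilon_spec (hex u hu)
  refine ⟨L, fun u hu => (hL u hu).2, fun w u hu => ?_, x0 * x0, ?_, fun u hu => ?_⟩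
  · have h2 := hL _ (conj_mem_DD (q w) hu)
    refine huniq _ _ ((hL u hu).1.trans (isConj_iff.mpr ⟨w, rfl⟩)) h2.1 ?_
    rw [h2.2]
    simp [(hL u hu).2]
  · refine hker _ ?_
    rw [map_mul, h0]
    exact sq_DD (mem_conjugatesOf_self)
  · obtain ⟨g, hg⟩ := isConj_iff.mp (hL u hu).1
    have hc : g * (x0 * x0) = x0 * x0 * g := by
      rcases hker (x0 * x0) (by rw [map_mul, h0]; exact sq_DD mem_conjugatesOf_self) with h | h
      · rw [h, one_mul, mul_one]
      · rw [h, hdc]
    calc L u * L u = g * (x0 * x0) * g⁻¹ := by rw [← hg]; group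
      _ = x0 * x0 := by rw [hc]; group

variable {L : F → C} (hL : ∀ u ∈ DD, q (L u) = u)
  (hconj : ∀ (w : C), ∀ u ∈ DD, w * L u * w⁻¹ = L (q w * u * (q w)⁻¹))

include hL hconj

theorem lift_comm {u v : F} (hu : u ∈ DD) (hv : v ∈ DD) (h : u * v = v * u) : Commute (L u) (L v) := by
  have h1 := hconj (L u) v hv
  rw [hL u hu, show u * v * u⁻¹ = v by rw [h, mul_inv_cancel_right]] at h1
  exact mul_inv_eq_iff_eq_mul.mp h1

theorem lift_pow (hsq : ∀ u ∈ DD, L u * L u = 1) {u v : F} (hu : u ∈ DD) (hv : v ∈ DD) {m : ℕ} (hm : 1 ≤ m)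
    (hm' : m < 4) (h : (u * v) ^ m = 1) : (L u * L v) ^ m = 1 := by
  have hi : ∀ w : F, w ∈ DD → w⁻¹ = w := fun w hw => inv_eq_of_mul_eq_one_right (sq_DD hw)
  interval_cases m
  · rw [pow_one] at h ⊢
    rw [mul_eq_one_iff_eq_inv, hi v hv] at h
    rw [h]
    exact hsq v hv
  · rw [pow_two] at h
    have h1 : u * v = v * u := by
      rw [mul_eq_one_iff_eq_inv, mul_inv_rev, hi u hu, hi v hv] at h
      exact h
    rw [(lift_comm hL hconj hu hv h1).mul_pow, pow_two, pow_two, hsq u hu, hsq v hv, one_mul]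
  · have h1 : (u * v) * u * (u * v)⁻¹ = v := by
      have h2 : u * v * u * v * (u * v) = 1 := by rw [← h]; simp [pow_succ, mul_assoc]
      rw [mul_eq_one_iff_eq_inv, mul_inv_rev, hi u hu, hi v hv] at h2
      rw [mul_inv_rev, hi u hu, hi v hv]
      calc u * v * u * (v * u) = u * v * u * v * u := by group
        _ = v * (u * u) := by rw [h2]; group
        _ = v := by rw [sq_DD hu, mul_one]
    have h2 := hconj (L u * L v) u hu
    rw [map_mul, hL u hu, hL v hv, h1] at h2
    have iu : (L u)⁻¹ = L u := inv_eq_of_mul_eq_one_right (hsq u hu)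
    have iv : (L v)⁻¹ = L v := inv_eq_of_mul_eq_one_right (hsq v hv)
    rw [mul_inv_rev, iu, iv] at h2
    calc (L u * L v) ^ 3 = L u * L v * L u * (L v * L u) * L v := by simp [pow_succ, mul_assoc]
      _ = L v * L v := by rw [h2]
      _ = 1 := hsq v hv

theorem sq_eq_one_of_seven (hker : ∀ v, q v = 1 → v = 1 ∨ v = d) (hdd : d * d = 1) {c : C} (hc : c = 1 ∨ c = d)
    (hdc : ∀ x, d * x = x * d) (hsq : ∀ u ∈ DD, L u * L u = c) : c = 1 := by
  have h7 : ∀ s ∈ seven, ∀ x ∈ tw s, x < 16 := by decide +kernel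
  have h7' : ∀ s ∈ seven, ∀ x ∈ s, x < 16 := by decide +kernel
  have hcc : ∀ x : C, Commute c x := by
    rcases hc with rfl | rfl
    exacts [Commute.one_left, hdc]
  have key : ∀ l : List (List ℕ), (∀ s ∈ l, s ∈ seven) →
      q (l.map fun s => L (W (tw s))).prod = W (l.map tw).flatten ∧
      (l.map fun s => L (W (tw s))).prod * (l.map fun s => L (W (tw s))).prod = c ^ l.length ∧
      ∀ s ∈ seven, Commute (L (W (tw s))) (l.map fun s => L (W (tw s))).prod := by
    intro l
    induction l with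
    | nil => intro _; simp [W]
    | cons a r ih =>
      intro h
      obtain ⟨i1, i2, i3⟩ := ih fun s hs => h s (List.mem_cons_of_mem _ hs)
      have ha := h a (List.mem_cons_self ..)
      have hma := tw_mem (h7' a ha)
      refine ⟨?_, ?_, fun s hs => ?_⟩
      · rw [List.map_cons, List.prod_cons, map_mul, hL _ hma, i1, List.map_cons, List.flatten_cons, W_append]
      · rw [List.map_cons, List.prod_cons, List.length_cons, pow_succ', ← i2, ← hsq _ hma]
        exact ((i3 a ha).symm.mul_mul_mul_comm _ _)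
      · rw [List.map_cons, List.prod_cons]
        refine Commute.mul_right (lift_comm hL hconj (tw_mem (h7' s hs)) hma ?_) (i3 s hs)
        exact tw_comm (h7' s hs) (h7' a ha) (List.all_eq_true.mp (List.all_eq_true.mp seven_comm s hs) a ha)
  obtain ⟨k1, k2, -⟩ := key seven fun s hs => hs
  have hW : W (seven.map tw).flatten = 1 := by
    refine (eqTest_spec ?_ (by simp) seven_prod).trans (by simp [W])
    intro x hx
    obtain ⟨l, hl, hxl⟩ := List.mem_flatten.mp hx
    obtain ⟨s, hs, rfl⟩ := List.mem_map.mp hl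
    exact h7 s hs x hxl
  have hcsq : c * c = 1 := by rcases hc with rfl | rfl <;> simp [hdd]
  have h6 : c ^ seven.length = c := by
    have : seven.length = 2 * 3 + 1 := rfl
    rw [this, pow_succ, pow_mul, pow_two, hcsq, one_pow, one_mul]
  rw [h6] at k2
  rcases hker _ (k1.trans hW) with h | h
  · rw [h, one_mul] at k2
    exact k2.symm
  · rw [h, hdd] at k2
    exact k2.symm

theorem spider_lift (hker : ∀ v, q v = 1 → v = 1 ∨ v = d) (hdd : d * d = 1) (hsq : ∀ u ∈ DD, L u * L u = 1)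
    (hdc : ∀ x, d * x = x * d) (w t : List ℕ) (hw : ∀ i ∈ w, i < 9) (ht : ∀ i ∈ t, i < 16)
    (h : eqTest (List.replicate 5 w).flatten (tw t) = true) :
    ((w.map fun i => L (Fi22.g i)).prod) ^ 10 = 1 := by
  have hw5 : ∀ i ∈ (List.replicate 5 w).flatten, i < 16 := by
    intro i hi
    obtain ⟨l, hl, hil⟩ := List.mem_flatten.mp hi
    have := hw i ((List.eq_of_mem_replicate hl) ▸ hil)
    omega
  have htw : ∀ i ∈ tw t, i < 16 := by
    intro i hi
    simp only [tw, List.mem_append, List.mem_reverse, List.mem_singleton] at hi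
    rcases hi with (hi | hi) | hi
    exacts [ht i hi, by omega, ht i hi]
  have h1 := eqTest_spec hw5 htw h
  set P := (w.map fun i => L (Fi22.g i)).prod with hP
  have hqP : q P = W w := by
    rw [hP, map_list_prod, List.map_map, W]
    congr 1
    exact List.map_congr_left fun i hi => hL _ (g_mem (hw i hi))
  have hu := tw_mem ht
  have h5 : q (P ^ 5 * L (W (tw t))) = 1 := by
    rw [map_mul, map_pow, hqP, hL _ hu, show W w ^ 5 = W (List.replicate 5 w).flatten by rw [W, W, prod_rep],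
      h1, sq_DD hu]
  have key : ∀ e : C, (e = 1 ∨ e = d) → P ^ 5 = e * L (W (tw t)) → P ^ 10 = 1 := by
    intro e he hPe
    have hec : e * e = 1 := by rcases he with rfl | rfl <;> simp [hdd]
    have hcomm : Commute e (L (W (tw t))) := by
      rcases he with rfl | rfl
      exacts [Commute.one_left _, hdc _]
    rw [show (10 : ℕ) = 5 * 2 from rfl, pow_mul, hPe, hcomm.mul_pow, pow_two, pow_two, hec, hsq _ hu, one_mul]
  have hinv : (L (W (tw t)))⁻¹ = L (W (tw t)) := inv_eq_of_mul_eq_one_right (hsq _ hu)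
  rcases hker _ h5 with h2 | h2
  · refine key 1 (Or.inl rfl) ?_
    rw [mul_eq_one_iff_eq_inv, hinv] at h2
    rw [h2, one_mul]
  · refine key d (Or.inr rfl) ?_
    rw [← h2, mul_assoc, hsq _ hu, mul_one]

end Cover

theorem prod_map_mul {C : Type*} [Group C] (d : C) (hdc : ∀ x, d * x = x * d) (y : ℕ → C) : ∀ l : List ℕ,
    (l.map fun i => y i * d).prod = (l.map y).prod * d ^ l.length := by
  intro l
  induction l with
  | nil => simp
  | cons a r ih =>
    rw [List.map_cons, List.prod_cons, ih, List.map_cons, List.prod_cons, List.length_cons, pow_succ']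
    calc y a * d * ((r.map y).prod * d ^ r.length) = y a * (d * (r.map y).prod) * d ^ r.length := by group
      _ = y a * ((r.map y).prod * d) * d ^ r.length := by rw [hdc]
      _ = _ := by group

theorem rev_inv {C : Type*} [Group C] (y : ℕ → C) : ∀ l : List ℕ, (∀ i ∈ l, y i * y i = 1) →
    (l.reverse.map y).prod = ((l.map y).prod)⁻¹ := by
  intro l
  induction l with
  | nil => simp
  | cons a r ih =>
    intro h
    rw [List.reverse_cons, List.map_append, List.prod_append, ih fun i hi => h i (List.mem_cons_of_mem _ hi)]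
    simp [inv_eq_of_mul_eq_one_right (h a (List.mem_cons_self ..))]

/-- A rotation of a word with central power has the same power. -/
theorem rot_pow {C : Type*} [Group C] (A B : C) (n : ℕ) {e : C} (hec : ∀ g, e * g = g * e)
    (h : (A * B) ^ n = e) : (B * A) ^ n = e := by
  have : B * A = A⁻¹ * (A * B) * A⁻¹⁻¹ := by group
  rw [this, conj_pow, h, inv_inv, mul_assoc, hec, inv_mul_cancel_left]

end Lift

open Lift

theorem exists_emb {G : Type*} [Group G] [Finite G] (d : G) (hd : orderOf d = 2)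
    (hq : Cfsg.IsQuasisimple (Subgroup.centralizer ({d} : Set G)))
    [((Subgroup.zpowers d).subgroupOf (Subgroup.centralizer ({d} : Set G))).Normal]
    (e : Cfsg.Spor.IsoFi22 ((Subgroup.centralizer ({d} : Set G)) ⧸
      (Subgroup.zpowers d).subgroupOf (Subgroup.centralizer ({d} : Set G)))) :
    Nonempty (Emb d) := by
  classical
  haveI : Finite Cfsg.Spor.Fi22 := Fi22.finite
  haveI : Finite Cfsg.Spor.Fi23 := Fi23.finite
  obtain ⟨e⟩ := e
  let C := Subgroup.centralizer ({d} : Set G)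
  let δ : C := ⟨d, Subgroup.mem_centralizer_singleton_iff.mpr rfl⟩
  let N : Subgroup C := (Subgroup.zpowers d).subgroupOf C
  let q : C →* Cfsg.Spor.Fi22 := e.toMonoidHom.comp (QuotientGroup.mk' N)
  have hqs : Function.Surjective q := e.surjective.comp (QuotientGroup.mk'_surjective N)
  have hd2 : d * d = 1 := by rw [← pow_two, ← hd, pow_orderOf_eq_one]
  have hkerN : ∀ v, q v = 1 ↔ v ∈ N := fun v => by
    show e (QuotientGroup.mk' N v) = 1 ↔ _
    rw [EmbeddingLike.map_eq_one_iff, QuotientGroup.mk'_apply, QuotientGroup.eq_one_iff]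
  have hker : ∀ v, q v = 1 → v = 1 ∨ v = δ := fun v hv => by
    have h := (mem_zpowers_iff_mem_range_orderOf).mp ((hkerN v).mp hv : (v : G) ∈ Subgroup.zpowers d)
    rw [hd, Finset.mem_image] at h
    obtain ⟨k, hk, hkv⟩ := h
    rw [Finset.mem_range] at hk
    interval_cases k
    · exact Or.inl (Subtype.ext (by simpa using hkv.symm))
    · exact Or.inr (Subtype.ext (hkv.symm.trans (pow_one d)))
  have hqd : q δ = 1 := (hkerN δ).mpr (Subgroup.mem_zpowers d)
  have hd1 : δ ≠ 1 := fun h => by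
    have : d = 1 := congrArg Subtype.val h
    rw [this, orderOf_one] at hd
    omega
  have hdd : δ * δ = 1 := Subtype.ext hd2
  have hdc : ∀ x : C, δ * x = x * δ := fun x =>
    Subtype.ext (Subgroup.mem_centralizer_singleton_iff.mp x.2).symm
  obtain ⟨L, hL, hconj, c, hc, hsq⟩ := exists_lift hqs hker hqd hd1 hdd hdc
  have hc1 := sq_eq_one_of_seven hL hconj hker hdd hc hdc hsq
  subst hc1
  let y : ℕ → C := fun i => L (Fi22.g i)
  have hqy : ∀ i < 9, q (y i) = Fi22.g i := fun i hi => hL _ (g_mem hi)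
  have hy2 : ∀ i < 9, y i * y i = 1 := fun i hi => hsq _ (g_mem hi)
  have hcox : ∀ i < 9, ∀ j < 9, ∀ m < 4, 1 ≤ m → (List.replicate m [i, j]).flatten ∈ Fi22.ls →
      (y i * y j) ^ m = 1 := by
    intro i hi j hj m hm hm1 hmem
    have h := (Fi22.lsWords _ hmem).2
    rw [prod_rep] at h
    exact lift_pow hL hconj hsq (g_mem hi) (g_mem hj) hm1 hm (by simpa using h)
  have hS1 : ((spider.map y).prod) ^ 10 = 1 :=
    spider_lift hL hconj hker hdd hsq hdc spider _ (by decide) (by decide) spider_pow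
  have hS2 : (((spider.map mir).map y).prod) ^ 10 = 1 :=
    spider_lift hL hconj hker hdd hsq hdc (spider.map mir) _ (by decide) (by decide) mir_spider_pow
  have hval : ∀ l : List ℕ, (∀ i ∈ l, i < 9) → q (l.map y).prod = W l := fun l hl => by
    rw [map_list_prod, List.map_map, W]
    exact congrArg List.prod (List.map_congr_left fun i hi => hqy i (hl i hi))
  have hE : ∀ w : List ℕ, (∀ i ∈ w, i < 9) → (List.replicate 9 w).flatten ∈ Fi22.ls →
      ((w.map y).prod) ^ 9 = 1 ∨ ((w.map y).prod) ^ 9 = δ := fun w hw hmem => by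
    refine hker _ ?_
    rw [map_pow, hval w hw, W, ← prod_rep]
    exact (Fi22.lsWords _ hmem).2
  have hA := hE eA (by decide) (by decide +kernel)
  have hB := hE eB (by decide) (by decide +kernel)
  -- no section
  have nosec : ∀ y' : ℕ → C, (∀ i < 9, q (y' i) = Fi22.g i) →
      (∀ l ∈ Fi22.ls, (l.map y').prod = 1) → False := by
    intro y' hq' hrel
    obtain ⟨φ, hφ⟩ := exists_hom_fi22 y' hrel
    have hsec : q.comp φ = MonoidHom.id _ := hom_ext _ _ fun i hi => by
      rw [MonoidHom.comp_apply, hφ i hi, hq' i hi]; rfl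
    have hsec' : ∀ u, q (φ u) = u := fun u => DFunLike.congr_fun hsec u
    have hnot : δ ∉ φ.range := by
      rintro ⟨u, hu⟩
      have h1 := congrArg q hu
      rw [hsec', hqd] at h1
      exact hd1 (by rw [← hu, h1, map_one])
    have hsplit : ∀ b : C, b ∈ φ.range ∨ b * δ ∈ φ.range := fun b => by
      rcases hker ((φ (q b))⁻¹ * b) (by rw [map_mul, map_inv, hsec', inv_mul_cancel]) with h | h
      · exact Or.inl ⟨q b, inv_mul_eq_one.mp h⟩
      · refine Or.inr ⟨q b, ?_⟩
        rw [inv_mul_eq_iff_eq_mul] at h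
        conv_rhs => rw [h]
        rw [mul_assoc, hdd, mul_one]
    have h2 : φ.range.index = 2 := by
      refine Subgroup.index_eq_two_iff.mpr ⟨δ, fun b => ?_⟩
      rcases hsplit b with h | h
      · exact Or.inr ⟨h, fun h' => hnot (by simpa using φ.range.mul_mem (φ.range.inv_mem h) h')⟩
      · exact Or.inl ⟨h, fun h' => hnot (by simpa using φ.range.mul_mem (φ.range.inv_mem h') h)⟩
    have htop : φ.range = ⊤ := by
      rw [eq_top_iff, ← hq.1.commutator_eq_top, commutator_def, Subgroup.commutator_le]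
      intro a _ b _
      rw [commutatorElement_def]
      simp only [Subgroup.mul_mem_iff_of_index_two h2, inv_mem_iff]
      tauto
    exact hnot (htop ▸ Subgroup.mem_top δ)
  -- all relators once the three long ones hold
  have full : ∀ y' : ℕ → C, (∀ i < 9, ∀ j < 9, ∀ m < 4, 1 ≤ m → (List.replicate m [i, j]).flatten ∈ Fi22.ls →
      (y' i * y' j) ^ m = 1) → ((spider.map y').prod) ^ 10 = 1 → ((eA.map y').prod) ^ 9 = 1 →
      ((eB.map y').prod) ^ 9 = 1 → ∀ l ∈ Fi22.ls, (l.map y').prod = 1 := by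
    intro y' h1 h2 h3 h4 l hl
    rcases (by decide +kernel : ∀ l ∈ Fi22.ls, l = (List.replicate 10 spider).flatten ∨
        l = (List.replicate 9 eA).flatten ∨ l = (List.replicate 9 eB).flatten ∨
        ∃ i < 9, ∃ j < 9, ∃ m < 4, 1 ≤ m ∧ l = (List.replicate m [i, j]).flatten) l hl with
      rfl | rfl | rfl | ⟨i, hi, j, hj, m, hm, hm1, rfl⟩
    · rw [prod_rep]; exact h2
    · rw [prod_rep]; exact h3
    · rw [prod_rep]; exact h4
    · rw [prod_rep]
      simpa using h1 i hi j hj m hm hm1 hl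
  -- the good labelling
  obtain ⟨y', hyq, hy'cox, hy'S, hy'A, hy'B⟩ : ∃ y' : ℕ → C,
      (∀ i < 9, ∃ j < 9, q (y' j) = Fi22.g i) ∧
      (∀ i < 9, ∀ j < 9, ∀ m < 4, 1 ≤ m → (List.replicate m [i, j]).flatten ∈ Fi22.ls →
        (y' i * y' j) ^ m = 1) ∧
      ((spider.map y').prod) ^ 10 = 1 ∧ ((eA.map y').prod) ^ 9 = 1 ∧ ((eB.map y').prod) ^ 9 = δ := by
    rcases hA with hA | hA <;> rcases hB with hB | hB
    · exact (nosec y hqy (full y hcox hS1 hA hB)).elim
    · exact ⟨y, fun i hi => ⟨i, hi, hqy i hi⟩, hcox, hS1, hA, hB⟩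
    · -- the mirror
      refine ⟨y ∘ mir, fun i hi => ⟨mir i, (mir_lt i hi).1, by
          rw [Function.comp_apply, (mir_lt i hi).2]; exact hqy i hi⟩,
        fun i hi j hj m hm hm1 hmem => hcox _ (mir_lt i hi).1 _ (mir_lt j hj).1 m hm hm1
          (mir_cox i hi j hj m hm hmem), ?_, ?_, ?_⟩
      · rw [← List.map_map]; exact hS2
      · have h1 : ((eB.reverse.map y).prod) ^ 9 = 1 := by
          rw [rev_inv y eB fun i hi => hy2 i ((by decide : ∀ i ∈ eB, i < 9) i hi), inv_pow, hB, inv_one]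
        have h2 := rot_pow (y 7) (([6, 5, 4, 3, 2, 1].map y).prod) 9 (e := 1) (fun g => by simp)
          (by simpa [eB, mul_assoc] using h1)
        simpa [eA, mir, mul_assoc] using h2
      · have h1 : ((eA.reverse.map y).prod) ^ 9 = δ := by
          rw [rev_inv y eA fun i hi => hy2 i ((by decide : ∀ i ∈ eA, i < 9) i hi), inv_pow, hA]
          exact inv_eq_of_mul_eq_one_right hdd
        have h2 := rot_pow (y 7) (([5, 4, 3, 2, 1, 0].map y).prod) 9 hdc (by simpa [eA, mul_assoc] using h1)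
        simpa [eB, mir, mul_assoc] using h2
    · refine (nosec (fun i => y i * δ) (fun i hi => by rw [map_mul, hqd, mul_one]; exact hqy i hi) ?_).elim
      have hodd : ∀ n, Odd n → δ ^ n = δ := fun n ⟨k, hk⟩ => by
        rw [hk, pow_succ, pow_mul, pow_two, hdd, one_pow, one_mul]
      refine full _ ?_ ?_ ?_ ?_
      · intro i hi j hj m hm hm1 hmem
        have : y i * δ * (y j * δ) = y i * y j := by
          calc y i * δ * (y j * δ) = y i * (δ * y j) * δ := by group
            _ = y i * (y j * δ) * δ := by rw [hdc]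
            _ = y i * y j * (δ * δ) := by group
            _ = y i * y j := by rw [hdd, mul_one]
        rw [this]
        exact hcox i hi j hj m hm hm1 hmem
      · rw [prod_map_mul δ hdc, ((show Commute δ (spider.map y).prod from hdc _).symm.pow_right _).mul_pow, hS1,
          one_mul, ← pow_mul, show spider.length * 10 = 2 * 45 from rfl, pow_mul, pow_two, hdd, one_pow]
      · rw [prod_map_mul δ hdc, ((show Commute δ (eA.map y).prod from hdc _).symm.pow_right _).mul_pow, hA,
          ← pow_mul, hodd _ (by decide), hdd]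
      · rw [prod_map_mul δ hdc, ((show Commute δ (eB.map y).prod from hdc _).symm.pow_right _).mul_pow, hB,
          ← pow_mul, hodd _ (by decide), hdd]
  let x : ℕ → C := fun k => y' (Fi23.sel.idxOf k)
  have hxs : ∀ i < 9, x (selOf i) = y' i := fun i hi =>
    congrArg y' ((by decide +kernel : ∀ i < 9, Fi23.sel.idxOf (selOf i) = i) i hi)
  have hxw : ∀ (w : List ℕ), (∀ i ∈ w, i < 9) → ((w.map selOf).map x).prod = (w.map y').prod := fun w hw => by
    rw [List.map_map]
    exact congrArg List.prod (List.map_congr_left fun i hi => hxs i (hw i hi))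
  have hrel : ∀ l ∈ selRels, (l.map x).prod = 1 := by
    intro l hl
    rcases selRels_cases l hl with rfl | rfl | ⟨i, hi, j, hj, m, hm, hm1, rfl, hmem⟩
    · rw [prod_rep, hxw _ (by decide)]; exact hy'S
    · rw [prod_rep, hxw _ (by decide)]; exact hy'A
    · rw [prod_rep]
      simpa [hxs i hi, hxs j hj] using hy'cox i hi j hj m hm hm1 hmem
  have hz : (zWord.map x).prod = δ := by
    rw [show zWord = (List.replicate 9 (eB.map selOf)).flatten by decide +kernel, prod_rep, hxw _ (by decide)]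
    exact hy'B
  obtain ⟨f, hfz, hfg⟩ := exists_hom_H δ hdd hdc x hrel hz
  have honto : Function.Surjective f := by
    have htop : (⊤ : Subgroup Cfsg.Spor.Fi22) ≤ f.range.map q := by
      refine Fi22.translation.closure_top.trans ((Subgroup.closure_le _).mpr ?_)
      rintro _ ⟨i, hi, rfl⟩
      rcases Fi22.gen_or_one i hi with h | h
      · obtain ⟨j, hj, hji⟩ := hyq i h
        exact ⟨_, ⟨gH (selOf j) (selOf_mem j hj), rfl⟩, by rw [hfg, hxs j hj]; exact hji⟩
      · show Fi22.g i ∈ f.range.map q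
        rw [h]
        exact one_mem _
    intro b
    obtain ⟨a, ha, hab⟩ := htop (Subgroup.mem_top (q b))
    rcases hker (a⁻¹ * b) (by rw [map_mul, map_inv, hab, inv_mul_cancel]) with h | h
    · rw [inv_mul_eq_one] at h
      exact h ▸ ha
    · rw [inv_mul_eq_iff_eq_mul] at h
      rw [h]
      exact f.range.mul_mem ha ⟨zH, hfz⟩
  have hcard : Nat.card Fi23.H ≤ Nat.card C := by
    have h1 : Nat.card C = Nat.card Cfsg.Spor.Fi22 * Nat.card N := by
      rw [Subgroup.card_eq_card_quotient_mul_card_subgroup N, Nat.card_congr e.toEquiv]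
    have h2 : Nat.card N = 2 := by
      rw [Nat.card_congr (Subgroup.subgroupOfEquivOfLe (show Subgroup.zpowers d ≤ C from
        Subgroup.zpowers_le.mpr δ.2)).toEquiv, Nat.card_zpowers, hd]
    rw [h1, h2, Fi22.card_group, Fi23.card_H]
  have hinj : Function.Injective f := (honto.bijective_of_nat_card_le hcard).1
  exact ⟨{
    ι := C.subtype.comp f
    inj := C.subtype_injective.comp hinj
    range_eq := by
      rw [MonoidHom.range_comp, MonoidHom.range_eq_top.mpr honto, ← MonoidHom.range_eq_map, Subgroup.range_subtype]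
    map_z := by rw [MonoidHom.comp_apply, hfz]; rfl }⟩

end CfsgLib.FischerRecog23
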