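import Cfsg.Agent.Lib.FischerRecog23.FusionWit
import Cfsg.Agent.Lib.FischerRecog23.Lift
import Cfsg.Agent.Lib.FischerRecog22.ModelType
import Cfsg.Agent.Lib.FischerInvol.Classes
import Cfsg.Agent.Lib.CosetEnum.Fi22.Orbits

set_option autoImplicit false
set_option maxRecDepth 20000

/-!
Fusion in the centraliser: the identification can be chosen so that the conjugates are the transpositions.
-/

namespace CfsgLib.FischerRecog23

open CfsgLib.CosetEnum

local notation "M" => Cfsg.Spor.Fi23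
local notation "F22" => Cfsg.Spor.Fi22
local notation "D22" => (conjugatesOf Fi22U6.z : Set Cfsg.Spor.Fi22)

instance finite_H : Finite Fi23.H := by
  haveI : Finite M := Fi23.finite
  infer_instance

instance finite_fi22' : Finite F22 := Fi22.finite

theorem zH_comm (x : Fi23.H) : zH * x = x * zH := Subtype.ext (Fi23.z_comm x x.2).symm

theorem zH_sq : zH * zH = 1 := by
  refine Subtype.ext ?_
  show Fi23.z * Fi23.z = 1
  have h := pow_orderOf_eq_one Fi23.z
  rwa [Fi23.orderOf_z, pow_two] at h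

theorem zH_ne_one : zH ≠ 1 := fun h => Fi23.z_ne_one (congrArg Subtype.val h)

/-! ### The quotient -/

theorem exists_rho : ∃ ρ : Fi23.H →* F22, Function.Surjective ρ ∧ ρ g0 = Fi22U6.z ∧
    ∀ x, ρ x = 1 ↔ x = 1 ∨ x = zH := by
  obtain ⟨f, -, hf⟩ := exists_hom_of_corr Fi23.π Fi22.π Fi22.injective Fi23.σ Fi23.σ_injective
    (fun j : Fin 9 => Fi23.g (Fi23.sel.getD j 15)) (fun j : Fin 9 => Fi22.g j) Fi23.H
    Fi23.sub_eq_closure.le Fi23.corr
  have hs : Function.Surjective f := by
    rw [← MonoidHom.range_eq_top, eq_top_iff]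
    refine Fi22.translation.closure_top.trans ((Subgroup.closure_le _).mpr ?_)
    rintro _ ⟨x, hx, rfl⟩
    rcases Fi22.gen_or_one x hx with h | h
    · exact ⟨_, hf ⟨x, h⟩ (Fi23.mem_sub _ ((by decide : ∀ j : Fin 9, Fi23.sel.getD j 15 ∈ Fi23.sel) _))⟩
    · show Fi22.g x ∈ f.range
      rw [h]; exact f.range.one_mem
  have hker : Nat.card f.ker = 2 := by
    have h1 := Subgroup.card_eq_card_quotient_mul_card_subgroup f.ker
    rw [Nat.card_congr (QuotientGroup.quotientKerEquivOfSurjective f hs).toEquiv, Fi23.card_H,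
      Fi22.card_group] at h1
    omega
  have hz : f zH = 1 := by
    haveI := Fi22.Simple.isSimple
    have hc : f zH ∈ Subgroup.center F22 := Subgroup.mem_center_iff.mpr fun b => by
      obtain ⟨a, rfl⟩ := hs b
      rw [← map_mul, ← map_mul, zH_comm]
    rwa [center_eq_bot_of_simple (K := F22) (by rw [Fi22.card_group]; norm_num), Subgroup.mem_bot] at hc
  refine ⟨f, hs, hf 0 (Fi23.mem_sub 0 (by decide)), fun x => ⟨fun hx => ?_, ?_⟩⟩
  · obtain ⟨y, -, hy⟩ := (Nat.card_eq_two_iff' (1 : f.ker)).mp hker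
    by_cases h1 : x = 1
    · exact Or.inl h1
    · refine Or.inr ?_
      have e1 : (⟨x, hx⟩ : f.ker) = y := hy _ fun h => h1 (congrArg Subtype.val h)
      have e2 : (⟨zH, hz⟩ : f.ker) = y := hy _ fun h => zH_ne_one (congrArg Subtype.val h)
      exact congrArg Subtype.val (e1.trans e2.symm)
  · rintro (rfl | rfl)
    exacts [map_one f, hz]

/-- The map onto `Fi22`. -/
noncomputable def rho : Fi23.H →* F22 := exists_rho.choose

theorem rho_surj : Function.Surjective rho := exists_rho.choose_spec.1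

theorem rho_g0 : rho g0 = Fi22U6.z := exists_rho.choose_spec.2.1

theorem rho_one_iff (x : Fi23.H) : rho x = 1 ↔ x = 1 ∨ x = zH := exists_rho.choose_spec.2.2 x

theorem rho_eq {x y : Fi23.H} (h : rho x = rho y) : x = y ∨ x = zH * y := by
  rcases (rho_one_iff (x * y⁻¹)).mp (by rw [map_mul, map_inv, h, mul_inv_cancel]) with e | e
  · exact Or.inl (mul_inv_eq_one.mp e)
  · exact Or.inr (mul_inv_eq_iff_eq_mul.mp e)

theorem isConj_mem {x : Fi23.H} (h : IsConj g0 x) : (x : M) ∈ conjugatesOf Fi23.z := by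
  have h0 : (g0 : M) ∈ conjugatesOf Fi23.z := by
    show Fi23.g 0 ∈ _
    rw [FischerSylow.letter 0 (by omega)]
    exact FischerSylow.D_mem _
  exact IsConj.trans h0 (Fi23.H.subtype.map_isConj h)

theorem rho_mem {x : Fi23.H} (h : IsConj g0 x) : rho x ∈ D22 := rho_g0 ▸ rho.map_isConj h

theorem lift_inj {a b : Fi23.H} (ha : IsConj g0 a) (hb : IsConj g0 b) (h : rho a = rho b) : a = b := by
  refine (rho_eq h).resolve_right fun he => gz_not_mem ?_
  obtain ⟨w, rfl⟩ := isConj_iff.mp hb
  have e : IsConj a (g0 * zH) := isConj_iff.mpr ⟨w⁻¹, by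
    rw [inv_inv, he, ← mul_assoc w⁻¹ zH, ← zH_comm w⁻¹, ← zH_comm g0]
    group⟩
  exact isConj_mem (ha.trans e)

theorem lift_comm {a b : Fi23.H} (ha : IsConj g0 a) (hb : IsConj g0 b) (h : Commute (rho a) (rho b)) :
    Commute a b := by
  have sq : ∀ d ∈ conjugatesOf Fi23.z, d * d = (1 : M) := fun d hd => by
    obtain ⟨k, rfl⟩ := FischerSylow.exists_D hd
    exact FischerSylow.D_sq k
  have ia : a * a = 1 := Subtype.ext (sq _ (isConj_mem ha))
  have ib : b * b = 1 := Subtype.ext (sq _ (isConj_mem hb))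
  have h1 : rho (a * b * (a * b)) = 1 := by
    rw [map_mul, map_mul]
    nth_rewrite 1 [h.eq]
    rw [← mul_assoc, mul_assoc (rho b) (rho a) (rho a), ← map_mul, ia, map_one, mul_one, ← map_mul, ib, map_one]
  rcases (rho_one_iff _).mp h1 with e | e
  · show a * b = b * a
    have e' := eq_inv_of_mul_eq_one_left e
    rw [mul_inv_rev, inv_eq_of_mul_eq_one_right ia, inv_eq_of_mul_eq_one_right ib] at e'
    exact e'
  · exfalso
    rcases Fi23.threeClass.1.2 _ (isConj_mem ha) _ (isConj_mem hb) with h2 | h2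
    · exact zH_ne_one (e.symm.trans (Subtype.ext (by rw [← pow_two]; exact h2)))
    · have h3 : a * b * (a * b) * (a * b) = 1 := Subtype.ext (by
        rw [Subgroup.coe_mul, Subgroup.coe_mul, Subgroup.coe_mul, ← pow_two, ← pow_succ]; exact h2)
      rw [e] at h3
      have h4 : a * b = zH := (eq_inv_of_mul_eq_one_right h3).trans (inv_eq_of_mul_eq_one_right zH_sq)
      rw [h4, zH_sq] at e
      exact zH_ne_one e.symm

/-! ### The class of transpositions of `Fi22` -/

theorem center22 : Subgroup.center F22 = ⊥ := FischerRecog22.typeM22_fi22.1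

theorem prim22 : Cfsg.IsPrimitiveUnderConj D22 := by
  have conj : ∀ a ∈ D22, ∀ b ∈ D22, ∃ g : F22, g * a * g⁻¹ = b := fun a ha b hb =>
    isConj_iff.mp (IsConj.trans (IsConj.symm ha) hb)
  refine ⟨conj, ?_, fun B hB hblock => ?_⟩
  · by_contra hno
    push Not at hno
    refine Fi22U6.z_ne_one (Subgroup.mem_bot.mp (center22 ▸ Subgroup.mem_center_iff.mpr fun g => ?_))
    exact mul_inv_eq_iff_eq_mul.mp
      (hno _ (mem_conjugatesOf_self) (g * Fi22U6.z * g⁻¹) (isConj_iff.mpr ⟨g, rfl⟩)).symm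
  by_cases hs : B.Subsingleton
  · exact Or.inl hs
  rw [Set.not_subsingleton_iff] at hs
  obtain ⟨a, ha, b, hb, hab⟩ := hs
  obtain ⟨w, rfl⟩ := isConj_iff.mp (hB ha)
  obtain ⟨v, rfl⟩ := isConj_iff.mp (hB hb)
  let c : F22 → F22 → F22 := fun g x => g * x * g⁻¹
  have c_mul : ∀ g h x, c (g * h) x = c g (c h x) := fun g h x => by simp only [c]; group
  have c_img : ∀ g h, c (g * h) '' B = c g '' (c h '' B) := fun g h => by
    rw [Set.image_image]; exact Set.image_congr fun x _ => c_mul g h x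
  have fixes : ∀ g, ∀ y ∈ B, c g y ∈ B → c g '' B = B := fun g y hy hgy =>
    (hblock g).resolve_right fun hd => Set.disjoint_left.mp hd ⟨y, hy, rfl⟩ hgy
  let K : Subgroup F22 :=
    { carrier := {g | c (w * g * w⁻¹) '' B = B}
      one_mem' := by
        show c (w * 1 * w⁻¹) '' B = B
        simp [c]
      mul_mem' := fun {g h} hg hh => by
        show c (w * (g * h) * w⁻¹) '' B = B
        rw [show w * (g * h) * w⁻¹ = (w * g * w⁻¹) * (w * h * w⁻¹) by group, c_img, hh, hg]
      inv_mem' := fun {g} hg => by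
        show c (w * g⁻¹ * w⁻¹) '' B = B
        nth_rewrite 1 [← hg]
        rw [← c_img, show w * g⁻¹ * w⁻¹ * (w * g * w⁻¹) = 1 by group]
        simp [c] }
  have hle : Fi22.H ≤ K := fun h hh => by
    refine fixes _ _ ha ?_
    have hz := Fi22U6.z_comm h hh
    have e : c (w * h * w⁻¹) (w * Fi22U6.z * w⁻¹) = w * Fi22U6.z * w⁻¹ := by
      calc c (w * h * w⁻¹) (w * Fi22U6.z * w⁻¹) = w * (h * Fi22U6.z) * h⁻¹ * w⁻¹ := by simp only [c]; group
        _ = w * Fi22U6.z * w⁻¹ := by rw [hz]; group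
    rw [e]; exact ha
  have hk : w⁻¹ * v ∈ K := by
    refine fixes _ _ ha ?_
    have e : c (w * (w⁻¹ * v) * w⁻¹) (w * Fi22U6.z * w⁻¹) = v * Fi22U6.z * v⁻¹ := by simp only [c]; group
    rw [e]; exact hb
  rcases Fi22.maximal.1 K hle with hK | hK
  · refine absurd ?_ hab
    rw [hK] at hk
    have hz := Fi22U6.z_comm _ hk
    calc w * Fi22U6.z * w⁻¹ = w * (Fi22U6.z * (w⁻¹ * v)) * v⁻¹ := by group
      _ = w * ((w⁻¹ * v) * Fi22U6.z) * v⁻¹ := by rw [hz]
      _ = v * Fi22U6.z * v⁻¹ := by group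
  · refine Or.inr (Set.Subset.antisymm hB fun d hd => ?_)
    obtain ⟨g, rfl⟩ := conj _ (hB ha) d hd
    have hg : w⁻¹ * g * w ∈ K := hK ▸ Subgroup.mem_top _
    have hg' : c (w * (w⁻¹ * g * w) * w⁻¹) '' B = B := hg
    rw [← hg']
    exact ⟨_, ha, by simp only [c]; group⟩

theorem setting22 : FischerType.Setting D22 := ⟨Fi22U6.threeClass, prim22, center22⟩

/-- Commuting lifts of transpositions. -/
structure Lks (L : List Fi23.H) : Prop where
  conj : ∀ a ∈ L, IsConj g0 a
  comm : ∀ a ∈ L, ∀ b ∈ L, Commute a b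

theorem exists_lifts : ∀ l : List F22, (∀ a ∈ l, a ∈ D22) →
    ∃ L : List Fi23.H, (∀ a ∈ L, IsConj g0 a) ∧ L.map rho = l := by
  intro l
  induction l with
  | nil => exact fun _ => ⟨[], by simp, rfl⟩
  | cons q r ih =>
    intro h
    obtain ⟨L, hL, rfl⟩ := ih fun a ha => h a (List.mem_cons_of_mem _ ha)
    obtain ⟨g, hg⟩ := isConj_iff.mp (h q List.mem_cons_self)
    obtain ⟨w, rfl⟩ := rho_surj g
    refine ⟨w * g0 * w⁻¹ :: L, fun a ha => ?_, by simp [map_mul, rho_g0, hg]⟩
    rcases List.mem_cons.mp ha with rfl | ha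
    exacts [isConj_iff.mpr ⟨w, rfl⟩, hL a ha]

theorem Lks.com {L : List Fi23.H} (h : Lks L) : FischerInvol.Com D22 (L.map rho) := by
  refine ⟨fun q hq => ?_, fun q hq r hr => ?_⟩
  · obtain ⟨a, ha, rfl⟩ := List.mem_map.mp hq
    exact rho_mem (h.conj a ha)
  · obtain ⟨a, ha, rfl⟩ := List.mem_map.mp hq
    obtain ⟨b, hb, rfl⟩ := List.mem_map.mp hr
    exact (h.comm a ha b hb).map rho

theorem Lks.sq {L : List Fi23.H} (h : Lks L) : L.prod * L.prod = 1 := by
  induction L with
  | nil => simp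
  | cons a t ih =>
    have hc : Commute a t.prod := Commute.list_prod_right _ _ fun b hb =>
      h.comm a List.mem_cons_self b (List.mem_cons_of_mem a hb)
    have ha : a * a = 1 := by
      obtain ⟨k, hk⟩ := FischerSylow.exists_D (isConj_mem (h.conj a List.mem_cons_self))
      exact Subtype.ext (by rw [Subgroup.coe_mul, ← hk]; exact FischerSylow.D_sq k)
    rw [List.prod_cons, hc.symm.mul_mul_mul_comm, ha, one_mul]
    exact ih ⟨fun b hb => h.conj b (List.mem_cons_of_mem a hb),
      fun b hb c hc => h.comm b (List.mem_cons_of_mem a hb) c (List.mem_cons_of_mem a hc)⟩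

/-- An element with involutive image is a product of at most three commuting lifts, up to the centre. -/
theorem decomp (x : Fi23.H) (hx : rho x * rho x = 1) :
    ∃ L, Lks L ∧ L.Nodup ∧ L.length ≤ 3 ∧ (x = L.prod ∨ x = zH * L.prod) := by
  obtain ⟨l₀, hl₀, hn₀, he⟩ :=
    FischerInvol.upTo_three22 setting22 FischerRecog22.typeM22_fi22 (rho x) hx
  obtain ⟨l, hl, hnd, hlen, hprod, -⟩ := hl₀.exists_nodup setting22.cls.1
  obtain ⟨L, hL, rfl⟩ := exists_lifts l hl.mem
  refine ⟨L, ⟨hL, fun a ha b hb => lift_comm (hL a ha) (hL b hb) (hl.comm _ (List.mem_map_of_mem ha) _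
    (List.mem_map_of_mem hb))⟩, hnd.of_map _, ?_, rho_eq ?_⟩
  · rw [List.length_map] at hlen; omega
  · rw [map_list_prod, hprod, he]

theorem map_eq_of_rho : ∀ A B : List Fi23.H, (∀ a ∈ A, IsConj g0 a) → (∀ b ∈ B, IsConj g0 b) →
    A.map rho = B.map rho → A = B := by
  intro A
  induction A with
  | nil =>
    rintro (_ | ⟨b, B⟩) _ _ h
    · rfl
    · simp at h
  | cons a A ih =>
    rintro (_ | ⟨b, B⟩) hA hB h
    · simp at h
    · rw [List.map_cons, List.map_cons, List.cons.injEq] at h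
      rw [lift_inj (hA a List.mem_cons_self) (hB b List.mem_cons_self) h.1,
        ih B (fun y hy => hA y (List.mem_cons_of_mem _ hy)) (fun y hy => hB y (List.mem_cons_of_mem _ hy)) h.2]

theorem Lks.trans {A B : List Fi23.H} (hA : Lks A) (hB : Lks B) (nA : A.Nodup) (nB : B.Nodup)
    (h : A.length = B.length) (h1 : 1 ≤ A.length) (h3 : A.length ≤ 3) :
    ∃ w : Fi23.H, w * A.prod * w⁻¹ = B.prod := by
  have nd : ∀ {L : List Fi23.H}, Lks L → L.Nodup → (L.map rho).Nodup := fun hL hn =>
    hn.map_on fun a ha b hb e => lift_inj (hL.conj a ha) (hL.conj b hb) e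
  obtain ⟨g, hg⟩ := FischerInvol.trans22 setting22 FischerRecog22.typeM22_fi22 A.length h1 h3
    (A.map rho) (B.map rho) hA.com (nd hA nA) (List.length_map ..) hB.com (nd hB nB)
    (by rw [List.length_map, h])
  obtain ⟨w, rfl⟩ := rho_surj g
  refine ⟨w, ?_⟩
  have e : A.map (fun x => w * x * w⁻¹) = B := by
    refine map_eq_of_rho _ _ (fun a ha => ?_) hB.conj ?_
    · obtain ⟨x, hx, rfl⟩ := List.mem_map.mp ha
      exact (hA.conj x hx).trans (isConj_iff.mpr ⟨w, rfl⟩)
    · rw [← hg, List.map_map, List.map_map]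
      exact List.map_congr_left fun x _ => by simp
  rw [← e, FischerInvol.prod_conj]

theorem exists_sq_conj {x w : Fi23.H} (h : ∃ u, u * u = w * x * w⁻¹) : ∃ u, u * u = x := by
  obtain ⟨u, hu⟩ := h
  exact ⟨w⁻¹ * u * w, by
    calc w⁻¹ * u * w * (w⁻¹ * u * w) = w⁻¹ * (u * u) * w := by group
      _ = x := by rw [hu]; group⟩

theorem Lks.pair {p q : ℕ} (t : List ℕ) (hp : lkOK p = true) (hq : lkOK q = true)
    (ht : FischerSylow.pathOK t p = true) (h : Nat.beq (FischerSylow.step t q) q = true) :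
    Lks [lk p hp, lk q hq] := by
  have c := lk_comm t hp hq ht h
  refine ⟨?_, ?_⟩
  · intro a ha
    simp only [List.mem_cons, List.not_mem_nil, or_false] at ha
    rcases ha with rfl | rfl
    exacts [isConj_lk hp, isConj_lk hq]
  · simpa using ⟨c, c.symm⟩

theorem Lks.triple {p q r : ℕ} (t s : List ℕ) (hp : lkOK p = true) (hq : lkOK q = true) (hr : lkOK r = true)
    (ht : FischerSylow.pathOK t p = true) (hs : FischerSylow.pathOK s q = true)
    (h1 : Nat.beq (FischerSylow.step t q) q = true) (h2 : Nat.beq (FischerSylow.step t r) r = true)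
    (h3 : Nat.beq (FischerSylow.step s r) r = true) : Lks [lk p hp, lk q hq, lk r hr] := by
  have c1 := lk_comm t hp hq ht h1
  have c2 := lk_comm t hp hr ht h2
  have c3 := lk_comm s hq hr hs h3
  refine ⟨?_, ?_⟩
  · intro a ha
    simp only [List.mem_cons, List.not_mem_nil, or_false] at ha
    rcases ha with rfl | rfl | rfl
    exacts [isConj_lk hp, isConj_lk hq, isConj_lk hr]
  · simpa using ⟨⟨c1, c2⟩, ⟨c1.symm, c3⟩, c2.symm, c3.symm⟩

/-- A product of two or three lifts, and the other lift, are squares. -/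
theorem Lks.square {L : List Fi23.H} (hL : Lks L) (nd : L.Nodup) (h2 : 2 ≤ L.length) (h3 : L.length ≤ 3) :
    (∃ u, u * u = L.prod) ∧ ∃ u, u * u = zH * L.prod := by
  have go : ∀ A B : List Fi23.H, Lks A → Lks B → A.Nodup → B.Nodup → A.length = L.length →
      B.length = L.length → (∃ u, u * u = A.prod) → (∃ u, u * u = zH * B.prod) →
      (∃ u, u * u = L.prod) ∧ ∃ u, u * u = zH * L.prod := by
    intro A B hA hB nA nB lA lB sA sB
    obtain ⟨w, hw⟩ := hL.trans hA nd nA lA.symm (by omega) h3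
    obtain ⟨v, hv⟩ := hL.trans hB nd nB lB.symm (by omega) h3
    refine ⟨exists_sq_conj (w := w) (hw ▸ sA), exists_sq_conj (w := v) ?_⟩
    rw [show v * (zH * L.prod) * v⁻¹ = zH * (v * L.prod * v⁻¹) by rw [← mul_assoc v, ← zH_comm v]; group, hv]
    exact sB
  obtain hk | hk : L.length = 2 ∨ L.length = 3 := by omega
  · have a1 : lkOK 5260 = true := by decide +kernel
    have a2 : lkOK 8003 = true := by decide +kernel
    have b1 : lkOK 20445 = true := by decide +kernel
    have b2 : lkOK 21353 = true := by decide +kernel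
    refine go [lk 5260 a1, lk 8003 a2] [lk 20445 b1, lk 21353 b2]
      (Lks.pair (path 5260) a1 a2 (by decide +kernel) (by decide +kernel))
      (Lks.pair (path 20445) b1 b2 (by decide +kernel) (by decide +kernel)) ?_ ?_ (by simp [hk]) (by simp [hk])
      (by simpa using wit_two_even (h1 := a1) (h2 := a2)) (by simpa using wit_two_odd (h1 := b1) (h2 := b2))
    · simpa using lk_ne a1 a2 (by omega)
    · simpa using lk_ne b1 b2 (by omega)
  · have a1 : lkOK 7834 = true := by decide +kernel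
    have a2 : lkOK 7967 = true := by decide +kernel
    have a3 : lkOK 7996 = true := by decide +kernel
    have b1 : lkOK 622 = true := by decide +kernel
    have b2 : lkOK 1239 = true := by decide +kernel
    have b3 : lkOK 3158 = true := by decide +kernel
    refine go [lk 7834 a1, lk 7967 a2, lk 7996 a3] [lk 622 b1, lk 1239 b2, lk 3158 b3]
      (Lks.triple (path 7834) (path 7967) a1 a2 a3 (by decide +kernel) (by decide +kernel) (by decide +kernel)
        (by decide +kernel) (by decide +kernel))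
      (Lks.triple (path 622) (path 1239) b1 b2 b3 (by decide +kernel) (by decide +kernel) (by decide +kernel)
        (by decide +kernel) (by decide +kernel)) ?_ ?_ (by simp [hk]) (by simp [hk])
      (by simpa using wit_three_even (h1 := a1) (h2 := a2) (h3 := a3))
      (by simpa using wit_three_odd (h1 := b1) (h2 := b2) (h3 := b3))
    · simpa using ⟨⟨lk_ne a1 a2 (by omega), lk_ne a1 a3 (by omega)⟩, lk_ne a2 a3 (by omega)⟩
    · simpa using ⟨⟨lk_ne b1 b2 (by omega), lk_ne b1 b3 (by omega)⟩, lk_ne b2 b3 (by omega)⟩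

/-- The central involution is no square. -/
theorem zH_not_sq (u : Fi23.H) : u * u ≠ zH := by
  intro hu
  obtain ⟨L, hL, -, -, h⟩ := decomp u (by rw [← map_mul, hu]; exact (rho_one_iff zH).mpr (Or.inr rfl))
  refine zH_ne_one (hu.symm.trans ?_)
  rcases h with rfl | rfl
  · exact hL.sq
  · rw [(show Commute zH L.prod from zH_comm _).symm.mul_mul_mul_comm, zH_sq, hL.sq, mul_one]

/-! ### The fused elements -/

universe u

variable {G : Type u} [Group G] {d : G} (E : Emb d)

include E

theorem Emb.not_sq {x u : Fi23.H} (hx : IsConj d (E.ι x)) (hu : u * u = x) : False := by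
  obtain ⟨g, hg⟩ := isConj_iff.mp hx
  set v := g⁻¹ * E.ι u * g with hv
  have h2 : v * v = d := by
    calc v * v = g⁻¹ * (E.ι u * E.ι u) * g := by rw [hv]; group
      _ = d := by rw [← map_mul, hu, ← hg]; group
  obtain ⟨u', hu'⟩ := E.exists_pre (e := v) (by rw [← h2]; group)
  exact zH_not_sq u' (E.inj (by rw [map_mul, hu', h2, E.map_z]))

theorem Emb.sq_one : d * d = 1 := by rw [← E.map_z, ← map_mul, zH_sq, map_one]

theorem Emb.fused_cases {x : Fi23.H} (hx : IsConj d (E.ι x)) :
    x = zH ∨ IsConj g0 x ∨ IsConj (g0 * zH) x := by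
  obtain ⟨g, hg⟩ := isConj_iff.mp hx
  have x2 : x * x = 1 := E.inj (by
    rw [map_mul, map_one, ← hg]
    calc g * d * g⁻¹ * (g * d * g⁻¹) = g * (d * d) * g⁻¹ := by group
      _ = 1 := by rw [E.sq_one]; group)
  obtain ⟨L, hL, nd, hlen, h⟩ := decomp x (by rw [← map_mul, x2, map_one])
  rcases L with _ | ⟨a, _ | ⟨b, t⟩⟩
  · rw [List.prod_nil, mul_one] at h
    refine Or.inl (h.resolve_left ?_)
    rintro rfl
    rw [map_one] at hg
    refine zH_ne_one (E.inj ?_)
    rw [E.map_z, map_one]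
    calc d = g⁻¹ * (g * d * g⁻¹) * g := by group
      _ = 1 := by rw [hg]; group
  · rw [List.prod_singleton] at h
    obtain ⟨w, hw⟩ := isConj_iff.mp (hL.conj a List.mem_cons_self)
    rcases h with rfl | rfl
    · exact Or.inr (Or.inl (hL.conj _ List.mem_cons_self))
    · refine Or.inr (Or.inr (isConj_iff.mpr ⟨w, ?_⟩))
      rw [← hw, ← zH_comm, ← mul_assoc w, ← zH_comm w]
      group
  · obtain ⟨⟨u, hu⟩, v, hv⟩ := hL.square nd (by simp) hlen
    rcases h with rfl | rfl
    exacts [(E.not_sq hx hu).elim, (E.not_sq hx hv).elim]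

omit E in
theorem conj_mul_zH (w y : Fi23.H) : w * (y * zH) * w⁻¹ = w * y * w⁻¹ * zH := by
  calc w * (y * zH) * w⁻¹ = w * y * (zH * w⁻¹) := by group
    _ = w * y * (w⁻¹ * zH) := by rw [zH_comm]
    _ = w * y * w⁻¹ * zH := by group

theorem Emb.fused_of_conj {a b : Fi23.H} (ha : IsConj d (E.ι a)) (h : IsConj a b) : IsConj d (E.ι b) :=
  ha.trans (E.ι.map_isConj h)

/-- The two lifts of a transposition are not both fused. -/
theorem Emb.not_both (h0 : IsConj d (E.ι g0)) (h1 : IsConj d (E.ι (g0 * zH))) : False := by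
  have fz : ∀ y : Fi23.H, IsConj d (E.ι y) → y ≠ zH → IsConj d (E.ι (y * zH)) := by
    intro y hy hne
    rcases E.fused_cases hy with h | h | h
    · exact absurd h hne
    · obtain ⟨w, rfl⟩ := isConj_iff.mp h
      refine E.fused_of_conj h1 (isConj_iff.mpr ⟨w, ?_⟩)
      exact conj_mul_zH w g0
    · obtain ⟨w, rfl⟩ := isConj_iff.mp h
      refine E.fused_of_conj h0 (isConj_iff.mpr ⟨w, ?_⟩)
      rw [conj_mul_zH, mul_assoc (w * g0 * w⁻¹), zH_sq, mul_one]
  have a0 : lkOK 8003 = true := by decide +kernel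
  have a1 : lkOK 11589 = true := by decide +kernel
  have hg0 : g0 = lk 11589 a1 := Subtype.ext ((FischerSylow.letter 0 (by omega)).trans
    (congrArg FischerSylow.D (Fin.ext (by rw [FischerSylow.fin_val (by omega)]; rfl))))
  have hL := Lks.pair (path 8003) a0 a1 (by decide +kernel) (by decide +kernel)
  rw [← hg0] at hL
  have hne : lk 8003 a0 ≠ g0 := hg0 ▸ lk_ne a0 a1 (by omega)
  obtain ⟨⟨u, hu⟩, -⟩ := hL.square (by simpa using hne) (by simp) (by simp)
  set b := lk 8003 a0
  have hbc : b * g0 = g0 * b := hL.comm b List.mem_cons_self g0 (List.mem_cons_of_mem _ List.mem_cons_self)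
  obtain ⟨g, hg⟩ := isConj_iff.mp h0
  obtain ⟨q, hq⟩ := E.exists_pre (e := g⁻¹ * E.ι b * g) (by
    have e : E.ι b * E.ι g0 = E.ι g0 * E.ι b := by rw [← map_mul, hbc, map_mul]
    calc g⁻¹ * E.ι b * g * d = g⁻¹ * (E.ι b * (g * d * g⁻¹)) * g := by group
      _ = g⁻¹ * ((g * d * g⁻¹) * E.ι b) * g := by rw [hg, e]
      _ = d * (g⁻¹ * E.ι b * g) := by group)
  have hqf : IsConj d (E.ι q) := by
    rw [hq]
    exact (E.fused_of_conj h0 (isConj_lk a0)).trans (isConj_iff.mpr ⟨g⁻¹, by
      show g⁻¹ * E.ι b * g⁻¹⁻¹ = g⁻¹ * E.ι b * g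
      group⟩)
  have hqz : q ≠ zH := by
    rintro rfl
    rw [E.map_z] at hq
    refine hne (E.inj ?_)
    rw [← hg]
    calc E.ι b = g * (g⁻¹ * E.ι b * g) * g⁻¹ := by group
      _ = g * d * g⁻¹ := by rw [← hq]
  have h2 := fz q hqf hqz
  rw [map_mul, E.map_z, hq] at h2
  refine E.not_sq (x := b * g0) ?_ (by simpa using hu)
  refine h2.trans (isConj_iff.mpr ⟨g, ?_⟩)
  rw [map_mul, ← hg]; group

theorem Emb.fused_iff (h0 : IsConj d (E.ι g0)) (x : Fi23.H) :
    IsConj d (E.ι x) ↔ x = zH ∨ IsConj g0 x := by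
  constructor
  · intro hx
    rcases E.fused_cases hx with h | h | h
    · exact Or.inl h
    · exact Or.inr h
    · exact (E.not_both h0 (E.fused_of_conj hx h.symm)).elim
  · rintro (rfl | h)
    · rw [E.map_z]
    · exact E.fused_of_conj h0 h

omit E

/-- The centraliser of a transposition inside its own group. -/
def selfEmb : Emb Fi23.z where
  ι := Fi23.H.subtype
  inj := Subtype.val_injective
  range_eq := by rw [Subgroup.range_subtype, Fi23.centralizer_z]
  map_z := rfl

theorem mem_class_iff (x : Fi23.H) : (x : M) ∈ conjugatesOf Fi23.z ↔ x = zH ∨ IsConj g0 x :=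
  selfEmb.fused_iff (isConj_mem (IsConj.refl g0)) x

/-- The opposite letter. -/
def mirror : ℕ → ℕ
  | 0 => 6 | 6 => 0 | 1 => 5 | 5 => 1 | 2 => 4 | 4 => 2 | k => k

theorem mirror_spec : ∀ k ∈ Fi23.sel, mirror k ∈ Fi23.sel ∧ mirror (mirror k) = k := by decide +kernel

/-- The mirrored word with the central correction. -/
def mword (l : List ℕ) : List ℕ := l.map mirror ++ (if l.length % 2 = 1 then Fi23.zw else [])

theorem mirror_rels : (selRels.all fun l => agree (mword l) []) = true := by decide +kernel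

theorem mirror_zWord : agree (mword zWord) Fi23.zw = true := by decide +kernel

/-- The values of the twisted automorphism. -/
noncomputable def twist (k : ℕ) : Fi23.H :=
  if h : mirror k ∈ Fi23.sel then gH (mirror k) h * zH else 1

theorem twist_prod : ∀ l : List ℕ, (∀ k ∈ l, k ∈ Fi23.sel) →
    ((l.map twist).prod : M) = ((l.map mirror).map Fi23.g).prod * Fi23.z ^ l.length := by
  intro l
  induction l with
  | nil => intro _; simp
  | cons a r ih =>
    intro h
    have hm := (mirror_spec a (h a List.mem_cons_self)).1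
    have hc : ∀ y : M, (∃ m, y = Fi23.z ^ m) → ∀ w ∈ Fi23.H, y * w = w * y := by
      rintro _ ⟨m, rfl⟩ w hw
      exact (Commute.pow_left (Fi23.z_comm w hw).symm m)
    have hrH : ((r.map mirror).map Fi23.g).prod ∈ Fi23.H := mem_word fun y hy => by
      obtain ⟨x, hx, rfl⟩ := List.mem_map.mp hy
      exact (mirror_spec x (h x (List.mem_cons_of_mem _ hx))).1
    rw [List.map_cons, List.prod_cons, Subgroup.coe_mul, ih fun k hk => h k (List.mem_cons_of_mem _ hk)]
    simp only [twist, dif_pos hm, Subgroup.coe_mul, gH, zH, List.map_cons, List.prod_cons, List.length_cons]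
    rw [pow_succ', mul_assoc, ← mul_assoc Fi23.z, hc Fi23.z ⟨1, (pow_one _).symm⟩ _ hrH]
    simp only [mul_assoc]

theorem twist_word {l : List ℕ} (hl : ∀ k ∈ l, k ∈ Fi23.sel) :
    ((l.map twist).prod : M) = FischerSylow.W (mword l) := by
  have h2 : Fi23.z ^ 2 = 1 := by
    have h := pow_orderOf_eq_one Fi23.z
    rwa [Fi23.orderOf_z] at h
  rw [twist_prod l hl, mword, FischerSylow.W_append]
  congr 1
  rw [← Nat.div_add_mod l.length 2, pow_add, pow_mul, h2, one_pow, one_mul, Nat.div_add_mod]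
  split_ifs with h
  · rw [h, pow_one, W_zw]
  · rw [show l.length % 2 = 0 by omega, pow_zero, W_nil]

theorem exists_twist : ∃ α : Fi23.H →* Fi23.H, Function.Bijective α ∧ α zH = zH ∧
    α g0 = gH 6 (by decide) * zH := by
  obtain ⟨f, hfz, hf⟩ := exists_hom_H zH zH_sq zH_comm twist
    (fun l hl => Subtype.ext (by
      rw [twist_word (Lift.selRels_sub l hl).2, agree_spec (List.all_eq_true.mp mirror_rels l hl)]
      rfl))
    (Subtype.ext (by
      rw [twist_word (by decide +kernel), agree_spec mirror_zWord, W_zw]; rfl))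
  refine ⟨f, ?_, hfz, (hf 0 (by decide)).trans (dif_pos (by decide))⟩
  have hs : Function.Surjective f := by
    intro w
    have hle : Fi23.H ≤ f.range.map Fi23.H.subtype := by
      conv_lhs => rw [Fi23.sub_eq_closure]
      refine (Subgroup.closure_le _).mpr ?_
      rintro _ ⟨j, rfl⟩
      have hk : Fi23.sel.getD j 15 ∈ Fi23.sel := (by decide : ∀ j : Fin 9, Fi23.sel.getD j 15 ∈ Fi23.sel) j
      obtain ⟨hm, hmm⟩ := mirror_spec _ hk
      refine ⟨gH _ hk, ?_, rfl⟩
      have e : f (gH _ hm * zH) = gH _ hk := by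
        rw [map_mul, hfz, hf _ hm, twist, dif_pos (by rw [hmm]; exact hk), mul_assoc, zH_sq, mul_one]
        exact Subtype.ext (congrArg Fi23.g hmm)
      exact ⟨_, e⟩
    obtain ⟨v, ⟨p, hp⟩, hvw⟩ := hle w.2
    exact ⟨p, hp.trans (Subtype.ext hvw)⟩
  exact ⟨Finite.injective_iff_surjective.mpr hs, hs⟩

theorem isConj_g6 : IsConj g0 (gH 6 (by decide)) := by
  have h : lkOK 8005 = true := by decide +kernel
  have e : gH 6 (by decide) = lk 8005 h := Subtype.ext ((FischerSylow.letter 6 (by omega)).trans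
    (congrArg FischerSylow.D (Fin.ext (by rw [FischerSylow.fin_val (by omega)]; rfl))))
  rw [e]
  exact isConj_lk h

/-- An identification with the transpositions as the conjugates exists. -/
theorem exists_local [Finite G] (hd : orderOf d = 2) (E : Emb d)
    (hnwc : ∃ g : G, g * d * g⁻¹ ∈ Subgroup.centralizer ({d} : Set G) ∧ g * d * g⁻¹ ≠ d) :
    Nonempty (Local d) := by
  suffices h : ∃ E' : Emb d, IsConj d (E'.ι g0) by
    obtain ⟨E', h0⟩ := h
    exact ⟨{ E' with fus := fun x => (E'.fused_iff h0 x).trans (mem_class_iff x).symm }⟩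
  obtain ⟨g, hg, hne⟩ := hnwc
  obtain ⟨x, hx⟩ := E.exists_pre (Subgroup.mem_centralizer_singleton_iff.mp hg)
  have hxf : IsConj d (E.ι x) := hx ▸ isConj_iff.mpr ⟨g, rfl⟩
  rcases E.fused_cases hxf with h | h | h
  · rw [h, E.map_z] at hx
    exact absurd hx.symm hne
  · exact ⟨E, E.fused_of_conj hxf h.symm⟩
  · have h1 := E.fused_of_conj hxf h.symm
    obtain ⟨α, hα, hαz, hα0⟩ := exists_twist
    refine ⟨{ ι := E.ι.comp α, inj := E.inj.comp hα.1, map_z := ?_, range_eq := ?_ }, ?_⟩
    · rw [MonoidHom.range_comp, MonoidHom.range_eq_top.mpr hα.2, ← MonoidHom.range_eq_map, E.range_eq]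
    · rw [MonoidHom.comp_apply, hαz, E.map_z]
    · show IsConj d (E.ι (α g0))
      rw [hα0]
      obtain ⟨w, hw⟩ := isConj_iff.mp isConj_g6
      refine E.fused_of_conj h1 (isConj_iff.mpr ⟨w, ?_⟩)
      rw [conj_mul_zH, hw]

end CfsgLib.FischerRecog23
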