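import Cfsg.Agent.Lib.FischerRecog23.Base
import Cfsg.Agent.Lib.FischerSylow.Model

set_option autoImplicit false
set_option maxRecDepth 20000

/-!
Word identities in `Fi23` for the fusion of the centraliser of a transposition.
-/

namespace CfsgLib.FischerRecog23

open CfsgLib.CosetEnum
open CfsgLib.FischerSylow (W W_append pi_W D D_conj D_word D_inj commute_D pi_D step pt ptN ext_ten
  allLt16 allLt16_spec fin fin_val pathOK pathOK_spec dw dw_lt)

local notation "M" => Cfsg.Spor.Fi23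

/-- Two words agree on the ten letter points. -/
noncomputable def agree (a b : List ℕ) : Bool :=
  allLt16 a && allLt16 b &&
    allFrom (fun l => Nat.beq (scan Fi23.table a.reverse (ptN l)) (scan Fi23.table b.reverse (ptN l))) 10 0

theorem agree_spec {a b : List ℕ} (h : agree a b = true) : W a = W b := by
  unfold agree at h
  simp only [Bool.and_eq_true] at h
  refine ext_ten fun l hl => ?_
  rw [pi_W (allLt16_spec h.1.1), pi_W (allLt16_spec h.1.2)]
  exact Nat.eq_of_beq_eq_true (allFrom_spec _ _ _ h.2 l (Nat.zero_le _) (by omega))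

theorem W_zw : W Fi23.zw = Fi23.z := rfl

theorem W_nil : W [] = (1 : M) := rfl

theorem mem_word {l : List ℕ} (hl : ∀ x ∈ l, x ∈ Fi23.sel) : W l ∈ Fi23.H :=
  list_prod_mem fun y hy => by
    obtain ⟨x, hx, rfl⟩ := List.mem_map.mp hy
    exact Fi23.mem_sub x (hl x hx)

/-- The transpositions of the points in the orbit of the letters are conjugates of the first letter. -/
theorem exists_conj_of_lab {q : Fin 31671} (h : Nat.beq (Fi23.lab.get 20 q) 2 = true) :
    ∃ w ∈ Fi23.H, w * Fi23.g 0 * w⁻¹ = D q := by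
  have horb := orbit_class Fi23.π Fi23.H Fi23.subTable Fi23.sub_spec.1 Fi23.sub_spec.2 Fi23.lab Fi23.orbPar
    Fi23.root Fi23.orbit_ok ⟨52, by omega⟩ 2 (show Nat.beq (Fi23.lab.get 20 52) 2 = true by decide +kernel)
    (show Nat.beq (Fi23.root.get 20 2) 52 = true by decide +kernel)
  obtain ⟨u, hu, huq⟩ : q ∈ {k | ∃ w ∈ Fi23.H, Fi23.π w (⟨52, by omega⟩ : Fin 31671) = k} := by
    rw [horb]; exact Nat.eq_of_beq_eq_true h
  obtain ⟨v, hv, hvq⟩ : pt 0 ∈ {k | ∃ w ∈ Fi23.H, Fi23.π w (⟨52, by omega⟩ : Fin 31671) = k} := by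
    rw [horb]
    exact Nat.eq_of_beq_eq_true (show Nat.beq (Fi23.lab.get 20 (ptN 0)) 2 = true by decide +kernel)
  refine ⟨u * v⁻¹, Fi23.H.mul_mem hu (Fi23.H.inv_mem hv), ?_⟩
  rw [FischerSylow.letter 0 (by omega), D_conj]
  congr 1
  rw [map_mul, map_inv, Equiv.Perm.mul_apply, ← hvq]
  simpa using huq

/-- A point of the orbit of the letters, given by a number. -/
noncomputable def lkOK (q : ℕ) : Bool := Nat.blt q 31671 && Nat.beq (Fi23.lab.get 20 q) 2

theorem lab_fin {q : ℕ} (h : lkOK q = true) : Nat.beq (Fi23.lab.get 20 (fin q : Fin 31671)) 2 = true := by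
  unfold lkOK at h
  simp only [Bool.and_eq_true] at h
  rw [fin_val (Nat.le_of_ble_eq_true h.1)]
  exact h.2

theorem D_fin_mem {q : ℕ} (h : lkOK q = true) : D (fin q) ∈ Fi23.H := by
  obtain ⟨w, hw, he⟩ := exists_conj_of_lab (lab_fin h)
  rw [← he]
  exact Fi23.H.mul_mem (Fi23.H.mul_mem hw (Fi23.mem_sub 0 (by decide))) (Fi23.H.inv_mem hw)

/-- The letter `0` as an element of the centraliser. -/
def g0 : Fi23.H := gH 0 (by decide)

/-- The transposition of a point as an element of the centraliser. -/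
noncomputable def lk (q : ℕ) (h : lkOK q = true) : Fi23.H := ⟨D (fin q), D_fin_mem h⟩

theorem isConj_lk {q : ℕ} (h : lkOK q = true) : IsConj g0 (lk q h) := by
  obtain ⟨w, hw, he⟩ := exists_conj_of_lab (lab_fin h)
  exact isConj_iff.mpr ⟨⟨w, hw⟩, Subtype.ext he⟩

theorem lk_ne {p q : ℕ} (hp : lkOK p = true) (hq : lkOK q = true) (hne : p ≠ q) : lk p hp ≠ lk q hq := by
  intro h
  have h' := congrArg Fin.val (D_inj (congrArg Subtype.val h))
  unfold lkOK at hp hq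
  simp only [Bool.and_eq_true] at hp hq
  rw [fin_val (Nat.le_of_ble_eq_true hp.1), fin_val (Nat.le_of_ble_eq_true hq.1)] at h'
  exact hne h'

theorem lk_comm {p q : ℕ} (t : List ℕ) (hp : lkOK p = true) (hq : lkOK q = true) (ht : pathOK t p = true)
    (h : Nat.beq (step t q) q = true) : Commute (lk p hp) (lk q hq) := by
  refine Subtype.ext ?_
  show D (fin p) * D (fin q) = D (fin q) * D (fin p)
  refine commute_D.mpr (Fin.ext ?_)
  have hq' : q < 31671 := by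
    unfold lkOK at hq
    simp only [Bool.and_eq_true] at hq
    exact Nat.le_of_ble_eq_true hq.1
  rw [(pathOK_spec ht).2, fin_val hq']
  exact Nat.eq_of_beq_eq_true h

theorem lk_word {q : ℕ} (t : List ℕ) (ht : pathOK t q = true) (h : lkOK q = true) :
    (lk q h : M) = W (dw t) := by
  unfold pathOK at ht
  simp only [Bool.and_eq_true] at ht
  refine D_word (allLt16_spec ht.1.1) ?_
  rw [fin_val (Nat.le_of_ble_eq_true ht.1.2)]
  exact ht.2

/-- Paths to the points of the witnesses. -/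
def path : ℕ → List ℕ
  | 5260 => [8, 4, 5, 3, 4, 2, 3, 8, 6, 7, 5, 6, 4, 5, 3, 4, 2, 3, 8, 1, 2, 3, 4, 5, 6, 7]
  | 8003 => [3, 8, 4, 5, 3, 4, 1, 2, 3, 8, 6, 7, 5, 6, 4, 5, 3, 4, 2, 3, 8, 1, 2, 3, 4, 5, 6, 7]
  | 20445 => [4, 3, 8, 9, 2, 3, 8, 4, 5, 2, 3, 4, 1, 2, 3, 8, 9, 7, 6, 5, 2, 3, 4, 1, 2, 3, 8, 0, 1, 2, 3, 4, 5, 6, 7]
  | 21353 => [4, 3, 8, 9, 2, 3, 8, 4, 5, 2, 3, 4, 1, 2, 3, 8, 9, 8, 7, 6, 5, 3, 4, 1, 2, 3, 8, 0, 1, 2, 3, 4, 5, 6, 7]
  | 7834 => [3, 8, 4, 5, 3, 4, 2, 3, 8, 6, 7, 5, 6, 4, 5, 3, 4, 2, 3, 8, 0, 1, 2, 3, 4, 5, 6, 7]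
  | 7967 => [3, 8, 3, 4, 5, 2, 3, 4, 1, 2, 3, 8, 9, 7, 6, 5, 4, 2, 3, 8, 0, 1, 2, 3, 4, 5, 6, 7]
  | 7996 => [5, 4, 3, 8, 4, 5, 2, 3, 4, 1, 2, 3, 8, 9, 7, 6, 5, 4, 3, 8, 0, 1, 2, 3, 4, 5, 6, 7]
  | 622 => [3, 8, 7, 5, 6, 4, 5, 3, 4, 2, 3, 8, 1, 2, 3, 4, 5, 6, 7]
  | 1239 => [9, 3, 8, 6, 7, 5, 6, 4, 5, 3, 4, 2, 3, 8, 1, 2, 3, 4, 5, 6, 7]
  | 3158 => [8, 9, 5, 4, 3, 8, 6, 7, 5, 6, 4, 5, 3, 4, 2, 3, 8, 1, 2, 3, 4, 5, 6, 7]
  | _ => []

/-- The first witness. -/
def w1 : List ℕ := [2, 6, 0, 1, 9, 1, 5, 0, 9, 3, 0, 1, 6, 6, 1, 3, 1, 9, 6, 0, 1, 3, 0, 6]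

/-- The second witness. -/
def w2 : List ℕ := [1, 4, 9, 2, 1, 3, 5, 1, 9, 1, 0, 3, 8, 9, 6, 5, 8, 8, 5, 4, 3, 2, 3, 1, 4, 9, 8, 5, 8, 4, 1, 1, 9,
  6, 2, 5, 2, 8]

/-- The third witness. -/
def w3 : List ℕ := [5, 2, 9, 9, 2, 0, 0, 1, 9, 2, 6, 3, 3, 0, 4, 3, 4, 9, 3, 5, 4, 9, 6, 2, 0, 5, 8, 9, 6, 9, 2, 9, 2, 9]

/-- A square equal to a word is a square in the centraliser. -/
theorem square_of_agree (l : List ℕ) (hl : ∀ x ∈ l, x ∈ Fi23.sel) (r : List ℕ) (h : agree (l ++ l) r = true)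
    (y : Fi23.H) (hy : (y : M) = W r) : ∃ u, u * u = y :=
  ⟨⟨W l, mem_word hl⟩, Subtype.ext (by rw [hy, ← agree_spec h, W_append]; rfl)⟩

theorem wit_two_even {h1 : lkOK 5260 = true} {h2 : lkOK 8003 = true} :
    ∃ u, u * u = lk 5260 h1 * lk 8003 h2 :=
  square_of_agree (w1 ++ w1 ++ w1) (by decide) (dw (path 5260) ++ dw (path 8003)) (by decide +kernel) _
    (by rw [W_append, Subgroup.coe_mul, lk_word (path 5260) (by decide +kernel) h1,
      lk_word (path 8003) (by decide +kernel) h2])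

theorem wit_two_odd {h1 : lkOK 20445 = true} {h2 : lkOK 21353 = true} :
    ∃ u, u * u = zH * (lk 20445 h1 * lk 21353 h2) :=
  square_of_agree (w2 ++ w2) (by decide) (Fi23.zw ++ (dw (path 20445) ++ dw (path 21353))) (by decide +kernel) _
    (by rw [W_append, W_append, W_zw, Subgroup.coe_mul, Subgroup.coe_mul, lk_word (path 20445) (by decide +kernel) h1,
      lk_word (path 21353) (by decide +kernel) h2]; rfl)

theorem wit_three_even {h1 : lkOK 7834 = true} {h2 : lkOK 7967 = true} {h3 : lkOK 7996 = true} :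
    ∃ u, u * u = lk 7834 h1 * (lk 7967 h2 * lk 7996 h3) :=
  square_of_agree (w3 ++ w3 ++ w3) (by decide) (dw (path 7834) ++ (dw (path 7967) ++ dw (path 7996)))
    (by decide +kernel) _
    (by rw [W_append, W_append, Subgroup.coe_mul, Subgroup.coe_mul, lk_word (path 7834) (by decide +kernel) h1,
      lk_word (path 7967) (by decide +kernel) h2, lk_word (path 7996) (by decide +kernel) h3])

theorem wit_three_odd {h1 : lkOK 622 = true} {h2 : lkOK 1239 = true} {h3 : lkOK 3158 = true} :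
    ∃ u, u * u = zH * (lk 622 h1 * (lk 1239 h2 * lk 3158 h3)) :=
  square_of_agree (w3 ++ w3 ++ w3) (by decide)
    (Fi23.zw ++ (dw (path 622) ++ (dw (path 1239) ++ dw (path 3158)))) (by decide +kernel) _
    (by rw [W_append, W_append, W_append, W_zw, Subgroup.coe_mul, Subgroup.coe_mul, Subgroup.coe_mul,
      lk_word (path 622) (by decide +kernel) h1, lk_word (path 1239) (by decide +kernel) h2,
      lk_word (path 3158) (by decide +kernel) h3]; rfl)

/-- The first letter times the central involution is no transposition. -/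
theorem gz_not_mem : Fi23.g 0 * Fi23.z ∉ conjugatesOf Fi23.z := by
  intro h
  have ht : pathOK [7] 1 = true := by decide +kernel
  have hd : D (fin 1) = W (dw [7]) := D_word (by decide) (by decide +kernel)
  have hw : Fi23.g 0 * Fi23.z * D (fin 1) = W ([0] ++ Fi23.zw ++ dw [7]) := by
    rw [W_append, W_append, W_zw, hd]
    simp [W]
  have key : ∀ (l : List ℕ) (k : Fin 31671), (∀ x ∈ l, x < 16) →
      Nat.beq (scan Fi23.table l.reverse k) k = false → W l ≠ 1 := fun l k hl hk he => by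
    have h1 := pi_W hl k
    rw [he, map_one, Equiv.Perm.one_apply] at h1
    exact Nat.ne_of_beq_eq_false hk h1.symm
  rcases Fi23.threeClass.1.2 _ h _ (FischerSylow.D_mem (fin 1)) with h1 | h1
  · refine key (([0] ++ Fi23.zw ++ dw [7]) ++ ([0] ++ Fi23.zw ++ dw [7])) ⟨0, by omega⟩ (by decide)
      (by decide +kernel) ?_
    rw [W_append, ← hw, ← pow_two]
    exact h1
  · refine key (([0] ++ Fi23.zw ++ dw [7]) ++ ([0] ++ Fi23.zw ++ dw [7]) ++ ([0] ++ Fi23.zw ++ dw [7]))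
      ⟨8, by omega⟩ (by decide) (by decide +kernel) ?_
    rw [W_append, W_append _ ([0] ++ Fi23.zw ++ dw [7]), ← hw, ← pow_two, ← pow_succ]
    exact h1

end CfsgLib.FischerRecog23
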