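import Cfsg.Agent.Lib.FischerRecog23.Base
import Cfsg.Agent.Lib.FischerRecog23.Cert

set_option autoImplicit false

/-!
A tenth involution completes the identification of the centraliser to a homomorphism from `Fi23`.
-/

namespace CfsgLib.FischerRecog23

open CfsgLib.CosetEnum
open CfsgLib.CosetEnum.Fi23 (π z)
open CfsgLib.FischerSylow (D p0 pt ptN)

universe u

variable {G : Type u} [Group G]

/-- The image of the transposition of a point. -/
noncomputable def Local.img {d : G} (L : Local d) (p : Fin 31671) : G :=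
  open scoped Classical in if h : D p ∈ Fi23.H then L.ι ⟨D p, h⟩ else 1

theorem Local.img_eq {d : G} (L : Local d) {p : Fin 31671} (h : D p ∈ Fi23.H) : L.img p = L.ι ⟨D p, h⟩ :=
  dif_pos h

theorem p0_mem : D p0 ∈ Fi23.H := D_p0 ▸ Fi23.z_mem

theorem Local.img_p0 {d : G} (L : Local d) : L.img p0 = d := by
  rw [L.img_eq p0_mem]
  exact (congrArg L.ι (Subtype.ext D_p0)).trans L.map_z

theorem Local.isConj_img {d : G} (L : Local d) {p : Fin 31671} (h : D p ∈ Fi23.H) : IsConj d (L.img p) := by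
  rw [L.img_eq h]
  exact (L.fus _).mpr (FischerSylow.D_mem p)

theorem Local.img_mul_self {d : G} (L : Local d) {p : Fin 31671} (h : D p ∈ Fi23.H) : L.img p * L.img p = 1 := by
  rw [L.img_eq h, ← map_mul, show (⟨D p, h⟩ * ⟨D p, h⟩ : Fi23.H) = 1 from Subtype.ext (FischerSylow.D_sq p), map_one]

theorem Local.img_inj {d : G} (L : Local d) {p q : Fin 31671} (hp : D p ∈ Fi23.H) (hq : D q ∈ Fi23.H)
    (h : L.img p = L.img q) : p = q := by
  rw [L.img_eq hp, L.img_eq hq] at h
  exact FischerSylow.D_inj (congrArg Subtype.val (L.inj h))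

theorem Local.img_comm {d : G} (L : Local d) {p q : Fin 31671} (hp : D p ∈ Fi23.H) (hq : D q ∈ Fi23.H) :
    L.img p * L.img q = L.img q * L.img p ↔ Comm p q := by
  rw [L.img_eq hp, L.img_eq hq, L.comm_iff, comm_iff]

theorem Local.img_center {d : G} (L : Local d) {p : Fin 31671} (h : D p ∈ Fi23.H) : L.img p * d = d * L.img p := by
  rw [L.img_eq h]
  exact L.commute_map _

theorem Local.img_ne {d : G} (L : Local d) {p : Fin 31671} (h : Lk p) : L.img p ≠ d := fun e =>
  h.1 (L.img_inj (lk_mem h) p0_mem (e.trans L.img_p0.symm))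

/-- A conjugate of the element in its centraliser is the image of a point of the link. -/
theorem Local.exists_point {d e : G} (L : Local d) (h : IsConj d e) (hc : e * d = d * e) (hne : e ≠ d) :
    ∃ p, Lk p ∧ L.img p = e := by
  obtain ⟨y, rfl⟩ := L.exists_pre hc
  have hz : (y : Cfsg.Spor.Fi23) ≠ z := fun e' => hne (by rw [show y = zH from Subtype.ext e', L.map_z])
  obtain ⟨p, hp, hD⟩ := exists_lk ((L.fus y).mp h) hz (Fi23.z_comm _ y.2)
  exact ⟨p, hp, by rw [L.img_eq (lk_mem hp)]; exact congrArg L.ι (Subtype.ext hD)⟩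

/-- A configuration of conjugates in the centraliser comes from one of link points. -/
theorem Local.exists_conf {d : G} (L : Local d) (n : ℕ) (E : List (ℕ × ℕ)) (v : ℕ → G)
    (hv : ∀ i < n, IsConj d (v i) ∧ v i * d = d * v i ∧ v i ≠ d)
    (hE : ∀ i < n, ∀ j < n, i ≠ j → v i ≠ v j ∧ (v i * v j = v j * v i ↔ ¬ ((i, j) ∈ E ∨ (j, i) ∈ E))) :
    ∃ P, Conf n E P ∧ ∀ i < n, L.img (P i) = v i := by
  have hex : ∀ i, ∃ p, i < n → Lk p ∧ L.img p = v i := fun i => by
    by_cases hi : i < n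
    · obtain ⟨p, hp⟩ := L.exists_point (hv i hi).1 (hv i hi).2.1 (hv i hi).2.2
      exact ⟨p, fun _ => hp⟩
    · exact ⟨p0, fun h => absurd h hi⟩
  choose P hP using hex
  refine ⟨P, ⟨fun i hi => (hP i hi).1, fun i hi j hj hij => ?_⟩, fun i hi => (hP i hi).2⟩
  obtain ⟨h1, h2⟩ := hE i hi j hj hij
  rw [← (hP i hi).2, ← (hP j hj).2] at h1 h2
  rw [L.img_comm (lk_mem (hP i hi).1) (lk_mem (hP j hj).1)] at h2
  exact ⟨fun e => h1 (by rw [e]), h2⟩

/-- Commutation of the ten letters and the central involution, numbered ten. -/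
def commB (k m : ℕ) : Bool :=
  let E : List (ℕ × ℕ) := [(0, 1), (1, 2), (2, 3), (3, 4), (3, 8), (4, 5), (5, 6), (6, 7), (8, 9), (7, 10)]
  !(E.contains (k, m) || E.contains (m, k))

theorem table_ok : allFrom (fun k => allFrom (fun m =>
    Nat.beq (act Fi23.table k (ptN m)) (ptN m) == commB k m) 11 0) 10 0 = true := by decide +kernel

theorem pt_ten : pt 10 = p0 := rfl

theorem comm_pt {k m : ℕ} (hk : k < 10) (hm : m < 11) : Comm (pt k) (pt m) ↔ commB k m = true := by
  have h := allFrom_spec _ _ _ (allFrom_spec _ _ _ table_ok k (Nat.zero_le _) (by omega)) m (Nat.zero_le _) (by omega)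
  rw [beq_iff_eq] at h
  rw [Comm, (FischerSylow.moves_letter hk).fix_iff, ← h]
  exact ⟨fun e => by rw [show act Fi23.table k (ptN m) = ptN m from e]; exact Nat.beq_refl _,
    fun e => Nat.eq_of_beq_eq_true e⟩

theorem pt_mem {k : ℕ} (hk : k ∈ Fi23.sel ∨ k = 10) : D (pt k) ∈ Fi23.H := by
  rcases hk with hk | rfl
  · have h10 : k < 10 := (by decide : ∀ x ∈ Fi23.sel, x < 10) k hk
    rw [← FischerSylow.letter k h10]
    exact Fi23.mem_sub k hk
  · exact p0_mem

theorem pt_ne : ∀ k < 11, ∀ m < 11, ptN k = ptN m → k = m := by decide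

/-- The test of a configuration of letters. -/
def confB (r : List ℕ) (E : List (ℕ × ℕ)) : Bool :=
  (List.range r.length).all fun i => (List.range r.length).all fun j => i == j ||
    (r.getD i 0 != r.getD j 0 && commB (r.getD i 0) (r.getD j 0) == !(E.contains (i, j) || E.contains (j, i)))

theorem confB_spec {r : List ℕ} {E : List (ℕ × ℕ)} (h : confB r E = true) : ∀ i < r.length, ∀ j < r.length, i ≠ j →
    r.getD i 0 ≠ r.getD j 0 ∧ (commB (r.getD i 0) (r.getD j 0) = true ↔ ¬ ((i, j) ∈ E ∨ (j, i) ∈ E)) := by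
  intro i hi j hj hij
  unfold confB at h
  rw [List.all_eq_true] at h
  have h1 := h i (List.mem_range.mpr hi)
  rw [List.all_eq_true] at h1
  have h2 := h1 j (List.mem_range.mpr hj)
  simp only [Bool.or_eq_true, beq_iff_eq, hij, false_or, Bool.and_eq_true, bne_iff_ne, ne_eq] at h2
  refine ⟨h2.1, ?_⟩
  rw [h2.2]
  simp [List.contains_iff_mem, not_or]

/-- The indices of the letters of the centraliser, with ten for the central involution. -/
def Sel (k : ℕ) : Prop := k ∈ Fi23.sel ∨ k = 10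

instance (k : ℕ) : Decidable (Sel k) := inferInstanceAs (Decidable (_ ∨ _))

theorem Sel.lt {k : ℕ} (h : Sel k) : k < 11 := by
  rcases h with h | rfl
  · exact (by decide : ∀ x ∈ Fi23.sel, x < 11) k h
  · omega

theorem Local.pt_comm {d : G} (L : Local d) {k m : ℕ} (hk : Sel k) (hm : Sel m) :
    L.img (pt k) * L.img (pt m) = L.img (pt m) * L.img (pt k) ↔ commB k m = true := by
  rcases hk with hk' | rfl
  · rw [L.img_comm (pt_mem (Or.inl hk')) (pt_mem hm)]
    exact comm_pt ((by decide : ∀ x ∈ Fi23.sel, x < 10) k hk') hm.lt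
  · rw [pt_ten, L.img_p0]
    exact iff_of_true (L.img_center (pt_mem hm)).symm
      ((by decide : ∀ m < 11, Sel m → commB 10 m = true) m hm.lt hm)

theorem Local.pt_ne {d : G} (L : Local d) {k m : ℕ} (hk : Sel k) (hm : Sel m) (h : k ≠ m) :
    L.img (pt k) ≠ L.img (pt m) := fun e =>
  h (FischerRecog23.pt_ne k hk.lt m hm.lt (congrArg Fin.val (L.img_inj (pt_mem hk) (pt_mem hm) e)))

theorem Local.pt_role {d : G} (L : Local d) (r : List ℕ) (hr : ∀ x ∈ r, Sel x) {c : ℕ} (hc : Sel c)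
    (h : ∀ x ∈ r, x ≠ c ∧ commB x c = true) (E : List (ℕ × ℕ)) (hE : confB r E = true)
    {L' : Local (L.img (pt c))} :
    ∃ P, Conf r.length E P ∧ ∀ i < r.length, L'.img (P i) = L.img (pt (r.getD i 0)) := by
  have hmem : ∀ i < r.length, r.getD i 0 ∈ r := fun i hi => by
    rw [List.getD_eq_getElem r 0 hi]; exact List.getElem_mem hi
  refine L'.exists_conf _ E _ (fun i hi => ?_) fun i hi j hj hij => ?_
  · have h1 := h _ (hmem i hi)
    exact ⟨(L.isConj_img (pt_mem hc)).symm.trans (L.isConj_img (pt_mem (hr _ (hmem i hi)))),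
      (L.pt_comm (hr _ (hmem i hi)) hc).mpr h1.2, L.pt_ne (hr _ (hmem i hi)) hc h1.1⟩
  · exact ⟨L.pt_ne (hr _ (hmem i hi)) (hr _ (hmem j hj)) (confB_spec hE i hi j hj hij).1,
      (L.pt_comm (hr _ (hmem i hi)) (hr _ (hmem j hj))).trans (confB_spec hE i hi j hj hij).2⟩

/-- The seven letters of type `E7` have Coxeter element of ninth power the central involution. -/
theorem seven_pow : (D (pt 2) * D (pt 3) * D (pt 4) * D (pt 5) * D (pt 6) * D (pt 8) * D (pt 9)) ^ 9 = z := by
  have h : (allFrom (fun l => Nat.beq (scan Fi23.table (List.replicate 9 [2, 3, 4, 5, 6, 8, 9]).flatten.reverse (ptN l))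
      (scan Fi23.table Fi23.zw.reverse (ptN l))) 10 0) = true := by decide +kernel
  rw [← FischerSylow.letter 2 (by omega), ← FischerSylow.letter 3 (by omega), ← FischerSylow.letter 4 (by omega),
    ← FischerSylow.letter 5 (by omega), ← FischerSylow.letter 6 (by omega), ← FischerSylow.letter 8 (by omega),
    ← FischerSylow.letter 9 (by omega),
    show _ ^ 9 = FischerSylow.W (List.replicate 9 [2, 3, 4, 5, 6, 8, 9]).flatten by
      rw [FischerSylow.W, List.map_flatten, List.prod_flatten, List.map_map, List.map_replicate, List.prod_replicate]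
      simp [mul_assoc]]
  refine FischerSylow.ext_ten fun l hl => ?_
  rw [FischerSylow.pi_W (by decide), show z = FischerSylow.W Fi23.zw from rfl, FischerSylow.pi_W Fi23.zw_lt]
  exact Nat.eq_of_beq_eq_true (allFrom_spec _ _ _ h l (Nat.zero_le _) (by omega))

/-- The tenth involution. -/
theorem exists_tenth [Finite G] {d : G} (L : Local d) : ∃ j : G, j * j = 1 ∧
    (∀ k ∈ ([0, 1, 2, 3, 4, 5, 8, 9] : List ℕ), Commute (L.img (pt k)) j) ∧ (L.img (pt 6) * j) ^ 3 = 1 := by
  have hS : ∀ {k : ℕ}, k ∈ Fi23.sel → Sel k := Or.inl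
  obtain ⟨La⟩ : Nonempty (Local (L.img (pt 0))) := by
    obtain ⟨g, hg⟩ := isConj_iff.mp (L.isConj_img (pt_mem (k := 0) (Or.inl (by decide))))
    exact hg ▸ ⟨L.conj g⟩
  obtain ⟨Li⟩ : Nonempty (Local (L.img (pt 9))) := by
    obtain ⟨g, hg⟩ := isConj_iff.mp (L.isConj_img (pt_mem (k := 9) (Or.inl (by decide))))
    exact hg ▸ ⟨L.conj g⟩
  obtain ⟨P, hP, hPv⟩ := L.pt_role [10, 2, 3, 4, 5, 6, 8, 9] (by decide) (c := 0) (hS (by decide)) (by decide) adjA
    (by decide) (L' := La)
  have hPm : ∀ i < 8, D (P i) ∈ Fi23.H := fun i hi => lk_mem (hP.1 i hi)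
  have hprod : (D (P 1) * D (P 2) * D (P 3) * D (P 4) * D (P 5) * D (P 6) * D (P 7)) ^ 9 = D (P 0) := by
    have e : ∀ (i k : ℕ) (hi : i < 8) (hk : Sel k), La.img (P i) = L.img (pt k) →
        La.ι ⟨D (P i), hPm i hi⟩ = L.ι ⟨D (pt k), pt_mem hk⟩ := fun i k hi hk h => by
      rwa [← La.img_eq, ← L.img_eq]
    have h0 := congrArg L.ι (show ((⟨D (pt 2), pt_mem (hS (by decide))⟩ * ⟨D (pt 3), pt_mem (hS (by decide))⟩ *
      ⟨D (pt 4), pt_mem (hS (by decide))⟩ * ⟨D (pt 5), pt_mem (hS (by decide))⟩ * ⟨D (pt 6), pt_mem (hS (by decide))⟩ *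
      ⟨D (pt 8), pt_mem (hS (by decide))⟩ * ⟨D (pt 9), pt_mem (hS (by decide))⟩) ^ 9 : Fi23.H) =
      ⟨D (pt 10), p0_mem⟩ from Subtype.ext (seven_pow.trans D_p0.symm))
    simp only [map_pow, map_mul] at h0
    rw [← e 1 2 (by omega) (hS (by decide)) (hPv 1 (by simp)), ← e 2 3 (by omega) (hS (by decide)) (hPv 2 (by simp)),
      ← e 3 4 (by omega) (hS (by decide)) (hPv 3 (by simp)), ← e 4 5 (by omega) (hS (by decide)) (hPv 4 (by simp)),
      ← e 5 6 (by omega) (hS (by decide)) (hPv 5 (by simp)), ← e 6 8 (by omega) (hS (by decide)) (hPv 6 (by simp)),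
      ← e 7 9 (by omega) (hS (by decide)) (hPv 7 (by simp)), ← e 0 10 (by omega) (Or.inr rfl) (hPv 0 (by simp))] at h0
    simp only [← map_mul, ← map_pow] at h0
    exact congrArg Subtype.val (La.inj h0)
  obtain ⟨p, hp, hpc⟩ := exists_ninth P hP hprod
  have hpm := lk_mem hp
  set j := La.img p with hj
  have hrole : ∀ i < 8, (L.img (pt (([10, 2, 3, 4, 5, 6, 8, 9] : List ℕ).getD i 0)) * j =
      j * L.img (pt (([10, 2, 3, 4, 5, 6, 8, 9] : List ℕ).getD i 0)) ↔ i ≠ 0 ∧ i ≠ 5) := fun i hi => by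
    rw [← hPv i hi, La.img_comm (hPm i hi) hpm]
    exact (hpc i hi).2
  have hj0 : L.img (pt 0) * j = j * L.img (pt 0) := (La.img_center hpm).symm
  have hj6 : (L.img (pt 6) * j) ^ 3 = 1 := by
    have h3 := FischerSylow.noncomm_three (FischerSylow.D_mem (P 5)) (FischerSylow.D_mem p)
      (fun e => ((hpc 5 (by omega)).2.mp ((comm_iff _ _).mpr e)).2 rfl)
    have h5 := hPv 5 (by simp)
    rw [show ([10, 2, 3, 4, 5, 6, 8, 9] : List ℕ).getD 5 0 = 6 from rfl] at h5
    rw [← h5, hj, La.img_eq (hPm 5 (by omega)), La.img_eq hpm, ← map_mul, ← map_pow,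
      show ((⟨D (P 5), hPm 5 (by omega)⟩ * ⟨D p, hpm⟩) ^ 3 : Fi23.H) = 1 from Subtype.ext h3, map_one]
  obtain ⟨Q, hQ, hQv⟩ := L.pt_role [10, 0, 2, 3, 4, 5, 6] (by decide) (c := 9) (hS (by decide)) (by decide) adjB
    (by decide) (L' := Li)
  obtain ⟨b, hb, hbv⟩ := Li.exists_point
    ((L.isConj_img (pt_mem (hS (by decide : 9 ∈ Fi23.sel)))).symm.trans (L.isConj_img (pt_mem (hS (by decide : 1 ∈ Fi23.sel)))))
    ((L.pt_comm (hS (by decide)) (hS (by decide))).mpr (by decide))
    (L.pt_ne (hS (by decide)) (hS (by decide)) (by decide))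
  obtain ⟨q, hq, hqv⟩ := Li.exists_point
    ((L.isConj_img (pt_mem (hS (by decide : 9 ∈ Fi23.sel)))).symm.trans
      ((L.isConj_img (pt_mem (hS (by decide : 0 ∈ Fi23.sel)))).trans (La.isConj_img hpm)))
    (((hrole 7 (by omega)).mpr ⟨by omega, by omega⟩).symm)
    (fun e => (hpc 7 (by omega)).1 (La.img_inj hpm (hPm 7 (by omega)) (e.trans (hPv 7 (by simp)).symm)))
  have hbq : Comm b q := by
    refine commute_bj Q hQ b q hb hq (fun i hi => ?_) fun i hi => ?_
    · rw [← Li.img_comm (lk_mem (hQ.1 i hi)) (lk_mem hb), hQv i hi, hbv,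
        L.pt_comm ((by decide : ∀ i < 7, Sel (([10, 0, 2, 3, 4, 5, 6] : List ℕ).getD i 0)) i hi) (hS (by decide))]
      revert i; decide
    · rw [← Li.img_comm (lk_mem (hQ.1 i hi)) (lk_mem hq), hQv i hi, hqv]
      interval_cases i
      · exact iff_of_false (fun e => ((hrole 0 (by omega)).mp e).1 rfl) (fun e => e.1 rfl)
      · exact iff_of_true hj0 ⟨by omega, by omega⟩
      · exact (hrole 1 (by omega)).trans (by decide)
      · exact (hrole 2 (by omega)).trans (by decide)
      · exact (hrole 3 (by omega)).trans (by decide)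
      · exact (hrole 4 (by omega)).trans (by decide)
      · exact (hrole 5 (by omega)).trans (by decide)
  have hj1 : L.img (pt 1) * j = j * L.img (pt 1) := by
    rw [← hbv, show j = Li.img q from hqv.symm]; exact (Li.img_comm (lk_mem hb) (lk_mem hq)).mpr hbq
  refine ⟨j, La.img_mul_self hpm, fun k hk => ?_, hj6⟩
  simp only [List.mem_cons, List.not_mem_nil, or_false] at hk
  rcases hk with rfl | rfl | rfl | rfl | rfl | rfl | rfl | rfl
  · exact hj0
  · exact hj1
  · exact (hrole 1 (by omega)).mpr ⟨by omega, by omega⟩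
  · exact (hrole 2 (by omega)).mpr ⟨by omega, by omega⟩
  · exact (hrole 3 (by omega)).mpr ⟨by omega, by omega⟩
  · exact (hrole 4 (by omega)).mpr ⟨by omega, by omega⟩
  · exact (hrole 6 (by omega)).mpr ⟨by omega, by omega⟩
  · exact (hrole 7 (by omega)).mpr ⟨by omega, by omega⟩

/-- The generators other than the tenth, in the centraliser. -/
def gSel : Cfsg.Spor.Fi23.Gen → Fi23.H
  | .a => gH 0 (by decide)
  | .b => gH 1 (by decide)
  | .c => gH 2 (by decide)
  | .d => gH 3 (by decide)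
  | .e => gH 4 (by decide)
  | .f => gH 5 (by decide)
  | .g => gH 6 (by decide)
  | .j => 1
  | .h => gH 8 (by decide)
  | .i => gH 9 (by decide)

theorem gSel_val : ∀ a, a ≠ Cfsg.Spor.Fi23.Gen.j → (gSel a : Cfsg.Spor.Fi23) = PresentedGroup.of a := by
  intro a h
  cases a <;> first | rfl | exact absurd rfl h

theorem label_j : ∀ a : Cfsg.Spor.Fi23.Gen, Cfsg.Spor.coxLabel Cfsg.Spor.Fi23.edges a .j =
    (if a = .j then 1 else if a = .g then 3 else 2) ∧
    Cfsg.Spor.coxLabel Cfsg.Spor.Fi23.edges .j a = (if a = .j then 1 else if a = .g then 3 else 2) := by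
  intro a
  cases a <;> decide +kernel

theorem mem_nodes : ∀ a : Cfsg.Spor.Fi23.Gen, a ∈ Cfsg.Spor.coxNodes Cfsg.Spor.Fi23.edges := by
  intro a
  cases a <;> decide +kernel

theorem exists_hom [Finite G] {d : G} (L : Local d) : ∃ φ : Cfsg.Spor.Fi23 →* G, Function.Injective φ ∧
    ∀ h : Fi23.H, φ (h : Cfsg.Spor.Fi23) = L.ι h := by
  obtain ⟨j, hjj, hjc, hjg⟩ := exists_tenth L
  have hgi : ∀ k (hk : k ∈ Fi23.sel), L.img (pt k) = L.ι (gH k hk) := fun k hk => by
    rw [L.img_eq (pt_mem (Or.inl hk))]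
    exact congrArg L.ι (Subtype.ext (FischerSylow.letter k ((by decide : ∀ x ∈ Fi23.sel, x < 10) k hk)).symm)
  let v : Cfsg.Spor.Fi23.Gen → G := fun a => if a = .j then j else L.ι (gSel a)
  have hvj : v .j = j := if_pos rfl
  have hvs : ∀ a, a ≠ .j → v a = L.ι (gSel a) := fun a h => if_neg h
  have hinv : ∀ a, v a * v a = 1 := fun a => by
    by_cases h : a = .j
    · rw [h, hvj, hjj]
    · rw [hvs a h, ← map_mul, ← map_one L.ι]
      refine congrArg L.ι (Subtype.ext ?_)
      have := PresentedGroup.one_of_mem (rels := Cfsg.Spor.coxRelators Cfsg.Spor.Fi23.edges ∪ {r | r ∈ Cfsg.Spor.Fi23.extra})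
        (Or.inl ⟨a, mem_nodes a, a,
          mem_nodes a, rfl⟩)
      rw [Cfsg.Spor.coxLabel, if_pos rfl, pow_one, map_mul] at this
      rw [Subgroup.coe_mul, gSel_val a h]
      exact this
  have hcj : ∀ a, a ≠ .j → (a = .g → (v a * j) ^ 3 = 1) ∧ (a ≠ .g → Commute (v a) j) := by
    intro a h
    rw [hvs a h]
    cases a
    case j => exact absurd rfl h
    case g => exact ⟨fun _ => hgi 6 (by decide) ▸ hjg, fun h' => absurd rfl h'⟩
    case a => exact ⟨fun h' => absurd h' (by decide), fun _ => hgi 0 (by decide) ▸ hjc 0 (by decide)⟩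
    case b => exact ⟨fun h' => absurd h' (by decide), fun _ => hgi 1 (by decide) ▸ hjc 1 (by decide)⟩
    case c => exact ⟨fun h' => absurd h' (by decide), fun _ => hgi 2 (by decide) ▸ hjc 2 (by decide)⟩
    case d => exact ⟨fun h' => absurd h' (by decide), fun _ => hgi 3 (by decide) ▸ hjc 3 (by decide)⟩
    case e => exact ⟨fun h' => absurd h' (by decide), fun _ => hgi 4 (by decide) ▸ hjc 4 (by decide)⟩
    case f => exact ⟨fun h' => absurd h' (by decide), fun _ => hgi 5 (by decide) ▸ hjc 5 (by decide)⟩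
    case h => exact ⟨fun h' => absurd h' (by decide), fun _ => hgi 8 (by decide) ▸ hjc 8 (by decide)⟩
    case i => exact ⟨fun h' => absurd h' (by decide), fun _ => hgi 9 (by decide) ▸ hjc 9 (by decide)⟩
  have hcox : ∀ a b, (v a * v b) ^ Cfsg.Spor.coxLabel Cfsg.Spor.Fi23.edges a b = 1 := by
    have hflip : ∀ (x y : G) (n : ℕ), (x * y) ^ n = 1 → (y * x) ^ n = 1 := fun x y n e => by
      rw [show y * x = y * (x * y) * y⁻¹ by group, conj_pow, e]; group
    have key : ∀ a, (v a * v .j) ^ (if a = .j then 1 else if a = .g then 3 else 2 : ℕ) = 1 := by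
      intro a
      split_ifs with h1 h2
      · rw [h1, pow_one]; exact hinv _
      · rw [hvj]; exact (hcj a h1).1 h2
      · rw [hvj, ((hcj a h1).2 h2).mul_pow, pow_two, pow_two, hinv, hjj, one_mul]
    intro a b
    by_cases hb : b = .j
    · subst hb; rw [(label_j a).1]; exact key a
    by_cases ha : a = .j
    · subst ha; rw [(label_j b).2]; exact hflip _ _ _ (key b)
    rw [hvs a ha, hvs b hb, ← map_mul, ← map_pow, ← map_one L.ι]
    refine congrArg L.ι (Subtype.ext ?_)
    have := PresentedGroup.one_of_mem (rels := Cfsg.Spor.coxRelators Cfsg.Spor.Fi23.edges ∪ {r | r ∈ Cfsg.Spor.Fi23.extra})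
      (Or.inl ⟨a, mem_nodes a, b,
        mem_nodes b, rfl⟩)
    rw [map_pow, map_mul] at this
    rw [Subgroup.coe_pow, Subgroup.coe_mul, gSel_val a ha, gSel_val b hb]
    exact this
  have hrel : ∀ r ∈ Cfsg.Spor.coxRelators Cfsg.Spor.Fi23.edges ∪ {r | r ∈ Cfsg.Spor.Fi23.extra},
      FreeGroup.lift v r = 1 := by
    rintro r (⟨a, -, b, -, rfl⟩ | hr)
    · rw [map_pow, map_mul, FreeGroup.lift_apply_of, FreeGroup.lift_apply_of]; exact hcox a b
    · have h1 := PresentedGroup.one_of_mem (rels := Cfsg.Spor.coxRelators Cfsg.Spor.Fi23.edges ∪ {r | r ∈ Cfsg.Spor.Fi23.extra})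
        (Or.inr hr)
      simp only [Set.mem_ofPred_eq, Cfsg.Spor.Fi23.extra, List.mem_cons, List.not_mem_nil, or_false] at hr
      rcases hr with rfl | rfl <;>
      · simp only [map_pow, map_mul] at h1
        simp only [map_pow, map_mul, FreeGroup.lift_apply_of, hvs .a (by decide), hvs .b (by decide), hvs .c (by decide), hvs .d (by decide), hvs .e (by decide), hvs .f (by decide), hvs .h (by decide), hvs .i (by decide)]
        simp only [← map_mul, ← map_pow]
        rw [← map_one L.ι]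
        refine congrArg L.ι (Subtype.ext ?_)
        exact h1
  let φ : Cfsg.Spor.Fi23 →* G := PresentedGroup.toGroup hrel
  have hφ : ∀ a, φ (PresentedGroup.of a) = v a := fun a => PresentedGroup.toGroup.of hrel
  have hgen : ∀ a, a ≠ .j → φ (gSel a : Cfsg.Spor.Fi23) = L.ι (gSel a) := fun a h => by
    rw [gSel_val a h, hφ, hvs a h]
  have hext : ∀ w (hw : w ∈ Fi23.H), φ w = L.ι ⟨w, hw⟩ := by
    intro w hw
    have hw' := hw
    rw [Fi23.sub_eq_closure] at hw'
    obtain ⟨hw'', e⟩ : ∃ h : w ∈ Fi23.H, φ w = L.ι ⟨w, h⟩ := by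
      clear hw
      induction hw' using Subgroup.closure_induction with
      | mem x hx =>
        obtain ⟨i, rfl⟩ := hx
        obtain ⟨a, ha, e⟩ : ∃ a, a ≠ Cfsg.Spor.Fi23.Gen.j ∧ Fi23.g (Fi23.sel.getD i 15) = (gSel a : Cfsg.Spor.Fi23) := by
          fin_cases i <;> first
            | exact ⟨.a, by decide, rfl⟩ | exact ⟨.b, by decide, rfl⟩ | exact ⟨.c, by decide, rfl⟩ | exact ⟨.d, by decide, rfl⟩
            | exact ⟨.e, by decide, rfl⟩ | exact ⟨.f, by decide, rfl⟩ | exact ⟨.g, by decide, rfl⟩ | exact ⟨.h, by decide, rfl⟩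
            | exact ⟨.i, by decide, rfl⟩
        have hm : Fi23.g (Fi23.sel.getD i 15) ∈ Fi23.H := by rw [e]; exact (gSel a).2
        refine ⟨hm, ?_⟩
        simp only [e]
        exact hgen a ha
      | one => exact ⟨one_mem _, by rw [map_one]; exact (map_one L.ι).symm⟩
      | mul x y _ _ hx hy =>
        obtain ⟨hx', ex⟩ := hx
        obtain ⟨hy', ey⟩ := hy
        exact ⟨mul_mem hx' hy', by rw [map_mul, ex, ey, ← map_mul]; rfl⟩
      | inv x _ hx =>
        obtain ⟨hx', ex⟩ := hx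
        exact ⟨inv_mem hx', by rw [map_inv, ex, ← map_inv]; rfl⟩
    exact e
  refine ⟨φ, ?_, fun h => hext h h.2⟩
  haveI := Fi23.Simple.isSimple
  rw [← MonoidHom.ker_eq_bot_iff]
  rcases (MonoidHom.normal_ker φ).eq_bot_or_eq_top with h1 | h1
  · exact h1
  · have hz : φ (z : Cfsg.Spor.Fi23) = 1 := by rw [← MonoidHom.mem_ker, h1]; exact Subgroup.mem_top _
    rw [hext z Fi23.z_mem] at hz
    exact absurd (congrArg Subtype.val (L.inj (hz.trans (map_one L.ι).symm))) Fi23.z_ne_one

end CfsgLib.FischerRecog23
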