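import Cfsg.Agent.Lib.FischerRecog23.Lift
import Cfsg.Agent.Lib.FischerRecog23.Fusion
import Cfsg.Agent.Lib.FischerRecog23.Hom
import Cfsg.Agent.Lib.FischerRecog23.Control

set_option autoImplicit false

/-!
The Fischer group `Fi23` from the centraliser of a transposition.
-/

namespace CfsgLib.FischerRecog23

open CfsgLib.CosetEnum

/-- The isomorphism from the model sending the central involution to the given element. -/
theorem exists_iso {G : Type*} [Group G] [Finite G] (d : G) (hd : orderOf d = 2)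
    (hq : Cfsg.IsQuasisimple (Subgroup.centralizer ({d} : Set G)))
    [((Subgroup.zpowers d).subgroupOf (Subgroup.centralizer ({d} : Set G))).Normal]
    (e : Cfsg.Spor.IsoFi22 ((Subgroup.centralizer ({d} : Set G)) ⧸
      (Subgroup.zpowers d).subgroupOf (Subgroup.centralizer ({d} : Set G))))
    (hnwc : ∃ g : G, g * d * g⁻¹ ∈ Subgroup.centralizer ({d} : Set G) ∧ g * d * g⁻¹ ≠ d) :
    ∃ φ : Cfsg.Spor.Fi23 ≃* G, φ Fi23.z = d := by
  obtain ⟨E⟩ := exists_emb d hd hq e
  obtain ⟨L⟩ := exists_local hd E hnwc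
  obtain ⟨φ, hinj, hext⟩ := exists_hom L
  have hsurj : Function.Surjective φ := MonoidHom.range_eq_top.mp (range_eq_top L φ hinj hext)
  exact ⟨MulEquiv.ofBijective φ ⟨hinj, hsurj⟩, (hext zH).trans L.map_z⟩

end CfsgLib.FischerRecog23
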