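import Cfsg.Agent.Lib.FischerSylow.Model
import Cfsg.Agent.Lib.FischerRecog23.ModelTypeData
import Cfsg.Agent.Lib.FischerRecog23.ModelTypeRefl

/-!
Kernel-checked facts about the 351 transpositions of `Fi23` commuting with two non-commuting ones.
-/

set_option autoImplicit false
set_option maxRecDepth 100000

namespace CfsgLib.FischerRecog23

open CfsgLib.CosetEnum

namespace Model23

open CfsgLib.FischerSylow (pathOK step)

theorem sig_lt : ∀ i : Fin 351, Data.sigT.get 20 i.val < 31671 := by
  intro i
  exact Nat.le_of_ble_eq_true ((by decide +kernel : ∀ i : Fin 351, Nat.blt (Data.sigT.get 20 i.val) 31671 = true) i)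

theorem back_sig : ∀ i : Fin 351, Nat.beq (Data.backT.get 20 (Data.sigT.get 20 i.val)) i.val = true := by
  decide +kernel

theorem sig_props : ∀ i : Fin 351, (Nat.beq (Fi23.zCol.get 20 (Data.sigT.get 20 i.val)) (Data.sigT.get 20 i.val)
    && Nat.beq (act Fi23.table 7 (Data.sigT.get 20 i.val)) (Data.sigT.get 20 i.val)
    && !Nat.beq (Data.sigT.get 20 i.val) 0 && !Nat.beq (Data.sigT.get 20 i.val) 8006) = true := by
  decide +kernel

/-- At a point fixed by both the number is right. -/
noncomputable def coverTest (k : ℕ) : Bool :=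
  !(Nat.beq (Fi23.zCol.get 20 k) k && Nat.beq (act Fi23.table 7 k) k) ||
  (Nat.blt (Data.backT.get 20 k) 351 && Nat.beq (Data.sigT.get 20 (Data.backT.get 20 k)) k)

theorem coverTest_0 : allFrom coverTest 4096 0 = true := by decide +kernel
theorem coverTest_1 : allFrom coverTest 4096 4096 = true := by decide +kernel
theorem coverTest_2 : allFrom coverTest 4096 8192 = true := by decide +kernel
theorem coverTest_3 : allFrom coverTest 4096 12288 = true := by decide +kernel
theorem coverTest_4 : allFrom coverTest 4096 16384 = true := by decide +kernel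
theorem coverTest_5 : allFrom coverTest 4096 20480 = true := by decide +kernel
theorem coverTest_6 : allFrom coverTest 4096 24576 = true := by decide +kernel
theorem coverTest_7 : allFrom coverTest 2999 28672 = true := by decide +kernel

theorem coverTest_ok (k : ℕ) (hk : k < 31671) : coverTest k = true := by
  rcases (by omega : k < 4096 ∨ (4096 ≤ k ∧ k < 8192) ∨ (8192 ≤ k ∧ k < 12288) ∨ (12288 ≤ k ∧ k < 16384) ∨
      (16384 ≤ k ∧ k < 20480) ∨ (20480 ≤ k ∧ k < 24576) ∨ (24576 ≤ k ∧ k < 28672) ∨ (28672 ≤ k)) with
    h | h | h | h | h | h | h | h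
  · exact allFrom_spec _ _ _ coverTest_0 k (by omega) (by omega)
  · exact allFrom_spec _ _ _ coverTest_1 k (by omega) (by omega)
  · exact allFrom_spec _ _ _ coverTest_2 k (by omega) (by omega)
  · exact allFrom_spec _ _ _ coverTest_3 k (by omega) (by omega)
  · exact allFrom_spec _ _ _ coverTest_4 k (by omega) (by omega)
  · exact allFrom_spec _ _ _ coverTest_5 k (by omega) (by omega)
  · exact allFrom_spec _ _ _ coverTest_6 k (by omega) (by omega)
  · exact allFrom_spec _ _ _ coverTest_7 k (by omega) (by omega)

/-- The number of a generator. -/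
def gn (k : Fin 7) : Fin 351 := ⟨(Data.gens.getD k.val (0, [])).1 % 351, Nat.mod_lt _ (by decide)⟩

theorem gens_ok : ∀ k : Fin 7,
    pathOK (Data.gens.getD k.val (0, [])).2 (Data.sigT.get 20 (gn k).val) = true := by
  decide +kernel

theorem gens_act : ∀ (k : Fin 7) (j : Fin 351),
    Nat.beq (step (Data.gens.getD k.val (0, [])).2 (Data.sigT.get 20 j.val))
      (Data.sigT.get 20 (Refl7.pt (Refl7.rv (Refl7.vv (gn k)) (Refl7.vv j))).val) = true := by
  decide +kernel

theorem par_ok : ∀ t : Fin 351,
    (Nat.blt (Data.parK.get 20 t.val) 7 && Nat.blt (Data.parJ.get 20 t.val) 351 &&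
      ((Nat.beq (Data.rankT.get 20 t.val) 0 &&
          Nat.beq ((Data.gens.getD (Data.parK.get 20 t.val) (0, [])).1 % 351) t.val) ||
        (Nat.blt (Data.rankT.get 20 (Data.parJ.get 20 t.val)) (Data.rankT.get 20 t.val) &&
          Nat.beq
            (Refl7.pt (Refl7.rv
              (Refl7.vv ⟨(Data.gens.getD (Data.parK.get 20 t.val) (0, [])).1 % 351, Nat.mod_lt _ (by decide)⟩)
              (Refl7.vv ⟨Data.parJ.get 20 t.val % 351, Nat.mod_lt _ (by decide)⟩))).val t.val))) = true := by
  decide +kernel

end Model23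

end CfsgLib.FischerRecog23
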