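import Cfsg.Agent.Lib.FischerSylow.Model
import Cfsg.Agent.Lib.FischerRecog22.ModelType
import Cfsg.Agent.Lib.FischerRecog23.ModelTypeCert

/-!
The presented group `Fi23` with the class of the central involution of its point stabiliser is of type M(23).
-/

set_option autoImplicit false
set_option maxRecDepth 100000

namespace CfsgLib.FischerRecog23

open CfsgLib.CosetEnum

namespace Model23

open CfsgLib.FischerSylow (D p0 fin fin_coe fin_val pi_g letter pathOK moves_path step pt commute_D D_conj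
  D_eq D_mem D_inj exists_D)

local notation "G" => Cfsg.Spor.Fi23
local notation "𝔻" => (conjugatesOf Fi23.z : Set Cfsg.Spor.Fi23)

theorem D_zero : D p0 = Fi23.z := by rw [D_eq (w := 1) (by simp)]; simp

theorem fin_zero : fin 0 = p0 := rfl

theorem pi_z (p : Fin 31671) : ((Fi23.π Fi23.z p : Fin 31671) : ℕ) = Fi23.zCol.get 20 p := by
  have h := moves_path (t := []) (k := 0) (by decide +kernel) p
  rw [fin_zero, D_zero] at h
  exact h

theorem commute_z {k : Fin 31671} : Commute Fi23.z (D k) ↔ Fi23.π Fi23.z k = k :=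
  ⟨fun h => commute_D.1 h.eq, fun h => commute_D.2 h⟩

/-- The link. -/
def linkSet : Set G := {y : G | y ∈ 𝔻 ∧ y ≠ Fi23.z ∧ Commute Fi23.z y}

theorem linkSet_sub {y : G} (hy : y ∈ linkSet) : y ∈ Fi23.H := by
  rw [← Fi23.centralizer_z]
  exact Subgroup.mem_centralizer_singleton_iff.2 hy.2.2.eq.symm

theorem sel_pt : ∀ j : Fin 9, Fi23.sel.getD j.val 15 < 10 ∧
    Nat.beq (FischerSylow.ptN (Fi23.sel.getD j.val 15)) 0 = false := by decide

theorem letter_link (j : Fin 9) : Fi23.g (Fi23.sel.getD j.val 15) ∈ linkSet := by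
  obtain ⟨hl, hne⟩ := sel_pt j
  refine ⟨by rw [letter _ hl]; exact D_mem _, fun he => ?_, ?_⟩
  · rw [letter _ hl, ← D_zero] at he
    exact Nat.ne_of_beq_eq_false hne (congrArg Fin.val (D_inj he))
  · exact (Fi23.z_comm _ (Fi23.mem_sub _ ((by decide : ∀ j : Fin 9, Fi23.sel.getD j.val 15 ∈ Fi23.sel) j))).symm

theorem link_closure : Subgroup.closure linkSet = Fi23.H := by
  refine le_antisymm ((Subgroup.closure_le _).2 fun y hy => linkSet_sub hy) ?_
  conv_lhs => rw [Fi23.sub_eq_closure]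
  refine (Subgroup.closure_le _).2 ?_
  rintro _ ⟨j, rfl⟩
  exact Subgroup.subset_closure (letter_link j)

theorem lab_root : (Nat.beq (Fi23.lab.get 20 1) 1 && Nat.beq (Fi23.root.get 20 1) 1 &&
    Nat.beq (Fi23.lab.get 20 52) 2 && Nat.beq (Fi23.root.get 20 2) 52 &&
    Nat.beq (Fi23.lab.get 20 0) 0 && Nat.beq (Fi23.root.get 20 0) 0 &&
    Nat.beq (Fi23.lab.get 20 (FischerSylow.ptN 0)) 2 && !Nat.beq (Fi23.zCol.get 20 1) 1) = true := by
  decide +kernel

/-- The root of the orbit of non-commuting points. -/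
abbrev r1p : Fin 31671 := ⟨1, Nat.lt_of_succ_le (Nat.le_of_ble_eq_true (Eq.refl true))⟩

/-- The root of the orbit of commuting points. -/
abbrev r2p : Fin 31671 := ⟨52, Nat.lt_of_succ_le (Nat.le_of_ble_eq_true (Eq.refl true))⟩

theorem exists_orbit (r : Fin 31671) (c : ℕ) (hlab : Nat.beq (Fi23.lab.get 20 r.val) c = true)
    (hroot : Nat.beq (Fi23.root.get 20 c) r.val = true) {k : Fin 31671} (hk : Fi23.lab.get 20 k.val = c) :
    ∃ w ∈ Fi23.H, Fi23.π w r = k := by
  have h : k ∈ {k | ∃ w ∈ Fi23.H, Fi23.π w r = k} := by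
    rw [orbit_class Fi23.π Fi23.H Fi23.subTable Fi23.sub_spec.1 Fi23.sub_spec.2 Fi23.lab Fi23.orbPar Fi23.root
      Fi23.orbit_ok r c hlab hroot]
    exact hk
  exact h

/-- The members of the link form one class under the point stabiliser. -/
theorem exists_H {k : Fin 31671} (hk : Fi23.π Fi23.z k = k) (h0 : k ≠ p0) :
    ∃ w ∈ Fi23.H, Fi23.π w (pt 0) = k := by
  have h := lab_root
  simp only [Bool.and_eq_true, Bool.not_eq_true'] at h
  obtain ⟨⟨⟨⟨⟨⟨⟨l1, r1⟩, l2⟩, r2⟩, l0⟩, r0⟩, la⟩, z1⟩ := h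
  have h3 := Nat.le_of_ble_eq_true (Fi23.lab_lt _ k.2)
  rcases (by omega : Fi23.lab.get 20 k.val = 0 ∨ Fi23.lab.get 20 k.val = 1 ∨ Fi23.lab.get 20 k.val = 2) with
    h | h | h
  · obtain ⟨w, hw, rfl⟩ := exists_orbit p0 0 l0 r0 h
    exact absurd (Fi23.sub_fix (by omega) w hw) h0
  · obtain ⟨w, hw, rfl⟩ := exists_orbit r1p 1 l1 r1 h
    have hc : Fi23.π Fi23.z * Fi23.π w = Fi23.π w * Fi23.π Fi23.z := by
      rw [← map_mul, ← map_mul, Fi23.z_comm w hw]
    have h1 := congrArg (fun e : Equiv.Perm (Fin 31671) => e r1p) hc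
    simp only [Equiv.Perm.mul_apply] at h1
    rw [hk] at h1
    have h2 := congrArg Fin.val ((Fi23.π w).injective h1.symm)
    rw [pi_z] at h2
    exact absurd h2 (Nat.ne_of_beq_eq_false z1)
  · obtain ⟨w, hw, rfl⟩ := exists_orbit r2p 2 l2 r2 h
    obtain ⟨v, hv, hva⟩ := exists_orbit r2p 2 l2 r2 (k := pt 0) (Nat.eq_of_beq_eq_true la)
    refine ⟨w * v⁻¹, mul_mem hw (inv_mem hv), ?_⟩
    rw [← hva, map_mul, map_inv, Equiv.Perm.mul_apply]
    simp

theorem g_zero : Fi23.g 0 ∈ Fi23.H := Fi23.mem_sub 0 (by decide)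

theorem link_conj {y : G} (hy : y ∈ linkSet) : ∃ w ∈ Fi23.H, y = w * Fi23.g 0 * w⁻¹ := by
  obtain ⟨hy, hne, hco⟩ := hy
  obtain ⟨k, rfl⟩ := exists_D hy
  obtain ⟨w, hw, rfl⟩ := exists_H (commute_z.1 hco) (fun he => hne (he ▸ D_zero))
  exact ⟨w, hw, by rw [letter 0 (by omega), D_conj]⟩

theorem conj_link {w : G} (hw : w ∈ Fi23.H) : w * Fi23.g 0 * w⁻¹ ∈ linkSet := by
  have h : Fi23.g 0 ∈ linkSet := letter_link 0
  have hz : w * Fi23.z * w⁻¹ = Fi23.z := by rw [Fi23.z_comm w hw, mul_inv_cancel_right]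
  refine ⟨IsConj.trans h.1 (isConj_iff.2 ⟨w, rfl⟩), fun he => ?_, ?_⟩
  · exact h.2.1 (mul_left_cancel (mul_right_cancel (he.trans hz.symm)))
  · show Fi23.z * (w * Fi23.g 0 * w⁻¹) = w * Fi23.g 0 * w⁻¹ * Fi23.z
    calc Fi23.z * (w * Fi23.g 0 * w⁻¹) = (w * Fi23.z * w⁻¹) * (w * Fi23.g 0 * w⁻¹) := by rw [hz]
      _ = w * (Fi23.z * Fi23.g 0) * w⁻¹ := by group
      _ = w * (Fi23.g 0 * Fi23.z) * w⁻¹ := by rw [h.2.2.eq]
      _ = (w * Fi23.g 0 * w⁻¹) * (w * Fi23.z * w⁻¹) := by group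
      _ = w * Fi23.g 0 * w⁻¹ * Fi23.z := by rw [hz]

theorem exists_hom : ∃ f : ↥Fi23.H →* Cfsg.Spor.Fi22, Function.Surjective f ∧
    f.ker = Subgroup.center ↥Fi23.H ∧ f ⟨Fi23.g 0, g_zero⟩ = Fi22U6.z := by
  haveI : Finite G := Fi23.finite
  haveI : Finite Cfsg.Spor.Fi22 := Fi22.finite
  haveI := Fi22.Simple.isSimple
  obtain ⟨f, -, hf⟩ := exists_hom_of_corr Fi23.π Fi22.π Fi22.injective Fi23.σ Fi23.σ_injective
    (fun j : Fin 9 => Fi23.g (Fi23.sel.getD j 15)) (fun j : Fin 9 => Fi22.g j) Fi23.H Fi23.sub_eq_closure.le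
    Fi23.corr
  have hsurj : Function.Surjective f := by
    rw [← MonoidHom.range_eq_top, eq_top_iff]
    refine Fi22.translation.closure_top.trans ((Subgroup.closure_le _).mpr ?_)
    rintro _ ⟨x, hx, rfl⟩
    rcases Fi22.gen_or_one x hx with h | h
    · exact ⟨_, hf ⟨x, h⟩ (Fi23.mem_sub _ ((by decide : ∀ j : Fin 9, Fi23.sel.getD j 15 ∈ Fi23.sel) _))⟩
    · show Fi22.g x ∈ f.range
      rw [h]
      exact f.range.one_mem
  refine ⟨f, hsurj, ?_, hf (0 : Fin 9) g_zero⟩
  have hle : Subgroup.center ↥Fi23.H ≤ f.ker := fun v hv => by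
    have h1 : f v ∈ Subgroup.center Cfsg.Spor.Fi22 := by
      rw [Subgroup.mem_center_iff]
      intro y
      obtain ⟨u, rfl⟩ := hsurj y
      rw [← map_mul, ← map_mul, Subgroup.mem_center_iff.1 hv u]
    rwa [FischerRecog22.Model22.center_bot, Subgroup.mem_bot] at h1
  refine (Subgroup.eq_of_le_of_card_ge hle (le_of_eq ?_)).symm
  obtain ⟨hc, -, -⟩ := Fi23.doubleCover
  have h1 := f.ker.index_mul_card
  rw [Subgroup.index_ker, MonoidHom.range_eq_top.2 hsurj, Subgroup.card_top, Fi22.card_group, Fi23.card_H] at h1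
  omega

theorem link_type (K : Subgroup G) (hK : K = Fi23.H) :
    Cfsg.IsOfTypeM22 (↥K ⧸ Subgroup.center ↥K)
      ((QuotientGroup.mk : ↥K → _) '' {x : ↥K | (x : G) ∈ linkSet}) := by
  subst hK
  obtain ⟨f, hsurj, hker, ha⟩ := exists_hom
  let e := (QuotientGroup.quotientMulEquivOfEq hker.symm).trans (QuotientGroup.quotientKerEquivOfSurjective f hsurj)
  have he : ∀ x : ↥Fi23.H, e (x : ↥Fi23.H ⧸ Subgroup.center ↥Fi23.H) = f x := fun x => rfl
  have hset : (QuotientGroup.mk : ↥Fi23.H → _) '' {x : ↥Fi23.H | (x : G) ∈ linkSet} =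
      e.symm '' conjugatesOf Fi22U6.z := by
    ext y
    constructor
    · rintro ⟨x, hx, rfl⟩
      obtain ⟨w, hw, hxe⟩ := link_conj hx
      refine ⟨f x, ?_, ?_⟩
      · have hx' : x = ⟨w, hw⟩ * ⟨Fi23.g 0, g_zero⟩ * (⟨w, hw⟩ : ↥Fi23.H)⁻¹ := Subtype.ext hxe
        exact isConj_iff.2 ⟨f ⟨w, hw⟩, by rw [hx', map_mul, map_mul, map_inv, ha]⟩
      · rw [← he, e.symm_apply_apply]
    · rintro ⟨v, hv, rfl⟩
      obtain ⟨u, rfl⟩ := isConj_iff.1 hv
      obtain ⟨w, rfl⟩ := hsurj u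
      refine ⟨w * ⟨Fi23.g 0, g_zero⟩ * w⁻¹, conj_link w.2, ?_⟩
      apply e.injective
      rw [e.apply_symm_apply, he, map_mul, map_mul, map_inv, ha]
  rw [hset]
  exact FischerRecog22.typeM22_image e.symm FischerRecog22.typeM22_fi22

/-! ### The common link of the first transposition and the seventh letter -/

/-- The second point. -/
abbrev q0 : Fin 31671 := pt 7

theorem pi_q (p : Fin 31671) : ((Fi23.π (D q0) p : Fin 31671) : ℕ) = act Fi23.table 7 p := by
  rw [show D q0 = Fi23.g 7 from (letter 7 (by omega)).symm]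
  exact pi_g (by omega) p

theorem not_commute : ¬ Commute Fi23.z (D q0) := by
  intro h
  have h1 := congrArg Fin.val (commute_z.1 h)
  rw [pi_z] at h1
  exact absurd h1 (Nat.ne_of_beq_eq_false (by decide +kernel))

/-- The point with a number. -/
noncomputable def sig (i : Fin 351) : Fin 31671 := ⟨Data.sigT.get 20 i.val, sig_lt i⟩

theorem sig_injective : Function.Injective sig := fun i j h => Fin.ext (by
  rw [← Nat.eq_of_beq_eq_true (back_sig i), ← Nat.eq_of_beq_eq_true (back_sig j),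
    show Data.sigT.get 20 i.val = _ from congrArg Fin.val h]
  rfl)

/-- The members commuting with both and different from both. -/
def common : Set G :=
  {y : G | y ∈ 𝔻 ∧ y ≠ Fi23.z ∧ Commute Fi23.z y} ∩ {y : G | y ∈ 𝔻 ∧ y ≠ D q0 ∧ Commute (D q0) y}

theorem common_eq : common = Set.range fun i => D (sig i) := by
  ext y
  constructor
  · rintro ⟨⟨hy, hne0, hc0⟩, -, hne7, hc7⟩
    obtain ⟨p, rfl⟩ := exists_D hy
    have e0 := congrArg Fin.val (commute_z.1 hc0)
    rw [pi_z] at e0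
    have e7 := congrArg Fin.val (commute_D.1 hc7.eq)
    rw [pi_q] at e7
    have h := coverTest_ok p.val p.2
    have b0 : Nat.beq (Fi23.zCol.get 20 p.val) p.val = true := by rw [e0]; exact Nat.beq_refl _
    have b7 : Nat.beq (act Fi23.table 7 p.val) p.val = true := by rw [e7]; exact Nat.beq_refl _
    simp only [coverTest, b0, b7, Bool.and_self, Bool.not_true, Bool.false_or, Bool.and_eq_true] at h
    exact ⟨⟨_, Nat.le_of_ble_eq_true h.1⟩, congrArg D (Fin.ext (Nat.eq_of_beq_eq_true h.2))⟩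
  · rintro ⟨i, rfl⟩
    have h := sig_props i
    simp only [Bool.and_eq_true, Bool.not_eq_true'] at h
    obtain ⟨⟨⟨h0, h7⟩, hn0⟩, hn7⟩ := h
    refine ⟨⟨D_mem _, fun he => ?_, ?_⟩, D_mem _, fun he => ?_, ?_⟩
    · rw [← D_zero] at he
      exact Nat.ne_of_beq_eq_false hn0 (congrArg Fin.val (D_inj he))
    · exact commute_z.2 (Fin.ext (by rw [pi_z]; exact Nat.eq_of_beq_eq_true h0))
    · exact Nat.ne_of_beq_eq_false hn7 (congrArg Fin.val (D_inj he))
    · exact commute_D.2 (Fin.ext (by rw [pi_q]; exact Nat.eq_of_beq_eq_true h7))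

/-! ### The transpositions act as the reflections -/

/-- The transposition with a number acts as the reflection with that number. -/
def Good (i : Fin 351) : Prop := ∀ j, Fi23.π (D (sig i)) (sig j) = sig (Refl7.rp i j)

theorem good_gn (k : Fin 7) : Good (gn k) := by
  intro j
  have h := moves_path (gens_ok k) (sig j)
  rw [show fin (Data.sigT.get 20 (gn k).val) = sig (gn k) from fin_coe (sig (gn k))] at h
  refine Fin.ext ?_
  rw [h, Refl7.rp_apply]
  exact Nat.eq_of_beq_eq_true (gens_act k j)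

theorem good_step {i j : Fin 351} (hi : Good i) (hj : Good j) : Good (Refl7.rp i j) := by
  intro l
  have e : D (sig (Refl7.rp i j)) = D (sig i) * D (sig j) * (D (sig i))⁻¹ := by rw [D_conj, hi]
  have hinv : (Fi23.π (D (sig i)))⁻¹ (sig l) = sig ((Refl7.rp i)⁻¹ l) := by
    rw [Equiv.Perm.inv_eq_iff_eq, hi, ← Equiv.Perm.mul_apply, mul_inv_cancel, Equiv.Perm.one_apply]
  have e2 : Refl7.rp (Refl7.rp i j) = Refl7.rp i * Refl7.rp j * (Refl7.rp i)⁻¹ := Refl7.rp_conj _ _
  rw [e, map_mul, map_mul, map_inv, Equiv.Perm.mul_apply, Equiv.Perm.mul_apply, hinv, hj, hi, e2]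
  rfl

theorem good_all (i : Fin 351) : Good i := by
  suffices ∀ (r : ℕ) (t : Fin 351), Data.rankT.get 20 t.val = r → Good t from this _ i rfl
  intro r
  induction r using Nat.strong_induction_on with
  | _ r ih =>
    intro t ht
    have h := par_ok t
    simp only [Bool.and_eq_true, Bool.or_eq_true] at h
    obtain ⟨⟨hk, hj⟩, h⟩ := h
    have hk' : Data.parK.get 20 t.val < 7 := Nat.le_of_ble_eq_true hk
    have hj' : Data.parJ.get 20 t.val < 351 := Nat.le_of_ble_eq_true hj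
    rcases h with ⟨-, he⟩ | ⟨hr, he⟩
    · have h1 := good_gn ⟨_, hk'⟩
      rwa [show gn ⟨_, hk'⟩ = t from Fin.ext (Nat.eq_of_beq_eq_true he)] at h1
    · have hlt : Data.rankT.get 20 (Data.parJ.get 20 t.val) < r := ht ▸ Nat.le_of_ble_eq_true hr
      have h1 := good_step (good_gn ⟨_, hk'⟩) (ih _ hlt ⟨_, hj'⟩ rfl)
      have e : Refl7.rp (gn ⟨_, hk'⟩) ⟨_, hj'⟩ = t := by
        refine Fin.ext ?_
        rw [Refl7.rp_apply]
        have h2 := Nat.eq_of_beq_eq_true he
        simp only [Nat.mod_eq_of_lt hj'] at h2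
        exact h2
      rwa [e] at h1

/-! ### The quotient of the common link group -/

/-- The group generated by the common link. -/
abbrev L : Subgroup G := Subgroup.closure common

theorem exists_act : ∀ l : ↥L, ∃ a : Equiv.Perm (Fin 351), ∀ j, Fi23.π (l : G) (sig j) = sig (a j) := by
  rintro ⟨l, hl⟩
  induction hl using Subgroup.closure_induction with
  | mem y hy =>
    rw [common_eq] at hy
    obtain ⟨i, rfl⟩ := hy
    exact ⟨Refl7.rp i, good_all i⟩
  | one => exact ⟨1, fun j => by simp⟩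
  | mul a b _ _ ha hb =>
    obtain ⟨x, hx⟩ := ha
    obtain ⟨y, hy⟩ := hb
    exact ⟨x * y, fun j => by simp [hx, hy]⟩
  | inv a _ ha =>
    obtain ⟨x, hx⟩ := ha
    exact ⟨x⁻¹, fun j => by
      rw [map_inv, Equiv.Perm.inv_eq_iff_eq, hx, ← Equiv.Perm.mul_apply, mul_inv_cancel, Equiv.Perm.one_apply]⟩

/-- The action on the numbers. -/
noncomputable def phi : ↥L →* Equiv.Perm (Fin 351) :=
  MonoidHom.mk' (fun l => (exists_act l).choose) fun a b => Equiv.ext fun j => sig_injective (by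
    rw [← (exists_act (a * b)).choose_spec j, Subgroup.coe_mul, map_mul, Equiv.Perm.mul_apply,
      (exists_act b).choose_spec j, (exists_act a).choose_spec, Equiv.Perm.mul_apply])

theorem phi_spec (l : ↥L) (j : Fin 351) : Fi23.π (l : G) (sig j) = sig (phi l j) :=
  (exists_act l).choose_spec j

theorem phi_gen (i : Fin 351) (h : D (sig i) ∈ L) : phi ⟨_, h⟩ = Refl7.rp i :=
  Equiv.ext fun j => sig_injective ((phi_spec ⟨_, h⟩ j).symm.trans (good_all i j))

theorem gen_mem (i : Fin 351) : D (sig i) ∈ L :=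
  Subgroup.subset_closure (by rw [common_eq]; exact ⟨i, rfl⟩)

theorem ker_phi : phi.ker = Subgroup.center ↥L := by
  ext g
  rw [MonoidHom.mem_ker, Subgroup.mem_center_iff]
  constructor
  · intro h w
    obtain ⟨w, hw⟩ := w
    apply Subtype.ext
    show w * g = g * w
    induction hw using Subgroup.closure_induction with
    | mem y hy =>
      rw [common_eq] at hy
      obtain ⟨i, rfl⟩ := hy
      have h1 := D_conj (g : G) (sig i)
      rw [phi_spec, h, Equiv.Perm.one_apply, mul_inv_eq_iff_eq_mul] at h1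
      exact h1.symm
    | one => simp
    | mul a b _ _ ha hb => rw [mul_assoc, hb, ← mul_assoc, ha, mul_assoc]
    | inv a _ ha =>
      calc a⁻¹ * (g : G) = a⁻¹ * ((g : G) * a) * a⁻¹ := by group
        _ = a⁻¹ * (a * (g : G)) * a⁻¹ := by rw [ha]
        _ = (g : G) * a⁻¹ := by group
  · intro h
    refine Equiv.ext fun i => sig_injective (D_inj ?_)
    rw [← phi_spec, ← D_conj, Equiv.Perm.one_apply]
    have h2 : D (sig i) * (g : G) = g * D (sig i) := congrArg Subtype.val (h ⟨_, gen_mem i⟩)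
    rw [← h2, mul_inv_cancel_right]

theorem range_phi : phi.range = Subgroup.closure (Set.range Refl7.rp) := by
  have htop : (⊤ : Subgroup ↥L) = Subgroup.closure (Subtype.val ⁻¹' common) :=
    (Subgroup.closure_closure_coe_preimage (k := common)).symm
  rw [MonoidHom.range_eq_map, htop, MonoidHom.map_closure]
  refine congrArg _ (Set.ext fun x => ⟨?_, ?_⟩)
  · rintro ⟨⟨y, hy'⟩, hy, rfl⟩
    have hy : y ∈ common := hy
    rw [common_eq] at hy
    obtain ⟨i, rfl⟩ := hy
    exact ⟨i, (phi_gen i hy').symm⟩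
  · rintro ⟨i, rfl⟩
    exact ⟨⟨_, gen_mem i⟩, show D (sig i) ∈ common by rw [common_eq]; exact ⟨i, rfl⟩, phi_gen i _⟩

theorem common_proj :
    Cfsg.IsProjReflectionGroupModThree (↥L ⧸ Subgroup.center ↥L) 7 (-1) 1 :=
  ⟨Refl7.Q7, Refl7.nondegenerate, Refl7.gram_det,
    ⟨((QuotientGroup.quotientMulEquivOfEq ker_phi.symm).trans (QuotientGroup.quotientKerEquivRange phi)).trans
      (((MulEquiv.subgroupCongr (range_phi.trans Refl7.range_psi0.symm)).trans
        (QuotientGroup.quotientKerEquivRange Refl7.psi0).symm).trans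
          (QuotientGroup.quotientMulEquivOfEq Refl7.ker_psi0))⟩⟩

theorem center_bot : Subgroup.center G = ⊥ := by
  haveI : Finite G := Fi23.finite
  haveI := Fi23.Simple.isSimple
  exact center_eq_bot_of_simple (K := G) (by rw [Fi23.card_group]; norm_num)

end Model23

open Model23 in
/-- The presented `Fi23` is of type M(23) for the class of the central involution. -/
theorem typeM23_fi23 :
    Cfsg.IsOfTypeM23 Cfsg.Spor.Fi23 (conjugatesOf CfsgLib.CosetEnum.Fi23.z) :=
  ⟨center_bot, Fi23.z, mem_conjugatesOf_self, FischerSylow.D q0, FischerSylow.D_mem q0, not_commute,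
    link_type _ link_closure, 1, one_ne_zero, common_proj⟩

universe u v

/-- The central quotient of a generated subgroup along an isomorphism, with the images of the generators. -/
theorem exists_quot_congr {X : Type u} {Y : Type v} [Group X] [Group Y] (f : X ≃* Y) (S : Set X) {T : Set Y}
    (hT : T = f '' S) :
    ∃ t : (↥(Subgroup.closure S) ⧸ Subgroup.center ↥(Subgroup.closure S)) ≃*
        (↥(Subgroup.closure T) ⧸ Subgroup.center ↥(Subgroup.closure T)),
      t '' ((QuotientGroup.mk : ↥(Subgroup.closure S) → _) '' {x : ↥(Subgroup.closure S) | (x : X) ∈ S}) =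
        (QuotientGroup.mk : ↥(Subgroup.closure T) → _) '' {x : ↥(Subgroup.closure T) | (x : Y) ∈ T} := by
  subst hT
  have h : (Subgroup.closure S).map f.toMonoidHom = Subgroup.closure (f '' S) := MonoidHom.map_closure _ _
  let e : ↥(Subgroup.closure S) ≃* ↥(Subgroup.closure (f '' S)) :=
    (f.subgroupMap (Subgroup.closure S)).trans (MulEquiv.subgroupCongr h)
  have hz : (Subgroup.center ↥(Subgroup.closure S)).map e.toMonoidHom =
      Subgroup.center ↥(Subgroup.closure (f '' S)) := by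
    ext v
    erw [Subgroup.mem_map_equiv]
    rw [Subgroup.mem_center_iff, Subgroup.mem_center_iff]
    constructor
    · intro hv u
      apply e.symm.injective
      rw [map_mul, map_mul]
      exact hv (e.symm u)
    · intro hv u
      apply e.injective
      rw [map_mul, map_mul, e.apply_symm_apply]
      exact hv (e u)
  have he : ∀ x, ((e x : ↥(Subgroup.closure (f '' S))) : Y) = f (x : X) := fun x => rfl
  refine ⟨QuotientGroup.congr _ _ e hz, Set.ext fun y => ⟨?_, ?_⟩⟩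
  · rintro ⟨_, ⟨x, hx, rfl⟩, rfl⟩
    exact ⟨e x, ⟨(x : X), hx, rfl⟩, rfl⟩
  · rintro ⟨x, hx, rfl⟩
    obtain ⟨a, ha, hax⟩ := hx
    refine ⟨_, ⟨⟨a, Subgroup.subset_closure ha⟩, ha, rfl⟩, ?_⟩
    exact congrArg QuotientGroup.mk (Subtype.ext hax)

/-- Type M(23) along an isomorphism. -/
theorem typeM23_image {X : Type u} {Y : Type v} [Group X] [Group Y] (f : X ≃* Y) {E : Set X}
    (h : Cfsg.IsOfTypeM23 X E) : Cfsg.IsOfTypeM23 Y (f '' E) := by
  obtain ⟨hz, d, hd, c, hc, hdc, h22, c₃, hc₃, Q, hQ, hdet, ⟨e'⟩⟩ := h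
  have hcomm : ∀ a b : X, Commute (f a) (f b) ↔ Commute a b := fun a b =>
    ⟨fun h => f.injective (by rw [map_mul, map_mul]; exact h.eq), fun h => h.map f⟩
  have hs : ∀ a : X, {y : Y | y ∈ f '' E ∧ y ≠ f a ∧ Commute (f a) y} =
      f '' {y : X | y ∈ E ∧ y ≠ a ∧ Commute a y} := by
    intro a
    ext y
    constructor
    · rintro ⟨⟨x, hx, rfl⟩, hne, hco⟩
      exact ⟨x, ⟨hx, fun he => hne (congrArg f he), (hcomm a x).1 hco⟩, rfl⟩
    · rintro ⟨x, ⟨hx, hne, hco⟩, rfl⟩
      exact ⟨⟨x, hx, rfl⟩, fun he => hne (f.injective he), (hcomm a x).2 hco⟩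
  refine ⟨?_, f d, ⟨d, hd, rfl⟩, f c, ⟨c, hc, rfl⟩, fun h => hdc ((hcomm d c).1 h), ?_, c₃, hc₃, ?_⟩
  · refine (Subgroup.eq_bot_iff_forall _).2 fun y hy => ?_
    have h1 : f.symm y ∈ Subgroup.center X := Subgroup.mem_center_iff.2 fun g => f.injective (by
      rw [map_mul, map_mul, f.apply_symm_apply]; exact Subgroup.mem_center_iff.1 hy (f g))
    rw [hz, Subgroup.mem_bot] at h1
    rw [← f.apply_symm_apply y, h1, map_one]
  · obtain ⟨t, ht⟩ := exists_quot_congr f {y : X | y ∈ E ∧ y ≠ d ∧ Commute d y} (hs d)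
    rw [← ht]
    exact FischerRecog22.typeM22_image t h22
  · obtain ⟨t⟩ := FischerRecog22.nonempty_quot_congr f
      ({y : X | y ∈ E ∧ y ≠ d ∧ Commute d y} ∩ {y : X | y ∈ E ∧ y ≠ c ∧ Commute c y})
      (T := {y : Y | y ∈ f '' E ∧ y ≠ f d ∧ Commute (f d) y} ∩
        {y : Y | y ∈ f '' E ∧ y ≠ f c ∧ Commute (f c) y})
      (by rw [hs d, hs c, Set.image_inter f.injective])
    exact ⟨Q, hQ, hdet, ⟨t.trans e'⟩⟩

/-- The model class of any copy of `Fi23`. -/
theorem typeM23_transport {G : Type u} [Group G] (e : Cfsg.Spor.Fi23 ≃* G) :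
    Cfsg.IsThreeTranspositionClass (conjugatesOf (e Fi23.z)) ∧
      Cfsg.IsOfTypeM23 G (conjugatesOf (e Fi23.z)) := by
  have himg : e '' conjugatesOf Fi23.z = conjugatesOf (e Fi23.z) := by
    ext y
    constructor
    · rintro ⟨x, hx, rfl⟩
      obtain ⟨w, rfl⟩ := isConj_iff.1 hx
      exact isConj_iff.2 ⟨e w, by simp⟩
    · intro hy
      obtain ⟨w, rfl⟩ := isConj_iff.1 hy
      exact ⟨e.symm w * Fi23.z * (e.symm w)⁻¹, isConj_iff.2 ⟨e.symm w, rfl⟩, by simp⟩
  refine ⟨?_, himg ▸ typeM23_image e typeM23_fi23⟩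
  obtain ⟨⟨ho, hp⟩, -, hcl⟩ := Fi23.threeClass
  refine ⟨⟨?_, ?_⟩, ⟨e Fi23.z, mem_conjugatesOf_self, rfl⟩, ?_⟩
  · rw [← himg]
    rintro _ ⟨x, hx, rfl⟩
    rw [e.orderOf_eq, ho x hx]
  · rw [← himg]
    rintro _ ⟨x, hx, rfl⟩ _ ⟨y, hy, rfl⟩
    rw [← map_mul, ← map_pow, ← map_pow]
    rcases hp x hx y hy with h | h
    · exact Or.inl (by rw [h, map_one])
    · exact Or.inr (by rw [h, map_one])
  · rw [← himg]
    have h1 := MonoidHom.map_closure e.toMonoidHom (conjugatesOf Fi23.z)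
    rw [hcl, Subgroup.map_top_of_surjective _ e.surjective] at h1
    exact h1.symm

end CfsgLib.FischerRecog23
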