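import Cfsg.Agent.Lib.ThreeTrans.Fischer
import Cfsg.Agent.Lib.FischerFi22.Iso
import Cfsg.Agent.Lib.Components.Quasisimple

set_option autoImplicit false
set_option linter.style.haveILetI false

/-!
A quasisimple involution centraliser whose quotient is of type M(22) has the Fischer group as its quotient.
-/

namespace CfsgLib.FischerRecog23

universe u

/-- A quasisimple group of type M(22) with trivial centre is the Fischer group. -/
theorem isoFi22_of_typeM22 {Q : Type u} [Group Q] [Finite Q] (hq : Cfsg.IsQuasisimple Q) {E : Set Q}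
    (hE : Cfsg.IsThreeTranspositionClass E) (h22 : Cfsg.IsOfTypeM22 Q E) : Cfsg.Spor.IsoFi22 Q := by
  haveI : Group.IsPerfect Q := CfsgLib.Components.quasisimple_isPerfect hq
  have hsol : ∀ N : Subgroup Q, N.Normal → Group.IsSolvable ↥N → N = ⊥ := by
    intro N hN hNs
    rcases CfsgLib.Components.quasisimple_normal_top_or_central hq hN with h | h
    · subst h
      refine absurd ?_ (CfsgLib.Components.quasisimple_not_isSolvable hq)
      exact Group.isSolvable_of_surjective (f := (Subgroup.topEquiv (G := Q)).toMonoidHom)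
        Subgroup.topEquiv.surjective
    · exact le_bot_iff.1 (h.trans h22.1.le)
  have hperf : ⁅commutator Q, commutator Q⁆ = commutator Q := by
    rw [Group.IsPerfect.commutator_eq_top, ← commutator_def, Group.IsPerfect.commutator_eq_top]
  have S : CfsgLib.FischerType.Setting E :=
    ⟨hE, CfsgLib.ThreeTrans.isPrimitive_of_fischer hsol hperf hE, h22.1⟩
  obtain ⟨φ, -⟩ := CfsgLib.FischerFi22.exists_iso S h22
  exact ⟨φ.symm⟩

/-- The quotient of the centraliser by the central involution is the Fischer group. -/
theorem isoFi22_quot {G : Type*} [Group G] [Finite G] (d : G) (_hd : orderOf d = 2)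
    (hq : Cfsg.IsQuasisimple (Subgroup.centralizer ({d} : Set G)))
    [((Subgroup.zpowers d).subgroupOf (Subgroup.centralizer ({d} : Set G))).Normal]
    (htype : ∃ E : Set ((Subgroup.centralizer ({d} : Set G)) ⧸
        (Subgroup.zpowers d).subgroupOf (Subgroup.centralizer ({d} : Set G))),
      Cfsg.IsThreeTranspositionClass E ∧ Cfsg.IsOfTypeM22 _ E) :
    Cfsg.Spor.IsoFi22 ((Subgroup.centralizer ({d} : Set G)) ⧸
      (Subgroup.zpowers d).subgroupOf (Subgroup.centralizer ({d} : Set G))) := by
  obtain ⟨E, hE, h22⟩ := htype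
  haveI : Nontrivial ((Subgroup.centralizer ({d} : Set G)) ⧸
      (Subgroup.zpowers d).subgroupOf (Subgroup.centralizer ({d} : Set G))) := by
    obtain ⟨a, -, b, -, hab, -⟩ := h22.2
    exact nontrivial_of_ne a b fun h => hab (h ▸ Commute.refl a)
  exact isoFi22_of_typeM22 (CfsgLib.Components.quasisimple_of_surjective hq
    (f := QuotientGroup.mk' _) (QuotientGroup.mk'_surjective _)) hE h22

end CfsgLib.FischerRecog23
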