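import Cfsg.Agent.Lib.FischerRecog23.Conf

set_option autoImplicit false

/-!
Descent along orbit trees for configurations of link points.
-/

namespace CfsgLib.FischerRecog23

open CfsgLib.CosetEnum
open CfsgLib.CosetEnum.Fi23 (π z zCol)
open CfsgLib.FischerSylow (D p0 fin Moves step pathOK memb memb_spec commute_D)

local notation "M" => Cfsg.Spor.Fi23

/-- A point with a path to it. -/
abbrev Path := List ℕ × ℕ

theorem moves_base : Moves p0 (fun k => zCol.get 20 k) := by
  intro p
  have h := (FischerSylow.moves_path (t := []) (k := 0) (by decide +kernel)) p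
  rw [show fin 0 = p0 from Fin.ext (FischerSylow.fin_val (by norm_num))] at h
  rw [h, step]
  rfl

/-- The adjacency of two indices. -/
def adjb (E : List (ℕ × ℕ)) (i j : ℕ) : Bool := decide ((i, j) ∈ E ∨ (j, i) ∈ E)

/-- The test of a point against the fixed ones. -/
noncomputable def condAt (E : List (ℕ × ℕ)) (n : ℕ) (k : ℕ) : List Path → ℕ → Bool
  | [], _ => true
  | q :: r, i => (!Nat.beq k q.2) && (Nat.beq (step q.1 k) k == !adjb E i n) && condAt E n k r (i + 1)

theorem condAt_spec {E : List (ℕ × ℕ)} {N n : ℕ} {P : ℕ → Fin 31671} (h : Conf N E P) (hn : n < N) :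
    ∀ (fx : List Path) (i : ℕ), (∀ q ∈ fx, pathOK q.1 q.2 = true) → i + fx.length ≤ n →
      (∀ j < fx.length, P (i + j) = fin (fx.getD j ([], 0)).2) → condAt E n (P n).val fx i = true := by
  intro fx
  induction fx with
  | nil => intros; rfl
  | cons q r ih =>
    intro i hok hlen hpre
    have hq : P i = fin q.2 := by simpa using hpre 0 (by simp)
    have hlt : i < n := by simp only [List.length_cons] at hlen; omega
    obtain ⟨hne, hc⟩ := h.2 i (hlt.trans hn) n hn (by omega)
    obtain ⟨hk, hm⟩ := FischerSylow.pathOK_spec (hok q (by simp))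
    have hrest := ih (i + 1) (fun q' hq' => hok q' (List.mem_cons_of_mem _ hq'))
      (by simp only [List.length_cons] at hlen; omega)
      (fun j hj => by simpa [Nat.add_assoc, Nat.add_comm 1] using hpre (j + 1) (by simpa using hj))
    unfold condAt
    rw [hrest, Bool.and_true, Bool.and_eq_true]
    refine ⟨?_, ?_⟩
    · simp only [Bool.not_eq_true']
      refine Bool.eq_false_iff.mpr fun e => hne ?_
      rw [hq]
      exact Fin.ext ((FischerSylow.fin_val hk).trans (Nat.eq_of_beq_eq_true e).symm)
    · have hiff : Nat.beq (step q.1 (P n).val) (P n).val = true ↔ Comm (P i) (P n) := by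
        rw [Comm, hq, ← hm (P n)]
        exact ⟨fun e => Fin.ext (Nat.eq_of_beq_eq_true e), fun e => by rw [e]; exact Nat.beq_refl _⟩
      rw [beq_iff_eq]
      by_cases hE : (i, n) ∈ E ∨ (n, i) ∈ E
      · rw [adjb, decide_eq_true hE]
        exact Bool.eq_false_iff.mpr fun e => (hc.mp (hiff.mp e)) hE
      · rw [adjb, decide_eq_false hE]
        exact hiff.mpr (hc.mpr hE)

/-- A generator of a tree fixes the fixed points. -/
noncomputable def genOK (fx : List Path) (g : Path) : Bool :=
  pathOK g.1 g.2 && Nat.beq (step g.1 0) 0 && fx.all fun q => Nat.beq (step g.1 q.2) q.2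

/-- The test of a tree. -/
noncomputable def treeOK (gens : List Path) : List (ℕ × ℕ × ℕ) → List ℕ → Bool
  | [], _ => true
  | e :: r, seen => Nat.blt e.1 31671 && memb e.2.1 seen && Nat.blt e.2.2 gens.length &&
      Nat.beq (step (gens.getD e.2.2 ([], 0)).1 e.2.1) e.1 && treeOK gens r (e.1 :: seen)

/-- A node of a descent. -/
structure Node where
  /-- The fixed points. -/
  fx : List Path
  /-- The generators. -/
  gens : List Path
  /-- The representatives. -/
  roots : List ℕ
  /-- The tree. -/
  tree : List (ℕ × ℕ × ℕ)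

/-- The test of a node. -/
noncomputable def nodeOK (E : List (ℕ × ℕ)) (S : List ℕ) (N : Node) : Bool :=
  N.fx.all (fun q => pathOK q.1 q.2) && N.gens.all (genOK N.fx) &&
    N.roots.all (fun k => Nat.blt k 31671) && treeOK N.gens N.tree N.roots &&
    S.all fun k => Bool.rec (motive := fun _ => Bool) true (memb k (N.tree.map Prod.fst ++ N.roots))
      (condAt E N.fx.length k N.fx 0)

/-- A point moved to a representative fixing the fixed points. -/
def Reach (N : Node) (k : ℕ) : Prop :=
  k < 31671 ∧ ∃ g : M, π g p0 = p0 ∧ (∀ q ∈ N.fx, π g (fin q.2) = fin q.2) ∧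
    ((π g (fin k) : Fin 31671) : ℕ) ∈ N.roots

theorem tree_reach (N : Node) (hg : N.gens.all (genOK N.fx) = true) :
    ∀ (l : List (ℕ × ℕ × ℕ)) (seen : List ℕ), (∀ k ∈ seen, Reach N k) → treeOK N.gens l seen = true →
      (∀ q ∈ N.fx, pathOK q.1 q.2 = true) → ∀ k ∈ l.map Prod.fst, Reach N k := by
  intro l
  induction l with
  | nil => intro _ _ _ _ k hk; simp at hk
  | cons e r ih =>
    intro seen hseen h hfx k hk
    unfold treeOK at h
    simp only [Bool.and_eq_true] at h
    obtain ⟨⟨⟨⟨h1, h2⟩, h3⟩, h4⟩, h5⟩ := h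
    have he : Reach N e.1 := by
      have hlt : e.1 < 31671 := Nat.le_of_ble_eq_true h1
      obtain ⟨hp, g, hg0, hgf, hgr⟩ := hseen _ (memb_spec h2)
      have hi : e.2.2 < N.gens.length := Nat.le_of_ble_eq_true h3
      have hmem : N.gens.getD e.2.2 ([], 0) ∈ N.gens := by
        rw [List.getD_eq_getElem _ _ hi]; exact List.getElem_mem hi
      generalize N.gens.getD e.2.2 ([], 0) = q at h4 hmem
      have hq := List.all_eq_true.mp hg q hmem
      unfold genOK at hq
      simp only [Bool.and_eq_true, List.all_eq_true] at hq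
      obtain ⟨⟨hq1, hq2⟩, hq3⟩ := hq
      obtain ⟨-, hm⟩ := FischerSylow.pathOK_spec hq1
      refine ⟨hlt, g * D (fin q.2), ?_, fun p hp' => ?_, ?_⟩
      · rw [map_mul, Equiv.Perm.mul_apply,
          show π (D (fin q.2)) p0 = p0 from Fin.ext ((hm p0).trans (Nat.eq_of_beq_eq_true hq2)), hg0]
      · have hk' := (FischerSylow.pathOK_spec (hfx p hp')).1
        have e2 : π (D (fin q.2)) (fin p.2) = fin p.2 := by
          refine Fin.ext ?_
          rw [hm, FischerSylow.fin_val hk']
          exact Nat.eq_of_beq_eq_true (hq3 p hp')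
        rw [map_mul, Equiv.Perm.mul_apply, e2, hgf p hp']
      · have e2 : π (D (fin q.2)) (fin e.2.1) = fin e.1 := by
          refine Fin.ext ?_
          rw [hm, FischerSylow.fin_val hp, FischerSylow.fin_val hlt]
          exact Nat.eq_of_beq_eq_true h4
        have e3 : π (D (fin q.2)) (fin e.1) = fin e.2.1 := by
          rw [← e2, ← Equiv.Perm.mul_apply, ← map_mul, FischerSylow.D_sq, map_one, Equiv.Perm.one_apply]
        rw [map_mul, Equiv.Perm.mul_apply, e3]
        exact hgr
    rcases List.mem_cons.mp (by simpa using hk : k ∈ e.1 :: r.map Prod.fst) with rfl | hk'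
    · exact he
    · refine ih (e.1 :: seen) ?_ h5 hfx k hk'
      intro k' hk'
      rcases List.mem_cons.mp hk' with rfl | hk'
      exacts [he, hseen k' hk']

/-- A configuration with fixed first points. -/
def Pre (fx : List Path) (P : ℕ → Fin 31671) : Prop := ∀ j < fx.length, P j = fin (fx.getD j ([], 0)).2

theorem conf_map {n : ℕ} {E : List (ℕ × ℕ)} {P : ℕ → Fin 31671} (h : Conf n E P) {g : M} (hg : π g p0 = p0) :
    Conf n E fun i => π g (P i) := by
  have key : ∀ p q, Comm (π g p) (π g q) ↔ Comm p q := fun p q => by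
    rw [Comm, Comm, ← FischerSylow.D_conj, map_mul, map_mul, map_inv, Equiv.Perm.mul_apply,
      Equiv.Perm.mul_apply, Equiv.Perm.inv_def, Equiv.symm_apply_apply, (π g).injective.eq_iff]
  refine ⟨fun i hi => ⟨fun e => (h.1 i hi).1 ((π g).injective (e.trans hg.symm)), ?_⟩, fun i hi j hj hij => ?_⟩
  · have h2 := (key (P i) p0).mpr (h.1 i hi).2
    rwa [Comm, hg] at h2
  · exact ⟨fun e => (h.2 i hi j hj hij).1 ((π g).injective e), (key _ _).trans (h.2 i hi j hj hij).2⟩

/-- A property of configurations kept under pulling back along the point stabiliser. -/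
def Inv (Q : (ℕ → Fin 31671) → Prop) : Prop :=
  ∀ (g : M) (P : ℕ → Fin 31671), π g p0 = p0 → Q (fun i => π g (P i)) → Q P

theorem descend {N : ℕ} {E : List (ℕ × ℕ)} {S : List ℕ} {Q : (ℕ → Fin 31671) → Prop} (hQ : Inv Q) (X : Node)
    (hX : nodeOK E S X = true) (hN : X.fx.length < N)
    (hS : ∀ P, Conf N E P → Pre X.fx P → (P X.fx.length).val ∈ S)
    (next : ∀ r ∈ X.roots, ∀ P, Conf N E P → Pre X.fx P → P X.fx.length = fin r → Q P) :
    ∀ P, Conf N E P → Pre X.fx P → Q P := by
  intro P hP hpre
  unfold nodeOK at hX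
  simp only [Bool.and_eq_true, List.all_eq_true] at hX
  obtain ⟨⟨⟨⟨hfx, hg⟩, hr⟩, htree⟩, hcov⟩ := hX
  have hroot : ∀ k ∈ X.roots, Reach X k := fun k hk =>
    ⟨Nat.le_of_ble_eq_true (hr k hk), 1, by rw [map_one]; rfl, fun q _ => by rw [map_one]; rfl,
      by rw [map_one, Equiv.Perm.one_apply, FischerSylow.fin_val (Nat.le_of_ble_eq_true (hr k hk))]; exact hk⟩
  have hcond := condAt_spec hP hN X.fx 0 hfx (by omega) (by simpa [Pre] using hpre)
  have h1 := hcov _ (hS P hP hpre)
  rw [hcond] at h1
  have hk : Reach X (P X.fx.length).val := by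
    rcases List.mem_append.mp (memb_spec h1) with h | h
    exacts [tree_reach X (List.all_eq_true.mpr hg) X.tree X.roots hroot htree hfx _ h, hroot _ h]
  obtain ⟨-, g, hg0, hgf, hgr⟩ := hk
  rw [FischerSylow.fin_coe] at hgr
  refine hQ g P hg0 (next _ hgr _ (conf_map hP hg0) (fun j hj => ?_) ?_)
  · show π g (P j) = _
    rw [hpre j hj]
    refine hgf _ ?_
    rw [List.getD_eq_getElem _ _ hj]
    exact List.getElem_mem hj
  · exact (FischerSylow.fin_coe _).symm

theorem Pre.snoc {fx : List Path} {P : ℕ → Fin 31671} (h : Pre fx P) {t : List ℕ} {k : ℕ}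
    (hk : P fx.length = fin k) : Pre (fx ++ [(t, k)]) P := by
  intro j hj
  rw [List.length_append, List.length_singleton] at hj
  rcases (by omega : j < fx.length ∨ j = fx.length) with h' | rfl
  · rw [h j h', List.getD_append _ _ _ _ h']
  · rw [hk, List.getD_append_right _ _ _ _ le_rfl]; simp

/-- The points of the link commuting with a given one, as a scan. -/
noncomputable def sideTest (t : List ℕ) (a k : ℕ) : Bool :=
  !Nat.beq k 0 && !Nat.beq k a && Nat.beq (zCol.get 20 k) k && Nat.beq (step t k) k

theorem sideTest_spec {t : List ℕ} {a : ℕ} (ht : pathOK t a = true) {p : Fin 31671} (hp : Lk p)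
    (hne : p ≠ fin a) (hc : Comm (fin a) p) : sideTest t a p.val = true := by
  obtain ⟨ha, hm⟩ := FischerSylow.pathOK_spec ht
  have hz : zCol.get 20 p.val = p.val := by
    have h1 : π (D p0) p = p := commute_D.mp (commute_D.mpr hp.2).symm
    have := moves_base p
    rw [h1] at this
    exact this.symm
  have hs : step t p.val = p.val := by rw [← hm p]; exact congrArg Fin.val hc
  have e0 : Nat.beq p.val 0 = false :=
    Bool.eq_false_iff.mpr fun e => hp.1 (Fin.ext (Nat.eq_of_beq_eq_true e))
  have e1 : Nat.beq p.val a = false :=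
    Bool.eq_false_iff.mpr fun e => hne (Fin.ext ((Nat.eq_of_beq_eq_true e).trans (FischerSylow.fin_val ha).symm))
  simp [sideTest, e0, e1, hz, hs, Nat.beq_refl]

end CfsgLib.FischerRecog23
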